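import Cfsg.Agent.Lib.Solv.EPPOSeven.Basic
import Mathlib.GroupTheory.FixedPointFree
import Mathlib.GroupTheory.SpecificGroups.ZGroup

/-!
Groups in which the centralizer of every involution is a 2-group: basic closure properties.
-/

set_option autoImplicit false
set_option linter.style.haveILetI false

namespace Cfsg.Agent.Solv.CITGroups

open Cfsg

universe u v

/-- The centralizer of every involution is a 2-group. -/
def CIT (G : Type u) [Group G] : Prop :=
  ∀ t : G, orderOf t = 2 → IsPGroup 2 (Subgroup.centralizer ({t} : Set G))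

variable {G : Type u} [Group G]

theorem CIT.of_injective {H : Type v} [Group H] (h : CIT G) (f : H →* G) (hf : Function.Injective f) :
    CIT H := fun t ht => by
  have hft : orderOf (f t) = 2 := by rw [orderOf_injective f hf, ht]
  rintro ⟨y, hy⟩
  obtain ⟨k, hk⟩ := h (f t) hft ⟨f y, Subgroup.mem_centralizer_singleton_iff.2 (by
    rw [← map_mul, ← map_mul, Subgroup.mem_centralizer_singleton_iff.1 hy])⟩
  refine ⟨k, Subtype.ext (hf ?_)⟩
  have := congrArg Subtype.val hk
  simpa using this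

theorem CIT.subgroup (h : CIT G) (H : Subgroup G) : CIT H := h.of_injective H.subtype H.subtype_injective

variable [Finite G]

theorem orderOf_two_iff {t : G} : orderOf t = 2 ↔ t * t = 1 ∧ t ≠ 1 := by
  refine ⟨fun h => ⟨?_, fun e => ?_⟩, fun ⟨h, h1⟩ => orderOf_eq_prime (by rw [pow_two]; exact h) h1⟩
  · have := pow_orderOf_eq_one t
    rwa [h, pow_two] at this
  · rw [e, orderOf_one] at h
    omega

/-- An element commuting with an involution is a 2-element. -/
theorem CIT.two_of_commute (h : CIT G) {t y : G} (ht : orderOf t = 2) (hy : Commute y t) :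
    ∃ k : ℕ, orderOf y = 2 ^ k := by
  haveI : Fact (Nat.Prime 2) := ⟨Nat.prime_two⟩
  obtain ⟨k, hk⟩ := IsPGroup.iff_orderOf.1 (h t ht) ⟨y, Subgroup.mem_centralizer_singleton_iff.2 hy⟩
  exact ⟨k, by rwa [Subgroup.orderOf_mk] at hk⟩

theorem CIT.eq_one_of_commute (h : CIT G) {t y : G} (ht : orderOf t = 2) (hy : Odd (orderOf y))
    (hc : Commute y t) : y = 1 := by
  obtain ⟨k, hk⟩ := h.two_of_commute ht hc
  rcases k with _ | k
  · exact orderOf_eq_one_iff.1 (hk.trans (pow_zero 2))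
  · exact absurd (hk ▸ hy) (Nat.not_odd_iff_even.2 ((Nat.even_pow' k.succ_ne_zero).2 even_two))

/-- An element of odd order centralizes no nontrivial 2-element. -/
theorem CIT.fpf (h : CIT G) {y : G} (hy : Odd (orderOf y)) (hy1 : y ≠ 1) {d : G}
    (hd : ∃ k : ℕ, orderOf d = 2 ^ k) (hc : Commute y d) : d = 1 := by
  obtain ⟨k, hk⟩ := hd
  by_contra hd1
  have hk0 : k ≠ 0 := fun e => hd1 (orderOf_eq_one_iff.1 (by rw [hk, e, pow_zero]))
  exact hy1 (h.eq_one_of_commute (orderOf_pow_orderOf_div (orderOf_pos d).ne' (hk ▸ dvd_pow_self 2 hk0)) hy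
    (hc.pow_right _))

theorem CIT.fpf_mem (h : CIT G) {y : G} (hy : Odd (orderOf y)) (hy1 : y ≠ 1) {D : Subgroup G}
    (hD : IsPGroup 2 D) {d : G} (hd : d ∈ D) (hc : Commute y d) : d = 1 := by
  haveI : Fact (Nat.Prime 2) := ⟨Nat.prime_two⟩
  obtain ⟨k, hk⟩ := IsPGroup.iff_orderOf.1 hD ⟨d, hd⟩
  exact h.fpf hy hy1 ⟨k, by rwa [Subgroup.orderOf_mk] at hk⟩ hc

theorem exists_invol_mem {V : Subgroup G} (hV : IsPGroup 2 V) (hne : V ≠ ⊥) : ∃ t ∈ V, orderOf t = 2 := by
  haveI : Fact (Nat.Prime 2) := ⟨Nat.prime_two⟩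
  haveI : Nontrivial V := (Subgroup.nontrivial_iff_ne_bot V).2 hne
  obtain ⟨n, hn0, hn⟩ := hV.nontrivial_iff_card.1 inferInstance
  obtain ⟨x, hx⟩ := exists_prime_orderOf_dvd_card' (G := V) 2 (hn ▸ dvd_pow_self 2 hn0.ne')
  exact ⟨x, x.2, by rw [Subgroup.orderOf_coe, hx]⟩

theorem CIT.centralizer_two (h : CIT G) {V : Subgroup G} (hV : IsPGroup 2 V) (hne : V ≠ ⊥) :
    IsPGroup 2 (Subgroup.centralizer (V : Set G)) := by
  obtain ⟨t, htV, ht⟩ := exists_invol_mem hV hne
  exact (h t ht).to_le (Subgroup.centralizer_le (Set.singleton_subset_iff.2 htV))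

/-- An element whose image normalizes the image of a subgroup of odd prime order can be corrected. -/
theorem lift_normalizer {D : Subgroup G} [D.Normal] (hD : IsPGroup 2 D) {r : ℕ} [Fact r.Prime] (hr2 : r ≠ 2)
    {x : G} (hx : orderOf x = r) {g : G}
    (hg : QuotientGroup.mk' D g ∈ Subgroup.normalizer
      ((Subgroup.zpowers (QuotientGroup.mk' D x) : Subgroup (G ⧸ D)) : Set (G ⧸ D))) :
    ∃ n ∈ Subgroup.normalizer ((Subgroup.zpowers x : Subgroup G) : Set G),
      QuotientGroup.mk' D n = QuotientGroup.mk' D g := by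
  haveI : Fact (Nat.Prime 2) := ⟨Nat.prime_two⟩
  set π := QuotientGroup.mk' D
  set K := (Subgroup.zpowers (π x)).comap π with hK
  have hxK : x ∈ K := Subgroup.mem_zpowers (π x)
  have hgxK : g * x * g⁻¹ ∈ K := by
    show π (g * x * g⁻¹) ∈ Subgroup.zpowers (π x)
    rw [map_mul, map_mul, map_inv]
    exact (Subgroup.mem_normalizer_iff.1 hg _).1 (Subgroup.mem_zpowers _)
  obtain ⟨j, hj⟩ := IsPGroup.iff_card.1 hD
  have hπx : orderOf (π x) = r := by
    rcases (Fact.out : r.Prime).eq_one_or_self_of_dvd _ (hx ▸ orderOf_map_dvd π x) with e | e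
    · exfalso
      have hxD : x ∈ D := (QuotientGroup.eq_one_iff x).1 (orderOf_eq_one_iff.1 e)
      have hd := hx ▸ Subgroup.orderOf_dvd_natCard D hxD
      rw [hj] at hd
      exact hr2 ((Nat.prime_dvd_prime_iff_eq Fact.out Nat.prime_two).1 ((Fact.out : r.Prime).dvd_of_dvd_pow hd))
    · exact e
  have hcK : Nat.card K = r * 2 ^ j := by rw [hK, card_comap_mk', Nat.card_zpowers, hπx, hj]
  have hmul : r ^ (Nat.card K).factorization r = r := by
    rw [hcK, Nat.factorization_mul (Fact.out : r.Prime).ne_zero (pow_ne_zero _ two_ne_zero), Finsupp.add_apply,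
      Nat.factorization_pow]
    simp [(Fact.out : r.Prime).factorization_self, Nat.factorization_eq_zero_of_not_dvd
      (fun hd => hr2 ((Nat.prime_dvd_prime_iff_eq (Fact.out : r.Prime) Nat.prime_two).1 hd))]
  let R : Sylow r K := Sylow.ofCard (Subgroup.zpowers (⟨x, hxK⟩ : K))
    (by rw [Nat.card_zpowers, Subgroup.orderOf_mk, hx, hmul])
  let R' : Sylow r K := Sylow.ofCard (Subgroup.zpowers (⟨g * x * g⁻¹, hgxK⟩ : K))
    (by rw [Nat.card_zpowers, Subgroup.orderOf_mk, hmul, ← hx]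
        exact (orderOf_injective (MulAut.conj g).toMonoidHom (MulAut.conj g).injective x))
  obtain ⟨k, hk⟩ := MulAction.exists_smul_eq K R' R
  set m : G := (k : G) * g
  have hm : m * x * m⁻¹ ∈ Subgroup.zpowers x := by
    have hmem : k * ⟨g * x * g⁻¹, hgxK⟩ * k⁻¹ ∈ (R : Subgroup K) := by
      rw [← hk]
      exact ⟨⟨g * x * g⁻¹, hgxK⟩, Subgroup.mem_zpowers _, rfl⟩
    obtain ⟨i, hi⟩ := Subgroup.mem_zpowers_iff.1 hmem
    refine Subgroup.mem_zpowers_iff.2 ⟨i, ?_⟩
    have := congrArg Subtype.val hi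
    simp only [SubgroupClass.coe_zpow, Subgroup.coe_mul, InvMemClass.coe_inv] at this
    rw [this]
    simp only [m]
    group
  obtain ⟨i, hi⟩ := Subgroup.mem_zpowers_iff.1 (show π k ∈ Subgroup.zpowers (π x) from k.2)
  have hN : ∀ y : G, y * x * y⁻¹ ∈ Subgroup.zpowers x →
      y ∈ Subgroup.normalizer ((Subgroup.zpowers x : Subgroup G) : Set G) := by
    intro y hy
    have hle : (Subgroup.zpowers x).map (MulAut.conj y).toMonoidHom ≤ Subgroup.zpowers x := by
      rw [MonoidHom.map_zpowers, Subgroup.zpowers_le]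
      exact hy
    have heq := Subgroup.eq_of_le_of_card_ge hle
      (Subgroup.card_map_of_injective (MulAut.conj y).injective).ge
    refine Subgroup.mem_normalizer_iff.2 fun w => ⟨fun hw => hle ⟨w, hw, rfl⟩, fun hw => ?_⟩
    obtain ⟨w', hw', e⟩ := heq.ge hw
    rwa [← (MulAut.conj y).injective e]
  refine ⟨x ^ (-i) * m, mul_mem (Subgroup.le_normalizer (zpow_mem (Subgroup.mem_zpowers x) _)) (hN m hm), ?_⟩
  rw [map_mul, map_zpow, map_mul, ← hi, ← mul_assoc, ← zpow_add, neg_add_cancel, zpow_zero, one_mul]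

/-- An involution normalizing a subgroup of odd order inverts it. -/
theorem CIT.inverts (h : CIT G) {t : G} (ht : orderOf t = 2) {A : Subgroup G} (hA : Odd (Nat.card A))
    (hn : ∀ a ∈ A, t * a * t⁻¹ ∈ A) : ∀ a ∈ A, t * a * t⁻¹ = a⁻¹ := by
  let φ : A →* A := MonoidHom.mk' (fun a => ⟨t * a * t⁻¹, hn a a.2⟩) fun a b => Subtype.ext (by simp)
  have hφ : MonoidHom.FixedPointFree φ := fun a ha => by
    refine Subtype.ext (h.eq_one_of_commute ht ?_ ?_)
    · exact hA.of_dvd_nat (Subgroup.orderOf_dvd_natCard A a.2)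
    · exact (mul_inv_eq_iff_eq_mul.1 (congrArg Subtype.val ha)).symm
  have hinv : Function.Involutive φ := fun a => Subtype.ext (by
    show t * (t * a * t⁻¹) * t⁻¹ = a
    rw [show t * (t * (a : G) * t⁻¹) * t⁻¹ = (t * t) * a * (t * t)⁻¹ by group, (orderOf_two_iff.1 ht).1]
    group)
  intro a ha
  exact congrArg Subtype.val (congrFun (hφ.coe_eq_inv_of_involutive hinv) ⟨a, ha⟩)

theorem CIT.comm_of_normalized (h : CIT G) {t : G} (ht : orderOf t = 2) {A : Subgroup G} (hA : Odd (Nat.card A))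
    (hn : ∀ a ∈ A, t * a * t⁻¹ ∈ A) : ∀ a ∈ A, ∀ b ∈ A, a * b = b * a := by
  intro a ha b hb
  have e := h.inverts ht hA hn (a * b) (mul_mem ha hb)
  rw [show t * (a * b) * t⁻¹ = t * a * t⁻¹ * (t * b * t⁻¹) by group, h.inverts ht hA hn a ha,
    h.inverts ht hA hn b hb, ← mul_inv_rev, inv_inj] at e
  exact e.symm

/-- An involution of a quotient normalizing the image of an element of odd prime order lifts to an involution. -/
theorem CIT.exists_invol_lift (h : CIT G) {D : Subgroup G} [D.Normal] (hD : IsPGroup 2 D) {r : ℕ} [Fact r.Prime]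
    (hr2 : r ≠ 2) {x : G} (hx : orderOf x = r) {i : G} (hi : orderOf (QuotientGroup.mk' D i) = 2)
    (hn : QuotientGroup.mk' D i ∈ Subgroup.normalizer
      ((Subgroup.zpowers (QuotientGroup.mk' D x) : Subgroup (G ⧸ D)) : Set (G ⧸ D))) :
    ∃ t : G, orderOf t = 2 ∧ QuotientGroup.mk' D t = QuotientGroup.mk' D i ∧ t * x * t⁻¹ = x⁻¹ := by
  haveI : Fact (Nat.Prime 2) := ⟨Nat.prime_two⟩
  set π := QuotientGroup.mk' D
  obtain ⟨n, hnN, hn⟩ := lift_normalizer hD hr2 hx hn
  have hr : r.Prime := Fact.out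
  have hxodd : Odd (orderOf x) := hx ▸ hr.odd_of_ne_two hr2
  obtain ⟨a, o, ho, hno⟩ := Nat.exists_eq_pow_mul_and_not_dvd (orderOf_pos n).ne' 2 (by norm_num)
  set m := n ^ o with hm
  have hoo : Odd o := Nat.not_even_iff_odd.1 fun e => ho (even_iff_two_dvd.1 e)
  have hπm : π m = π i := by
    obtain ⟨c, rfl⟩ := hoo
    rw [hm, map_pow, hn, pow_succ, pow_mul, pow_two, (orderOf_two_iff.1 hi).1, one_pow, one_mul]
  have hmm : m ^ 2 ^ a = 1 := by rw [hm, ← pow_mul, mul_comm, ← hno, pow_orderOf_eq_one]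
  obtain ⟨b, -, hb⟩ := (Nat.dvd_prime_pow Nat.prime_two).1 (orderOf_dvd_of_pow_eq_one hmm)
  have hmN := pow_mem hnN o
  rw [← hm] at hmN
  have hm2D : m * m ∈ D := (QuotientGroup.eq_one_iff _).1 (by
    show π (m * m) = 1
    rw [map_mul, hπm, (orderOf_two_iff.1 hi).1])
  have hcomm : Commute x (m * m) := by
    have hdis : Disjoint (Subgroup.zpowers x) D :=
      IsPGroup.disjoint_of_ne r 2 hr2 _ _ (IsPGroup.of_card (n := 1) (by rw [Nat.card_zpowers, hx, pow_one])) hD
    have h1 : m * m * x * (m * m)⁻¹ * x⁻¹ ∈ Subgroup.zpowers x := mul_mem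
      ((Subgroup.mem_normalizer_iff.1 (mul_mem hmN hmN) x).1 (Subgroup.mem_zpowers x)) (inv_mem (Subgroup.mem_zpowers x))
    have h2 : m * m * x * (m * m)⁻¹ * x⁻¹ ∈ D := by
      rw [show m * m * x * (m * m)⁻¹ * x⁻¹ = m * m * (x * (m * m)⁻¹ * x⁻¹) by group]
      exact mul_mem hm2D (Subgroup.Normal.conj_mem inferInstance _ (inv_mem hm2D) x)
    exact (mul_inv_eq_iff_eq_mul.1 (mul_inv_eq_one.1 (Subgroup.mem_bot.1 (hdis.le_bot ⟨h1, h2⟩)))).symm
  have hx1 : x ≠ 1 := fun e => hr.ne_one (by rw [← hx, e, orderOf_one])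
  have hmm1 : m * m = 1 := h.fpf_mem hxodd hx1 hD hm2D hcomm
  have hm1 : m ≠ 1 := fun e => by
    rw [e, map_one] at hπm
    rw [← hπm, orderOf_one] at hi
    omega
  refine ⟨m, orderOf_two_iff.2 ⟨hmm1, hm1⟩, hπm, ?_⟩
  exact h.inverts (orderOf_two_iff.2 ⟨hmm1, hm1⟩) (A := Subgroup.zpowers x)
    (by rw [Nat.card_zpowers]; exact hxodd) (fun y hy => (Subgroup.mem_normalizer_iff.1 hmN y).1 hy) x
    (Subgroup.mem_zpowers x)

/-- Quotients by normal 2-subgroups. -/
theorem CIT.quotient (h : CIT G) (D : Subgroup G) [D.Normal] (hD : IsPGroup 2 D) : CIT (G ⧸ D) := by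
  classical
  haveI : Fact (Nat.Prime 2) := ⟨Nat.prime_two⟩
  intro t ht
  rw [IsPGroup.iff_orderOf]
  rintro ⟨y, hy⟩
  rw [Subgroup.orderOf_mk]
  by_contra hne
  push Not at hne
  obtain ⟨r, hr, hr2, hry⟩ : ∃ r : ℕ, r.Prime ∧ r ≠ 2 ∧ r ∣ orderOf y := by
    by_contra hno
    push Not at hno
    exact hne _ (Nat.eq_prime_pow_of_unique_prime_dvd (orderOf_pos y).ne' fun {d} hd hdy => by
      by_contra hd2
      exact hno d hd hd2 hdy)
  haveI := Fact.mk hr
  set z := y ^ (orderOf y / r) with hz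
  have hzo : orderOf z = r := orderOf_pow_orderOf_div (orderOf_pos y).ne' hry
  have hzt : Commute z t := (show Commute y t from Subgroup.mem_centralizer_singleton_iff.1 hy).pow_left _
  obtain ⟨g, hg⟩ := QuotientGroup.mk'_surjective D z
  obtain ⟨j, hj⟩ := IsPGroup.iff_card.1 hD
  have hd : r ∣ orderOf g := hzo ▸ hg ▸ orderOf_map_dvd (QuotientGroup.mk' D) g
  set x := g ^ (orderOf g / r) with hx
  have hxo : orderOf x = r := orderOf_pow_orderOf_div (orderOf_pos g).ne' hd
  have hπx : QuotientGroup.mk' D x = z ^ (orderOf g / r) := by rw [hx, map_pow, hg]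
  obtain ⟨i, hi⟩ := QuotientGroup.mk'_surjective D t
  obtain ⟨m, hmo, hmπ, hmx⟩ := h.exists_invol_lift hD hr2 hxo (i := i) (by rw [hi, ht])
    (by
      rw [hi, Subgroup.mem_normalizer_iff]
      intro w
      have hc : ∀ v ∈ Subgroup.zpowers (QuotientGroup.mk' D x), t * v * t⁻¹ = v := fun v hv => by
        obtain ⟨k, rfl⟩ := Subgroup.mem_zpowers_iff.1 hv
        rw [hπx, ← zpow_natCast, ← zpow_mul]
        exact mul_inv_eq_iff_eq_mul.2 (hzt.symm.zpow_right _).eq
      refine ⟨fun hw => by rw [hc w hw]; exact hw, fun hw => ?_⟩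
      have h' : t * w * t⁻¹ = w := by
        have := congrArg (fun v => t⁻¹ * v * t) (hc _ hw)
        simpa [mul_assoc] using this
      rwa [h'] at hw)
  have h1 : t * QuotientGroup.mk' D x * t⁻¹ = (QuotientGroup.mk' D x)⁻¹ := by
    rw [← hi, ← hmπ, ← map_inv, ← map_mul, ← map_mul, hmx, map_inv]
  rw [hπx, mul_inv_eq_iff_eq_mul.2 (hzt.symm.pow_right _).eq] at h1
  have h2 : orderOf (z ^ (orderOf g / r)) ∣ 2 := orderOf_dvd_of_pow_eq_one (by
    rw [pow_two]; nth_rewrite 2 [h1]; exact mul_inv_cancel _)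
  have h3 : orderOf (z ^ (orderOf g / r)) = r := by
    rcases hr.eq_one_or_self_of_dvd _ (hzo ▸ orderOf_pow_dvd _ : orderOf (z ^ (orderOf g / r)) ∣ r) with e | e
    · exfalso
      rw [orderOf_eq_one_iff, ← hπx] at e
      have hxD : x ∈ D := (QuotientGroup.eq_one_iff x).1 e
      have hd' := hxo ▸ Subgroup.orderOf_dvd_natCard D hxD
      rw [hj] at hd'
      exact hr2 ((Nat.prime_dvd_prime_iff_eq hr Nat.prime_two).1 (hr.dvd_of_dvd_pow hd'))
    · exact e
  rw [h3] at h2
  exact hr2 ((Nat.prime_dvd_prime_iff_eq hr Nat.prime_two).1 h2)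

/-- A group of odd prime exponent acting on an abelian 2-group is small. -/
theorem CIT.elementary_card_le (h : CIT G) {r : ℕ} [Fact r.Prime] (hr2 : r ≠ 2) {E V : Subgroup G}
    [IsMulCommutative V] (hV : IsPGroup 2 V) (hVne : V ≠ ⊥) (hE : ∀ x ∈ E, x ^ r = 1)
    (hEV : E ≤ Subgroup.normalizer (V : Set G)) : Nat.card E ≤ r := by
  refine EPPO.elementary_fpf_card_le hVne hE hEV fun x hx hx1 => ?_
  rw [eq_bot_iff]
  rintro v ⟨hv, hvx⟩
  rw [Subgroup.mem_bot]
  have hxo : orderOf x = r := orderOf_eq_prime (hE x hx) hx1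
  exact h.fpf_mem (hxo ▸ (Fact.out : r.Prime).odd_of_ne_two hr2) hx1 hV hv
    (Subgroup.mem_centralizer_singleton_iff.1 hvx).symm

/-- A nontrivial normal subgroup of odd order forces solvability. -/
theorem CIT.solvable_of_odd_normal (h : CIT G) (h2 : 2 ∣ Nat.card G) (N : Subgroup G) [N.Normal]
    (hN : Odd (Nat.card N)) (hne : N ≠ ⊥) : Group.IsSolvable G := by
  classical
  haveI : Fact (Nat.Prime 2) := ⟨Nat.prime_two⟩
  have hinv : ∀ t : G, orderOf t = 2 → ∀ a ∈ N, t * a * t⁻¹ = a⁻¹ := fun t ht =>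
    h.inverts ht hN fun a ha => Subgroup.Normal.conj_mem inferInstance a ha t
  obtain ⟨t, ht⟩ := exists_prime_orderOf_dvd_card' 2 h2
  set C := Subgroup.centralizer (N : Set G)
  have hCN : N ≤ C := fun a ha => Subgroup.mem_centralizer_iff.2 fun b hb =>
    h.comm_of_normalized ht hN (fun a ha => Subgroup.Normal.conj_mem inferInstance a ha t) b hb a ha
  haveI : C.Normal := inferInstance
  obtain ⟨a₀, ha₀, ha₁⟩ : ∃ a ∈ N, a ≠ 1 := by
    by_contra hno
    push Not at hno
    exact hne ((Subgroup.eq_bot_iff_forall _).2 hno)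
  have hCodd : Odd (Nat.card C) := by
    rw [← Nat.not_even_iff_odd, even_iff_two_dvd]
    intro hd
    obtain ⟨⟨s, hs⟩, hso⟩ := exists_prime_orderOf_dvd_card' 2 hd
    rw [Subgroup.orderOf_mk] at hso
    exact ha₁ (h.eq_one_of_commute hso (hN.of_dvd_nat (Subgroup.orderOf_dvd_natCard N ha₀))
      (Subgroup.mem_centralizer_iff.1 hs a₀ ha₀))
  have hCcomm : ∀ a ∈ C, ∀ b ∈ C, a * b = b * a :=
    h.comm_of_normalized ht hCodd fun a ha => Subgroup.Normal.conj_mem inferInstance a ha t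
  haveI : Group.IsSolvable C := Group.isSolvable_of_comm fun a b => Subtype.ext (hCcomm a a.2 b b.2)
  -- the image of every involution is the same
  have hsame : ∀ s : G, orderOf s = 2 → QuotientGroup.mk' C s = QuotientGroup.mk' C t := by
    intro s hs
    refine QuotientGroup.eq.2 (Subgroup.mem_centralizer_iff.2 fun a ha => ?_)
    have e1 := hinv t ht a ha
    have e2 := hinv s hs a ha
    have e3 : s * a * s⁻¹ = t * a * t⁻¹ := e2.trans e1.symm
    have e4 : s⁻¹ * (s * a * s⁻¹) * t = s⁻¹ * (t * a * t⁻¹) * t := by rw [e3]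
    rwa [show s⁻¹ * (s * a * s⁻¹) * t = a * (s⁻¹ * t) by group,
      show s⁻¹ * (t * a * t⁻¹) * t = s⁻¹ * t * a by group] at e4
  -- so it is central in the quotient
  have htop : Subgroup.centralizer ({t} : Set G) ⊔ C = ⊤ := by
    rw [eq_top_iff]
    intro g _
    have hgt : g * t * g⁻¹ * t⁻¹ ∈ C := by
      have e := hsame (g * t * g⁻¹) (by
        rw [show g * t * g⁻¹ = (MulAut.conj g).toMonoidHom t by simp,
          orderOf_injective _ (MulAut.conj g).injective, ht])
      have := (QuotientGroup.eq.1 e.symm)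
      have h' := Subgroup.Normal.conj_mem inferInstance _ this t
      rwa [show t * (t⁻¹ * (g * t * g⁻¹)) * t⁻¹ = g * t * g⁻¹ * t⁻¹ by group] at h'
    -- the conjugates of `t` under `C` fill the coset
    let f : C → C := fun c => ⟨(c : G) * t * (c : G)⁻¹ * t⁻¹, by
      rw [show (c : G) * t * (c : G)⁻¹ * t⁻¹ = c * (t * (c : G)⁻¹ * t⁻¹) by group]
      exact mul_mem c.2 (Subgroup.Normal.conj_mem inferInstance _ (inv_mem c.2) t)⟩
    have hf : Function.Injective f := fun c d e => by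
      have e' : (c : G) * t * (c : G)⁻¹ * t⁻¹ = d * t * (d : G)⁻¹ * t⁻¹ := congrArg Subtype.val e
      have h1 : Commute ((d : G)⁻¹ * c) t := by
        have e'' := congrArg (fun w => (d : G)⁻¹ * w * t * c) e'
        simp only [mul_assoc, inv_mul_cancel, mul_one, inv_mul_cancel_left] at e''
        show (d : G)⁻¹ * c * t = t * ((d : G)⁻¹ * c)
        simpa [mul_assoc] using e''
      have h2 := h.eq_one_of_commute ht (hCodd.of_dvd_nat (Subgroup.orderOf_dvd_natCard C
        (mul_mem (inv_mem d.2) c.2))) h1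
      exact Subtype.ext (inv_mul_eq_one.1 h2).symm
    obtain ⟨c, hc⟩ := (Finite.injective_iff_surjective.1 hf) ⟨_, hgt⟩
    have e' : (c : G) * t * (c : G)⁻¹ * t⁻¹ = g * t * g⁻¹ * t⁻¹ := congrArg Subtype.val hc
    have h1 : (c : G)⁻¹ * g ∈ Subgroup.centralizer ({t} : Set G) := by
      rw [Subgroup.mem_centralizer_singleton_iff, ← mul_inv_eq_iff_eq_mul,
        show (c : G)⁻¹ * g * t * ((c : G)⁻¹ * g)⁻¹ = (c : G)⁻¹ * (g * t * g⁻¹) * c by group,
        ← mul_right_cancel e']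
      group
    have := mul_mem (Subgroup.mem_sup_right c.2 : (c : G) ∈ Subgroup.centralizer ({t} : Set G) ⊔ C)
      (Subgroup.mem_sup_left h1)
    rwa [mul_inv_cancel_left] at this
  haveI : Group.IsSolvable (G ⧸ C) := by
    haveI := (h t ht).isNilpotent
    refine Group.isSolvable_of_surjective
      (f := (QuotientGroup.mk' C).comp (Subgroup.centralizer ({t} : Set G)).subtype) fun q => ?_
    obtain ⟨g, rfl⟩ := QuotientGroup.mk'_surjective C q
    have hg : g ∈ ((Subgroup.centralizer ({t} : Set G) ⊔ C : Subgroup G) : Set G) := by rw [htop]; trivial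
    rw [Subgroup.mul_normal] at hg
    obtain ⟨a, ha, b, hb, rfl⟩ := hg
    exact ⟨⟨a, ha⟩, by simp [(QuotientGroup.eq_one_iff b).2 hb]⟩
  exact Group.isSolvable_of_ker_le_range C.subtype (QuotientGroup.mk' C)
    (by rw [QuotientGroup.ker_mk', Subgroup.range_subtype])

end Cfsg.Agent.Solv.CITGroups
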