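import Cfsg.Agent.Lib.Lie.SuzukiTori
import Cfsg.Agent.Lib.Lie.SuzukiSp4
import Cfsg.Agent.Lib.Solv.CIT.Basic

/-!
The model Suzuki group: transport along field isomorphisms and its prime graph.
-/

set_option autoImplicit false
set_option linter.style.haveILetI false
set_option linter.unusedSectionVars false

namespace Cfsg.Agent.Solv.CITGroups.SzModel

open Matrix MulAction

section Congr

variable {K L : Type*} [Field K] [Field L]

/-- The generating set of the Suzuki group. -/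
def gset (K : Type*) [Field K] (e : ℕ) : Set (GL (Fin 4) K) :=
  {g | g ∈ Cfsg.Lie.Sp4 K ∧
    Cfsg.Lie.star4 (g : Matrix (Fin 4) (Fin 4) K) = (g : Matrix (Fin 4) (Fin 4) K).map (fun x => x ^ e)}

/-- The entrywise map. -/
noncomputable def glMap (σ : K ≃+* L) : GL (Fin 4) K ≃* GL (Fin 4) L :=
  Units.mapEquiv (RingEquiv.mapMatrix σ).toMulEquiv

theorem glMap_val (σ : K ≃+* L) (g : GL (Fin 4) K) :
    ((glMap σ g : GL (Fin 4) L) : Matrix (Fin 4) (Fin 4) L) = (g : Matrix (Fin 4) (Fin 4) K).map σ := rfl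

theorem glMap_mem (σ : K ≃+* L) (e : ℕ) {g : GL (Fin 4) K} (hg : g ∈ gset K e) : glMap σ g ∈ gset L e := by
  obtain ⟨h1, h2⟩ := hg
  refine ⟨fun u v => ?_, ?_⟩
  · have h := congrArg σ (h1 (fun i => σ.symm (u i)) (fun i => σ.symm (v i)))
    simp only [Units.coeHom_apply, glMap_val] at h ⊢
    simpa [Cfsg.Lie.altForm4, Matrix.mulVec, dotProduct, Fin.sum_univ_four] using h
  · rw [glMap_val]
    ext p r
    have h := congrArg σ (congrFun (congrFun h2 p) r)
    simpa [Cfsg.Lie.star4, Matrix.map_apply] using h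

/-- Isomorphic fields give isomorphic groups. -/
theorem congr (σ : K ≃+* L) (e : ℕ) : Nonempty (Cfsg.Lie.Sz K e ≃* Cfsg.Lie.Sz L e) := by
  refine ⟨((glMap σ).subgroupMap _).trans (MulEquiv.subgroupCongr ?_)⟩
  show (Subgroup.closure (gset K e)).map (glMap σ).toMonoidHom = Subgroup.closure (gset L e)
  rw [MonoidHom.map_closure]
  congr 1
  refine Set.Subset.antisymm ?_ fun g hg => ⟨glMap σ.symm g, glMap_mem σ.symm e hg, ?_⟩
  · rintro _ ⟨g, hg, rfl⟩
    exact glMap_mem σ e hg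
  · refine Units.ext ?_
    show ((g : Matrix (Fin 4) (Fin 4) L).map σ.symm).map σ = g
    ext i j
    simp

end Congr

section Graph

open Cfsg.Agent.Lie.Suzuki

variable {F : Type*} [Field F] {m : ℕ} [Fintype F] (hF : Fintype.card F = 2 ^ (2 * m + 1)) (hm : 1 ≤ m)
include hF hm

theorem card_model : Nat.card (Cfsg.Lie.Sz F (2 ^ (m + 1))) =
    (2 ^ (2 * m + 1)) ^ 2 * ((2 ^ (2 * m + 1)) ^ 2 + 1) * (2 ^ (2 * m + 1) - 1) := by
  obtain ⟨e⟩ := lie_sz_equiv hF hm
  rw [← Nat.card_congr e.toEquiv, card_sz hF hm, hF]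

/-- A prime element order prime to `q² + 1` is not doubled. -/
theorem not_two_mul {s : ℕ} (hs : s.Prime) (hs2 : s ≠ 2) :
    ¬ ∃ x : Cfsg.Lie.Sz F (2 ^ (m + 1)), orderOf x = 2 * s := by
  classical
  rintro ⟨x, hx⟩
  obtain ⟨e⟩ := lie_sz_equiv hF hm
  set w := e.symm x
  have hw : orderOf w = 2 * s := (orderOf_injective e.symm.toMonoidHom e.symm.injective x).trans hx
  have hz : orderOf (w ^ s) = 2 := by
    rw [orderOf_pow' w hs.ne_zero, hw, Nat.gcd_eq_right (dvd_mul_left s 2), Nat.mul_div_cancel _ hs.pos]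
  have hy : orderOf (w ^ 2) = s := by
    rw [orderOf_pow' w two_ne_zero, hw, Nat.gcd_eq_right (dvd_mul_right 2 s), Nat.mul_div_cancel_left _ two_pos]
  have hc : Commute (w ^ s) (w ^ 2) := (Commute.refl w).pow_pow _ _
  by_cases hd : s ∣ Fintype.card F ^ 2 + 1
  · obtain ⟨-, -, hdvd, -⟩ := torus hF hm hs hd hy
    have h1 : orderOf (w ^ s) ∣ Fintype.card F ^ 2 + 1 :=
      (Subgroup.orderOf_dvd_natCard _ (Subgroup.mem_centralizer_singleton_iff.2 hc.eq)).trans hdvd
    rw [hz, hF, ← even_iff_two_dvd, Nat.even_add_one] at h1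
    exact h1 ((Nat.even_pow' (by omega)).2 even_two |>.pow_of_ne_zero two_ne_zero)
  · obtain ⟨a, ha, hu⟩ := involution_fixed hF hm hz
    have hya : w ^ 2 • a = a := hu _ (by rw [← mul_smul, hc.eq, mul_smul, ha])
    obtain ⟨b, hb, hba⟩ : ∃ b, w ^ 2 • b = b ∧ b ≠ a := by
      by_contra hno
      push Not at hno
      haveI := Fact.mk hs
      have hp : IsPGroup s (Subgroup.zpowers (w ^ 2)) :=
        IsPGroup.of_card (n := 1) (by rw [Nat.card_zpowers, hy, pow_one])
      have hmod := hp.card_modEq_card_fixedPoints (Cfsg.suzukiOvoid F m)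
      have hone : Nat.card (MulAction.fixedPoints (Subgroup.zpowers (w ^ 2)) (Cfsg.suzukiOvoid F m)) = 1 := by
        have key : ∀ v : MulAction.fixedPoints (Subgroup.zpowers (w ^ 2)) (Cfsg.suzukiOvoid F m),
            (v : Cfsg.suzukiOvoid F m) = a := fun v => hno _ (v.2 ⟨w ^ 2, Subgroup.mem_zpowers _⟩)
        rw [Nat.card_eq_one_iff_unique]
        refine ⟨⟨fun u v => Subtype.ext ((key u).trans (key v).symm)⟩, ⟨⟨a, ?_⟩⟩⟩
        intro g
        exact mem_stabilizer_iff.1 (Subgroup.zpowers_le.2 (mem_stabilizer_iff.2 hya) g.2)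
      rw [hone, card_points hF hm] at hmod
      have h1 : s ∣ Fintype.card F ^ 2 := by
        have := (Nat.modEq_iff_dvd' (Nat.le_add_left 1 _)).1 hmod.symm
        rwa [Nat.add_sub_cancel] at this
      rw [hF] at h1
      exact hs2 ((Nat.prime_dvd_prime_iff_eq hs Nat.prime_two).1 (hs.dvd_of_dvd_pow (hs.dvd_of_dvd_pow h1)))
    have hzb : w ^ s • b ≠ b := fun e => hba (hu b e)
    have hzba : w ^ s • b ≠ a := fun e => hba (smul_left_cancel (w ^ s) (e.trans ha.symm))
    have hsub : ({a, b, w ^ s • b} : Set _) ⊆ fixedBy (Cfsg.suzukiOvoid F m) (w ^ 2) := by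
      rintro v (rfl | rfl | rfl)
      · exact hya
      · exact hb
      · show w ^ 2 • w ^ s • b = w ^ s • b
        rw [← mul_smul, ← hc.eq, mul_smul, hb]
    have h3 := Set.ncard_le_ncard hsub (Set.toFinite _)
    have h4 := fixedBy_card_le hF hm (w ^ 2) (fun e => by rw [e, orderOf_one] at hy; exact hs.ne_one hy.symm)
    rw [Set.ncard_insert_of_notMem (by
      rintro (h | h)
      · exact hba h.symm
      · exact hzba h.symm),
      Set.ncard_pair (Ne.symm hzb)] at h3
    omega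

/-- The two tori are apart. -/
theorem not_mixed {r s : ℕ} (hr : r.Prime) (hs : s.Prime) (hs2 : s ≠ 2)
    (hrd : r ∣ Fintype.card F ^ 2 + 1) (hsd : s ∣ Fintype.card F - 1) :
    ¬ ∃ x : Cfsg.Lie.Sz F (2 ^ (m + 1)), orderOf x = r * s := by
  rintro ⟨x, hx⟩
  obtain ⟨e⟩ := lie_sz_equiv hF hm
  set w := e.symm x
  have hw : orderOf w = r * s := (orderOf_injective e.symm.toMonoidHom e.symm.injective x).trans hx
  have hy : orderOf (w ^ s) = r := by
    rw [orderOf_pow' w hs.ne_zero, hw, Nat.gcd_eq_right (dvd_mul_left s r), Nat.mul_div_cancel _ hs.pos]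
  obtain ⟨-, -, hdvd, -⟩ := torus hF hm hr hrd hy
  have h1 : orderOf (w ^ r) ∣ Fintype.card F ^ 2 + 1 :=
    (Subgroup.orderOf_dvd_natCard _
      (Subgroup.mem_centralizer_singleton_iff.2 ((Commute.refl w).pow_pow r s).eq)).trans hdvd
  rw [orderOf_pow' w hr.ne_zero, hw, Nat.gcd_eq_right (dvd_mul_right r s), Nat.mul_div_cancel_left _ hr.pos] at h1
  have hsq : s ∣ Fintype.card F ^ 2 - 1 := by
    rw [show Fintype.card F ^ 2 - 1 = (Fintype.card F + 1) * (Fintype.card F - 1) by rw [← Nat.sq_sub_sq, one_pow]]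
    exact hsd.mul_left _
  have h2 := Nat.dvd_sub h1 hsq
  have := Nat.one_le_pow 2 (Fintype.card F) Fintype.card_pos
  rw [show Fintype.card F ^ 2 + 1 - (Fintype.card F ^ 2 - 1) = 2 by omega] at h2
  exact hs2 ((Nat.prime_dvd_prime_iff_eq hs Nat.prime_two).1 h2)

end Graph

end Cfsg.Agent.Solv.CITGroups.SzModel
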