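import Cfsg.Agent.Lib.Solv.CIT.Known
import Cfsg.Agent.Lib.Solv.EPPOSeven.Four
import Cfsg.Agent.Lib.Small.SL2.Orders
import Cfsg.Agent.S0111

/-!
A self-centralizing four-group in a Sylow 2-subgroup of order at least eight.
-/

set_option autoImplicit false
set_option linter.style.haveILetI false
set_option linter.unusedSectionVars false

namespace Cfsg.Agent.Solv.CITGroups

open Cfsg
open Cfsg.Agent.Solv.EPPOSeven (exists_gt_normalizing)

universe u

/-- A linear group in dimension two over a suitable field of odd order. -/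
def Lin (G : Type u) [Group G] : Prop :=
  ∃ (F : Type) (_ : Field F) (_ : Fintype F),
    (Fintype.card F = 9 ∨ ((Fintype.card F).Prime ∧ ∃ k : ℕ, Fintype.card F = 2 ^ k + 1 ∨ Fintype.card F + 1 = 2 ^ k)) ∧
    Nonempty (G ≃* Matrix.ProjectiveSpecialLinearGroup (Fin 2) F)

theorem odd_geom_sum {x a : ℕ} (hx : Odd x) (ha : Odd a) : Odd (∑ i ∈ Finset.range a, x ^ i) := by
  rw [← ZMod.natCast_eq_one_iff_odd, Nat.cast_sum]
  simp only [Nat.cast_pow, ZMod.natCast_eq_one_iff_odd.2 hx, one_pow, Finset.sum_const, Finset.card_range, nsmul_one]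
  exact ZMod.natCast_eq_one_iff_odd.2 ha

theorem odd_dvd_two_pow {d k : ℕ} (hd : Odd d) (h : d ∣ 2 ^ k) : d = 1 :=
  Nat.eq_one_of_dvd_coprimes (Nat.Coprime.pow_left k (Nat.coprime_two_left.2 hd)) h dvd_rfl

/-- Odd prime powers next to a power of two. -/
theorem near_two_pow {p a : ℕ} (hp : p.Prime) (hp2 : p ≠ 2) (ha : 0 < a) {k : ℕ}
    (h : p ^ a = 2 ^ k + 1 ∨ p ^ a + 1 = 2 ^ k) : a = 1 ∨ p ^ a = 9 := by
  have hodd : Odd p := hp.odd_of_ne_two hp2
  have hp3 : 3 ≤ p := by have := hp.two_le; omega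
  rcases Nat.even_or_odd a with ⟨j, rfl⟩ | hao
  · rcases h with h | h
    · right
      rw [← two_mul, mul_comm, pow_mul] at h ⊢
      set r := p ^ j with hr
      have hr3 : 3 ≤ r := hp3.trans (Nat.le_self_pow (by omega) p)
      have hfac : (r - 1) * (r + 1) = 2 ^ k := by
        obtain ⟨s, hs⟩ : ∃ s, r = s + 1 := ⟨r - 1, by omega⟩
        rw [hs] at h ⊢
        rw [Nat.add_sub_cancel]
        ring_nf at h ⊢
        omega
      obtain ⟨i, -, hi⟩ := (Nat.dvd_prime_pow Nat.prime_two).1 ⟨r + 1, hfac.symm⟩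
      obtain ⟨l, -, hl⟩ := (Nat.dvd_prime_pow Nat.prime_two).1 ⟨r - 1, (mul_comm (r - 1) (r + 1) ▸ hfac).symm⟩
      have hi1 : i = 1 := by
        rcases i with _ | _ | i
        · omega
        · rfl
        · exfalso
          have h4 : 4 ∣ r - 1 := hi ▸ (show (4 : ℕ) = 2 ^ 2 by norm_num) ▸ pow_dvd_pow 2 (by omega)
          have h4' : 4 ∣ r + 1 := by
            rw [hl]
            rcases l with _ | _ | l
            · omega
            · omega
            · exact (show (4 : ℕ) = 2 ^ 2 by norm_num) ▸ pow_dvd_pow 2 (by omega)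
          omega
      rw [hi1] at hi
      rw [show r = 3 by omega]
      norm_num
    · exfalso
      obtain ⟨s, hs⟩ := hodd.pow (n := j)
      rw [← two_mul, mul_comm, pow_mul, hs, show (2 * s + 1) ^ 2 + 1 = 4 * (s * s + s) + 2 by ring] at h
      rcases k with _ | _ | k
      · omega
      · have : 0 < s := by
          rcases Nat.eq_zero_or_pos s with e | e
          · subst e
            have := Nat.le_self_pow (show j ≠ 0 by omega) p
            omega
          · exact e
        norm_num at h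
        omega
      · rw [show 2 ^ (k + 1 + 1) = 4 * 2 ^ k by ring] at h
        omega
  · left
    rcases h with h | h
    · have hg : (∑ i ∈ Finset.range a, p ^ i) * (p - 1) + 1 = p ^ a := by
        have := geom_sum_mul_add (p - 1) a
        rwa [Nat.sub_add_cancel (by omega : 1 ≤ p)] at this
      have hS := odd_dvd_two_pow (k := k) (odd_geom_sum hodd hao) ⟨p - 1, by omega⟩
      rw [hS, one_mul] at hg
      exact Nat.pow_right_injective hp.two_le (show p ^ a = p ^ 1 by rw [pow_one]; omega)
    · by_contra ha1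
      obtain ⟨S, hS⟩ : ∃ S : ℤ, S = ∑ i ∈ Finset.range a, (-(p : ℤ)) ^ i := ⟨_, rfl⟩
      have hgeom : ((p : ℤ) ^ a + 1) = S * (p + 1) := by
        have := geom_sum_mul_neg (-(p : ℤ)) a
        rw [hS]
        rw [hao.neg_pow] at this
        linarith
      have hSodd : Odd S := by
        rw [hS, ← ZMod.intCast_eq_one_iff_odd, Int.cast_sum]
        have hq1 : ((-(p : ℤ) : ℤ) : ZMod 2) = 1 := by
          rw [ZMod.intCast_eq_one_iff_odd]; exact (Int.odd_coe_nat p |>.2 hodd).neg
        simp only [Int.cast_pow, hq1, one_pow, Finset.sum_const, Finset.card_range, nsmul_one]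
        exact ZMod.natCast_eq_one_iff_odd.2 hao
      have hd : S.natAbs ∣ 2 ^ k := by
        refine ⟨p + 1, ?_⟩
        have hgeom' := congrArg Int.natAbs hgeom
        rw [Int.natAbs_mul, show ((p : ℤ) ^ a + 1) = ((p ^ a + 1 : ℕ) : ℤ) by push_cast; rfl,
          show ((p : ℤ) + 1) = ((p + 1 : ℕ) : ℤ) by push_cast; rfl, Int.natAbs_natCast, Int.natAbs_natCast, h] at hgeom'
        exact hgeom'
      have h1 := odd_dvd_two_pow (Int.natAbs_odd.2 hSodd) hd
      rcases Int.natAbs_eq S with e | e <;> rw [h1] at e <;> rw [e] at hgeom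
      · have : p ^ a = p ^ 1 := by
          rw [pow_one]
          have : ((p ^ a : ℕ) : ℤ) = (p : ℤ) := by push_cast; simpa using hgeom
          exact_mod_cast this
        exact ha1 (Nat.pow_right_injective hp.two_le this)
      · have : (0 : ℤ) ≤ (p : ℤ) ^ a := by positivity
        push_cast at hgeom
        linarith

theorem zmod_half {h : ℕ} [NeZero (2 * h)] {j : ZMod (2 * h)} (hj : j + j = 0) : j = 0 ∨ j = (h : ZMod (2 * h)) := by
  have e := congrArg ZMod.val hj
  rw [ZMod.val_add, ZMod.val_zero] at e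
  have hlt := ZMod.val_lt j
  obtain ⟨c, hc⟩ := Nat.dvd_of_mod_eq_zero e
  have hh : 0 < 2 * h := Nat.pos_of_neZero _
  rcases c with _ | _ | c
  · left; exact (ZMod.val_eq_zero j).1 (by omega)
  · right
    rw [← ZMod.natCast_zmod_val j, show j.val = h by omega]
  · exfalso
    have : 2 * h * 2 ≤ 2 * h * (c + 1 + 1) := Nat.mul_le_mul_left _ (by omega)
    omega

variable {G : Type u} [Group G] [Finite G]

/-- The field of a linear group with 2-group centralizers of involutions. -/
theorem lin_of_iso [IsSimpleGroup G] (hC : CIT G) {F : Type} [Field F] [Fintype F] (hodd : Odd (Fintype.card F))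
    (h8 : 8 ≤ Nat.card G) (h12 : Nat.card G ≠ 12)
    (e : G ≃* Matrix.ProjectiveSpecialLinearGroup (Fin 2) F) : Lin G := by
  classical
  obtain ⟨p, hp⟩ := CharP.exists F
  haveI : Fact p.Prime := ⟨CharP.char_is_prime F p⟩
  have hp' : p.Prime := Fact.out
  obtain ⟨a, ha0, ha⟩ := FiniteField.card F p
  set q := Fintype.card F with hq
  have hd : Nat.gcd 2 (q - 1) = 2 := Nat.gcd_eq_left (by obtain ⟨r, hr⟩ := hodd; omega)
  have hcard : Nat.card G * 2 = q * (q ^ 2 - 1) := by
    rw [Nat.card_congr e.toEquiv]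
    have := Classical.Dickson.card_psl F
    rwa [← hq, hd] at this
  have h4 : 4 ≤ q := by
    by_contra hlt
    obtain ⟨r, hr⟩ := hodd
    rcases r with _ | _ | r
    · rw [hr] at hcard; norm_num at hcard; omega
    · rw [hr] at hcard; norm_num at hcard; omega
    · omega
  obtain ⟨m, hm2, hm⟩ : ∃ m, Even m ∧ (m = (q - 1) / 2 ∨ m = (q + 1) / 2) := by
    rcases Nat.even_or_odd ((q - 1) / 2) with h | h
    · exact ⟨_, h, Or.inl rfl⟩
    · refine ⟨_, ?_, Or.inr rfl⟩
      obtain ⟨r, hr⟩ := h
      obtain ⟨s, hs⟩ := hodd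
      exact ⟨r + 1, by omega⟩
  obtain ⟨y, hy⟩ := Small.SL2C.order_exists p h4 m (by
    rw [← hq, hd]
    rcases hm with h | h <;> rw [h]
    exacts [Or.inr (Or.inl dvd_rfl), Or.inr (Or.inr dvd_rfl)])
  set g := e.symm y with hg
  have hgo : orderOf g = m := (orderOf_injective e.symm.toMonoidHom e.symm.injective y).trans hy
  have hm0 : m ≠ 0 := hgo ▸ (orderOf_pos g).ne'
  obtain ⟨j, hj⟩ := hC.two_of_commute (orderOf_pow_orderOf_div (orderOf_pos g).ne' (hgo.symm ▸ even_iff_two_dvd.1 hm2))
    ((Commute.refl g).pow_right _)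
  rw [hgo] at hj
  obtain ⟨r, hr⟩ := hodd
  have hk : q = 2 ^ (j + 1) + 1 ∨ q + 1 = 2 ^ (j + 1) := by
    rw [pow_succ, ← hj]
    rcases hm with h | h <;> [left; right] <;> omega
  have hp2 : p ≠ 2 := fun h => by
    rw [h] at ha
    have : 2 ∣ q := ha ▸ dvd_pow_self 2 a.pos.ne'
    omega
  refine ⟨F, inferInstance, inferInstance, ?_, ⟨e⟩⟩
  rcases near_two_pow hp' hp2 a.pos (k := j + 1) (ha ▸ hk) with h1 | h9
  · exact Or.inr ⟨by convert hp'; show q = p; rw [ha, h1, pow_one], j + 1, hk⟩
  · exact Or.inl (ha.trans h9)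

/-- A dihedral Sylow 2-subgroup gives the fusion pattern. -/
theorem dih_of_dihedral [IsSimpleGroup G] (hna : ∃ a b : G, a * b ≠ b * a) (hC : CIT G) (T : Sylow 2 G) {h : ℕ}
    [NeZero (2 * (2 * h))] (hh : 0 < h) (e : (T : Subgroup G) ≃* DihedralGroup (2 * (2 * h))) : Dih G := by
  classical
  haveI : Fact (Nat.Prime 2) := ⟨Nat.prime_two⟩
  set n := 2 * (2 * h) with hn
  let ι : DihedralGroup n →* G := (T : Subgroup G).subtype.comp e.symm.toMonoidHom
  have hι : Function.Injective ι := (T : Subgroup G).subtype_injective.comp e.symm.injective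
  have hιT : ∀ x, ι x ∈ (T : Subgroup G) := fun x => (e.symm x).2
  have hsurj : ∀ g ∈ (T : Subgroup G), ∃ x, ι x = g := fun g hg => ⟨e ⟨g, hg⟩, by simp [ι]⟩
  have hH : ((2 * h : ℕ) : ZMod n) + (2 * h : ℕ) = 0 := by
    rw [← Nat.cast_add, ← two_mul]; exact ZMod.natCast_self n
  have hH0 : ((2 * h : ℕ) : ZMod n) ≠ 0 := fun e0 => by
    rw [ZMod.natCast_eq_zero_iff] at e0
    have := Nat.le_of_dvd (by omega) e0
    omega
  set z := ι (DihedralGroup.r ((2 * h : ℕ) : ZMod n)) with hz
  have hzo : orderOf z = 2 := by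
    rw [hz, orderOf_injective ι hι, orderOf_two_iff, DihedralGroup.r_mul_r, hH]
    refine ⟨rfl, fun e0 => hH0 ?_⟩
    exact DihedralGroup.r.inj e0
  have hzT : ∀ x, ι x * z = z * ι x := by
    intro x
    rw [hz, ← map_mul, ← map_mul]
    congr 1
    rcases x with i | i
    · simp [add_comm]
    · simp only [DihedralGroup.sr_mul_r, DihedralGroup.r_mul_sr, DihedralGroup.sr.injEq]
      linear_combination hH
  have hCz : Subgroup.centralizer ({z} : Set G) = (T : Subgroup G) :=
    T.is_maximal' (hC z hzo) fun g hg => by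
      obtain ⟨x, rfl⟩ := hsurj g hg
      exact Subgroup.mem_centralizer_singleton_iff.2 (hzT x)
  -- every reflection is conjugate to the central involution
  have hsr : ∀ i : ZMod n, orderOf (ι (DihedralGroup.sr i)) = 2 := fun i => by
    rw [orderOf_injective ι hι, DihedralGroup.orderOf_sr]
  have hfus : ∀ i : ZMod n, ∃ g : G, g * z * g⁻¹ = ι (DihedralGroup.sr i) := by
    intro i
    let Q : Subgroup G := (Subgroup.zpowers (DihedralGroup.r (1 : ZMod n))).map ι
    have hQT : Q ≤ (T : Subgroup G) := by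
      rintro _ ⟨x, -, rfl⟩
      exact hιT x
    have hQc : Nat.card Q = n := by
      rw [Subgroup.card_map_of_injective hι, Nat.card_zpowers, DihedralGroup.orderOf_r_one]
    have hnot : ι (DihedralGroup.sr i) ∉ Q := by
      rintro ⟨x, hx, ex⟩
      obtain ⟨l, rfl⟩ := Subgroup.mem_zpowers_iff.1 hx
      have := hι ex
      rw [DihedralGroup.r_one_zpow] at this
      cases this
    obtain ⟨g, hg⟩ := (S0111.result T Q hQT (by
      have e1 := (Q.subgroupOf (T : Subgroup G)).card_mul_index
      rw [Nat.card_congr (Subgroup.subgroupOfEquivOfLe hQT).toEquiv, hQc, Nat.card_congr e.toEquiv,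
        DihedralGroup.nat_card, mul_comm 2 n] at e1
      exact Nat.eq_of_mul_eq_mul_left (Nat.pos_of_neZero n) e1) _ (hsr i) (hιT _) hnot).resolve_left (by
        rintro ⟨M, -, hM, -⟩
        exact EPPOSeven.not_simple_abelian hna hM)
    obtain ⟨x, hx, ex⟩ := hg
    obtain ⟨l, rfl⟩ := Subgroup.mem_zpowers_iff.1 hx
    rw [DihedralGroup.r_one_zpow] at ex
    have ho : orderOf (ι (DihedralGroup.r ((l : ℤ) : ZMod n))) = 2 := by
      rw [ex, show g * ι (DihedralGroup.sr i) * g⁻¹ = (MulAut.conj g).toMonoidHom (ι (DihedralGroup.sr i)) by simp,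
        orderOf_injective _ (MulAut.conj g).injective, hsr]
    rw [orderOf_injective ι hι, orderOf_two_iff, DihedralGroup.r_mul_r] at ho
    have h0 := DihedralGroup.r.inj ho.1
    rcases zmod_half (h := 2 * h) h0 with e0 | e0
    · exact absurd (by rw [e0]; rfl) ho.2
    · refine ⟨g⁻¹, ?_⟩
      rw [e0] at ex
      rw [← hz] at ex
      rw [ex]; group
  -- the elements of order three
  set u := ι (DihedralGroup.r ((h : ℕ) : ZMod n)) with hu
  have hhh : ((h : ℕ) : ZMod n) + (h : ℕ) = ((2 * h : ℕ) : ZMod n) := by push_cast; ring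
  have huu : u * u = z := by rw [hu, hz, ← map_mul, DihedralGroup.r_mul_r, hhh]
  have key : ∀ i : ZMod n, ∃ g : G, orderOf g = 3 ∧
      g⁻¹ * z * g = z * ι (DihedralGroup.sr i) ∧
      g⁻¹ * (z * ι (DihedralGroup.sr i)) * g = ι (DihedralGroup.sr i) := by
    intro i
    set b := ι (DihedralGroup.sr i) with hb
    have hbo : orderOf b = 2 := hsr i
    have hzb : z * b = b * z := (hzT _).symm
    have hzz := (orderOf_two_iff.1 hzo).1
    have hz1 := (orderOf_two_iff.1 hzo).2
    have hbb := (orderOf_two_iff.1 hbo).1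
    have hb1 := (orderOf_two_iff.1 hbo).2
    have hzb1 : z * b ≠ 1 := fun e0 => by
      have := mul_left_cancel (e0.trans hzz.symm)
      rw [hz, hb] at this
      cases hι this
    -- the centralizer within the Sylow subgroup
    have hCTb : ∀ g ∈ (T : Subgroup G), Commute g b → g = 1 ∨ g = z ∨ g = b ∨ g = z * b := by
      intro g hg hgb
      obtain ⟨x, rfl⟩ := hsurj g hg
      have e0 := hι (show ι (x * DihedralGroup.sr i) = ι (DihedralGroup.sr i * x) by rw [map_mul, map_mul]; exact hgb)
      rcases x with j | j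
      · simp only [DihedralGroup.r_mul_sr, DihedralGroup.sr_mul_r, DihedralGroup.sr.injEq] at e0
        rcases zmod_half (h := 2 * h) (show j + j = 0 by linear_combination -e0) with e1 | e1
        · left; rw [e1, ← DihedralGroup.one_def, map_one]
        · right; left; rw [e1]
      · simp only [DihedralGroup.sr_mul_sr, DihedralGroup.r.injEq] at e0
        rcases zmod_half (h := 2 * h) (show (i - j) + (i - j) = 0 by linear_combination e0) with e1 | e1
        · right; right; left; rw [hb, show j = i by linear_combination -e1]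
        · right; right; right
          rw [hz, hb, ← map_mul, DihedralGroup.r_mul_sr, show j = i - ((2 * h : ℕ) : ZMod n) by linear_combination -e1]
    -- a conjugation fixing the central involution
    have hx1 : u⁻¹ * z * u = z := by
      rw [hu, mul_assoc, ← hzT]
      group
    have hx2 : u⁻¹ * b * u = z * b := by
      rw [hu, hb, hz, ← map_inv, ← map_mul, ← map_mul, ← map_mul]
      congr 1
      simp only [DihedralGroup.inv_r, DihedralGroup.r_mul_sr, DihedralGroup.sr_mul_r, DihedralGroup.sr.injEq]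
      linear_combination hhh + hH
    have hx3 : u⁻¹ * (z * b) * u = b := by
      calc u⁻¹ * (z * b) * u = u⁻¹ * z * u * (u⁻¹ * b * u) := by group
        _ = b := by rw [hx1, hx2, ← mul_assoc, hzz, one_mul]
    -- a conjugation fixing the reflection
    obtain ⟨y, hy1, hy2⟩ : ∃ y : G, y⁻¹ * b * y = b ∧ y⁻¹ * z * y = z * b := by
      obtain ⟨c, hc⟩ := hfus i
      set S := (T : Subgroup G).map (MulAut.conj c).toMonoidHom with hS
      have hSb : ∀ v, v ∈ S ↔ Commute v b := by
        intro v
        rw [show b = c * z * c⁻¹ from hc.symm]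
        constructor
        · rintro ⟨w, hw, rfl⟩
          have := Subgroup.mem_centralizer_singleton_iff.1 (hCz.ge hw)
          show c * w * c⁻¹ * (c * z * c⁻¹) = c * z * c⁻¹ * (c * w * c⁻¹)
          rw [show c * w * c⁻¹ * (c * z * c⁻¹) = c * (w * z) * c⁻¹ by group, this]
          group
        · intro hv
          refine ⟨c⁻¹ * v * c, hCz.le (Subgroup.mem_centralizer_singleton_iff.2 ?_), by
            show c * (c⁻¹ * v * c) * c⁻¹ = v; group⟩
          calc c⁻¹ * v * c * z = c⁻¹ * (v * (c * z * c⁻¹)) * c := by group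
            _ = c⁻¹ * (c * z * c⁻¹ * v) * c := by rw [hv.eq]
            _ = z * (c⁻¹ * v * c) := by group
      set V := (T : Subgroup G) ⊓ S with hV
      have hmemV : ∀ v ∈ V, v = 1 ∨ v = z ∨ v = b ∨ v = z * b := fun v hv => hCTb v hv.1 ((hSb v).1 hv.2)
      have hlt : V < S := by
        refine lt_of_le_of_ne inf_le_right fun e0 => ?_
        have h1 : Nat.card S ≤ 4 := by
          rw [← e0]
          refine le_trans (Nat.card_le_card_of_injective (fun v : V => (⟨(v : G), by
            rcases hmemV v v.2 with h | h | h | h <;> simp [h]⟩ : ({1, z, b, z * b} : Finset G)))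
            fun v w e1 => Subtype.ext (congrArg (fun x : ({1, z, b, z * b} : Finset G) => (x : G)) e1)) ?_
          rw [Nat.card_eq_fintype_card, Fintype.card_coe]
          exact Finset.card_le_four
        rw [hS, Subgroup.card_map_of_injective (f := (MulAut.conj c).toMonoidHom) (MulAut.conj c).injective,
          Nat.card_congr e.toEquiv, DihedralGroup.nat_card] at h1
        omega
      obtain ⟨y, hy, hyV⟩ := SetLike.exists_of_lt (exists_gt_normalizing (T.isPGroup'.map _) hlt)
      have hyb : y⁻¹ * b * y = b := by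
        rw [mul_assoc, ← ((hSb y).1 hy.1).eq, inv_mul_cancel_left]
      refine ⟨y, hyb, ?_⟩
      have hzV : z ∈ V := ⟨hιT _, (hSb z).2 hzb⟩
      have hmem := hmemV _ ((Subgroup.mem_normalizer_iff.1 (inv_mem hy.2) z).1 hzV)
      rw [inv_inv] at hmem
      rcases hmem with e0 | e0 | e0 | e0
      · exact absurd (by simpa [mul_assoc] using congrArg (fun v => y * v * y⁻¹) e0) hz1
      · refine absurd ?_ hyV
        refine Subgroup.mem_inf.2 ⟨hCz.le (Subgroup.mem_centralizer_singleton_iff.2 ?_), hy.1⟩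
        nth_rewrite 1 [← e0]
        group
      · refine absurd (mul_left_cancel (mul_right_cancel (e0.trans hyb.symm))) fun e1 => ?_
        rw [hz, hb] at e1
        cases hι e1
      · exact e0
    refine ⟨u * y, ?_, ?_, ?_⟩
    rotate_left
    · calc (u * y)⁻¹ * z * (u * y) = y⁻¹ * (u⁻¹ * z * u) * y := by group
        _ = z * b := by rw [hx1, hy2]
    · calc (u * y)⁻¹ * (z * b) * (u * y) = y⁻¹ * (u⁻¹ * (z * b) * u) * y := by group
        _ = b := by rw [hx3, hy1]
    -- the order
    set g := u * y with hg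
    have e1 : g⁻¹ * z * g = z * b := by
      calc (u * y)⁻¹ * z * (u * y) = y⁻¹ * (u⁻¹ * z * u) * y := by group
        _ = z * b := by rw [hx1, hy2]
    have e2 : g⁻¹ * (z * b) * g = b := by
      calc (u * y)⁻¹ * (z * b) * (u * y) = y⁻¹ * (u⁻¹ * (z * b) * u) * y := by group
        _ = b := by rw [hx3, hy1]
    have e3 : g⁻¹ * b * g = z := by
      calc g⁻¹ * b * g = (g⁻¹ * z * g)⁻¹ * (g⁻¹ * (z * b) * g) := by group
        _ = (z * b)⁻¹ * b := by rw [e1, e2]
        _ = b⁻¹ * z⁻¹ * b := by group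
        _ = z := by rw [inv_eq_of_mul_eq_one_right hbb, inv_eq_of_mul_eq_one_right hzz, ← hzb, mul_assoc, hbb, mul_one]
    have f1 : g * g * g ∈ (T : Subgroup G) := hCz.le (Subgroup.mem_centralizer_singleton_iff.2 (by
      calc g * g * g * z = g * g * g * (g⁻¹ * (g⁻¹ * (g⁻¹ * z * g) * g) * g) := by rw [e1, e2, e3]
        _ = z * (g * g * g) := by group))
    have f2 : Commute (g * g * g) b := by
      calc g * g * g * b = g * g * g * (g⁻¹ * (g⁻¹ * (g⁻¹ * b * g) * g) * g) := by rw [e3, e1, e2]
        _ = b * (g * g * g) := by group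
    have hcomm : g⁻¹ * (g * g * g) * g = g * g * g := by group
    haveI : Fact (Nat.Prime 3) := ⟨Nat.prime_three⟩
    refine orderOf_eq_prime ?_ fun e0 => ?_
    · rw [pow_three, ← mul_assoc]
      rcases hCTb _ f1 f2 with e0 | e0 | e0 | e0
      · exact e0
      · rw [e0, e1] at hcomm
        exact absurd (mul_eq_left.1 hcomm) hb1
      · rw [e0, e3] at hcomm
        refine absurd hcomm fun e4 => ?_
        rw [hz, hb] at e4
        cases hι e4
      · rw [e0, e2] at hcomm
        exact absurd (mul_eq_right.1 hcomm.symm) hz1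
    · rw [e0, inv_one, one_mul, mul_one] at e1
      exact hb1 (mul_eq_left.1 e1.symm)
  obtain ⟨g, hg, hg1, hg2⟩ := key 0
  obtain ⟨g', hg', hg1', hg2'⟩ := key (h : ℕ)
  have hbu : ι (DihedralGroup.sr 0) * u = ι (DihedralGroup.sr ((h : ℕ) : ZMod n)) := by
    rw [hu, ← map_mul, DihedralGroup.sr_mul_r, zero_add]
  refine ⟨u, ι (DihedralGroup.sr 0), g, g', ?_, hsr 0, ?_, hg, hg', ?_, ?_, ?_, ?_⟩
  · refine orderOf_eq_prime_pow (p := 2) (n := 1) ?_ ?_
    · rw [pow_one, pow_two, huu]
      exact (orderOf_two_iff.1 hzo).2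
    · rw [show (2 : ℕ) ^ (1 + 1) = 2 * 2 by norm_num, pow_mul, pow_two, pow_two, huu]
      exact (orderOf_two_iff.1 hzo).1
  · rw [hu, ← map_inv, ← map_inv, ← map_mul, ← map_mul]
    congr 1
    simp
  all_goals rw [huu]
  · exact hg1
  · exact hg2
  · rw [hbu]; exact hg1'
  · rw [hbu]; exact hg2'

/-- The four-group case. -/
theorem four_case [IsSimpleGroup G] (hna : ∃ a b : G, a * b ≠ b * a) (hC : CIT G) (V : Subgroup G)
    (hV4 : Nat.card V = 4) (hVsq : ∀ v ∈ V, v * v = 1) (hVC : Subgroup.centralizer (V : Set G) = V)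
    (h8 : ∃ Q : Subgroup G, IsPGroup 2 Q ∧ V < Q) : Dih G ∧ Lin G := by
  classical
  haveI : Fact (Nat.Prime 2) := ⟨Nat.prime_two⟩
  haveI := Fintype.ofFinite G
  have hV2 : IsPGroup 2 V := IsPGroup.of_card (n := 2) (by rw [hV4]; norm_num)
  obtain ⟨T, hT⟩ := hV2.exists_le_sylow
  haveI : Nontrivial (T : Subgroup G) := by
    rw [Subgroup.nontrivial_iff_ne_bot]
    intro e
    rw [le_bot_iff.1 (hT.trans e.le), Subgroup.card_bot] at hV4
    norm_num at hV4
  haveI := T.isPGroup'.center_nontrivial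
  obtain ⟨n, hn0, hn⟩ := (T.isPGroup'.to_subgroup (Subgroup.center (T : Subgroup G))).nontrivial_iff_card.1
    inferInstance
  obtain ⟨z₀, hz₀⟩ := exists_prime_orderOf_dvd_card' (G := Subgroup.center (T : Subgroup G)) 2
    (hn ▸ dvd_pow_self 2 hn0.ne')
  set z : G := ((z₀ : (T : Subgroup G)) : G) with hzdef
  have hz : orderOf z = 2 := by rw [hzdef, Subgroup.orderOf_coe, Subgroup.orderOf_coe, hz₀]
  have hzT : ∀ s ∈ (T : Subgroup G), s * z = z * s := fun s hs =>
    congrArg Subtype.val (Subgroup.mem_center_iff.1 z₀.2 ⟨s, hs⟩)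
  have hzV : z ∈ V := by
    rw [← hVC]
    exact Subgroup.mem_centralizer_iff.2 fun v hv => hzT v (hT hv)
  obtain ⟨u, hu, hu1, huz⟩ : ∃ u, u ∈ V ∧ u ≠ 1 ∧ u ≠ z := by
    by_contra hno
    push Not at hno
    have : Nat.card V ≤ 2 := by
      refine le_trans (Nat.card_le_card_of_injective
        (fun v : V => decide ((v : G) = 1)) fun a b e => ?_) (by simp)
      simp only [decide_eq_decide] at e
      by_cases ha : (a : G) = 1
      · exact Subtype.ext (ha.trans (e.1 ha).symm)
      · exact Subtype.ext ((hno a a.2 ha).trans (hno b b.2 fun hb => ha (e.2 hb)).symm)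
    omega
  have hcu : Nat.card (Subgroup.centralizer ({(⟨u, hT hu⟩ : (T : Subgroup G))} : Set (T : Subgroup G))) = 4 := by
    have hcomm : ∀ v ∈ V, v * u = u * v := fun v hv => Subgroup.mem_centralizer_iff.1 (hVC.ge hu) v hv
    rw [← hV4]
    refine Nat.card_congr
      { toFun := fun x => ⟨((x : (T : Subgroup G)) : G), ?_⟩
        invFun := fun v => ⟨⟨v, hT v.2⟩, Subgroup.mem_centralizer_singleton_iff.2 (Subtype.ext (hcomm v v.2))⟩
        left_inv := fun x => rfl
        right_inv := fun v => rfl }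
    rw [← hVC]
    refine Subgroup.mem_centralizer_iff.2 fun v hv => ?_
    set g : G := ((x : (T : Subgroup G)) : G)
    have hgu : u * g = g * u :=
      (congrArg Subtype.val (Subgroup.mem_centralizer_singleton_iff.1 x.2)).symm
    have hgz : z * g = g * z := (hzT g (x : (T : Subgroup G)).2).symm
    -- `V` is generated by `z` and `u`
    have hle : Subgroup.closure ({z, u} : Set G) = V := by
      refine Subgroup.eq_of_le_of_card_ge ((Subgroup.closure_le _).2 (by
        rintro w (rfl | rfl) <;> assumption)) ?_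
      have h1 := Subgroup.card_dvd_of_le ((Subgroup.closure_le V).2 (by
        rintro w (rfl | rfl) <;> assumption) : Subgroup.closure ({z, u} : Set G) ≤ V)
      rw [hV4] at h1 ⊢
      have hz' : z ∈ Subgroup.closure ({z, u} : Set G) := Subgroup.subset_closure (Or.inl rfl)
      have hu' : u ∈ Subgroup.closure ({z, u} : Set G) := Subgroup.subset_closure (Or.inr rfl)
      have hz1 : z ≠ 1 := fun e => by rw [e, orderOf_one] at hz; omega
      have h3 : 3 ≤ Nat.card (Subgroup.closure ({z, u} : Set G)) := by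
        haveI := Fintype.ofFinite (Subgroup.closure ({z, u} : Set G))
        rw [Nat.card_eq_fintype_card]
        exact Fintype.two_lt_card_iff.2 ⟨1, ⟨z, hz'⟩, ⟨u, hu'⟩, fun e => hz1 (congrArg Subtype.val e).symm,
          fun e => hu1 (congrArg Subtype.val e).symm, fun e => huz (congrArg Subtype.val e).symm⟩
      have := Nat.le_of_dvd (by norm_num) h1
      interval_cases (Nat.card (Subgroup.closure ({z, u} : Set G))) <;> simp_all
    have : g ∈ Subgroup.centralizer ({z, u} : Set G) := Subgroup.mem_centralizer_iff.2 (by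
      rintro w (rfl | rfl) <;> assumption)
    rw [← Subgroup.centralizer_closure, hle] at this
    exact Subgroup.mem_centralizer_iff.1 this v hv
  have hT8 : 8 ≤ Nat.card (T : Subgroup G) := by
    obtain ⟨Q, hQ, hVQ⟩ := h8
    obtain ⟨S, hS⟩ := hQ.exists_le_sylow
    have h1 := Solv.card_lt_of_lt hVQ
    have h2 := Nat.card_le_card_of_injective _ (Subgroup.inclusion_injective hS)
    obtain ⟨i, hi⟩ := IsPGroup.iff_card.1 hQ
    rw [hV4, hi] at h1
    have h3 : 3 ≤ i := by
      by_contra hlt
      have : 2 ^ i ≤ 2 ^ 2 := Nat.pow_le_pow_right two_pos (by omega)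
      omega
    have h4 : 2 ^ 3 ≤ 2 ^ i := Nat.pow_le_pow_right two_pos h3
    rw [hi, S.card_eq_multiplicity, ← T.card_eq_multiplicity] at h2
    omega
  rcases Lie.FixityTwoSylow.dihedral_or_cyclic T.isPGroup' (Subtype.ext (hVsq u hu)) hcu with
    (⟨m, ⟨e⟩⟩ | hqd) | ⟨hcyc, -⟩
  · have hTc := Nat.card_congr e.toEquiv
    rw [DihedralGroup.nat_card] at hTc
    have hm : 2 ≤ m := by omega
    have hOb : (Cfsg.oddCore (Subgroup.centralizer ({z} : Set G))).map
        (Subgroup.centralizer ({z} : Set G)).subtype = ⊥ := by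
      rw [Subgroup.map_eq_bot_iff_of_injective _ (Subgroup.subtype_injective _)]
      have hc := pPrimeCore_coprime (G := Subgroup.centralizer ({z} : Set G)) 2
      obtain ⟨k, hk⟩ := IsPGroup.iff_card.1
        ((hC z hz).to_subgroup (Cfsg.pPrimeCore 2 (Subgroup.centralizer ({z} : Set G))))
      rcases k with _ | k
      · exact Subgroup.card_eq_one.1 hk
      · rw [hk] at hc
        exact absurd (hc.symm.eq_one_of_dvd (dvd_pow_self 2 k.succ_ne_zero)) (by norm_num)
    obtain ⟨F, i1, i2, hFodd, ⟨f⟩⟩ := Char.BSW.psl_of_dihedral_wall T hm e hz (z₀ : (T : Subgroup G)).2 hzT ⊥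
      hOb.symm (fun h => absurd rfl h)
      (fun s _ hs => absurd (Subgroup.mem_centralizer_iff.2 fun w hw => by
        rw [Subgroup.mem_bot.1 hw, one_mul, mul_one]) hs)
      (fun Y hY hne => absurd (le_bot_iff.1 hY) hne)
    obtain ⟨h, rfl⟩ : ∃ h, m = 2 * (2 * h) := by
      obtain ⟨i, hi⟩ := IsPGroup.iff_card.1 T.isPGroup'
      rw [hTc] at hi
      rcases i with _ | _ | _ | i
      · omega
      · omega
      · omega
      · exact ⟨2 ^ i, by rw [pow_succ, pow_succ, pow_succ] at hi; omega⟩
    haveI : NeZero (2 * (2 * h)) := ⟨by omega⟩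
    refine ⟨dih_of_dihedral hna hC T (by omega) e, lin_of_iso hC hFodd ?_ ?_ f⟩
    · exact hT8.trans (Subgroup.card_le_card_group _)
    · intro h12
      have := Subgroup.card_subgroup_dvd_card (T : Subgroup G)
      rw [h12, hTc] at this
      have := Nat.le_of_dvd (by norm_num) this
      obtain rfl : h = 1 := by omega
      norm_num at *
  · exfalso
    obtain ⟨R, -, ⟨K, -, -, hK2, hKq⟩, -⟩ := S1213.result T (Or.inl hqd)
      (fun H hH => EPPOSeven.not_simple_abelian hna hH) z hz
    have hK : IsPGroup 2 K := (hC z hz).to_subgroup K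
    obtain ⟨P⟩ : Nonempty (Sylow 2 K) := inferInstance
    obtain ⟨m, hm, ⟨e⟩⟩ := hKq P
    obtain ⟨k, hk⟩ := IsPGroup.iff_card.1 hK
    have hPc := P.card_eq_multiplicity
    rw [Nat.card_congr e.toEquiv, hk, Nat.prime_two.factorization_pow, Finsupp.single_eq_same] at hPc
    obtain ⟨H, hH⟩ := Sylow.exists_subgroup_card_pow_prime (G := K) 2 (n := k - 1)
      (hk ▸ Nat.pow_dvd_pow 2 (Nat.sub_le k 1))
    refine hK2 H ?_
    haveI : NeZero (2 ^ m) := ⟨pow_ne_zero _ two_ne_zero⟩
    have hk1 : 1 ≤ k := by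
      by_contra hlt
      have : k = 0 := by omega
      subst this
      rw [Nat.card_eq_fintype_card, QuaternionGroup.card] at hPc
      have := Nat.one_le_two_pow (n := m)
      omega
    obtain ⟨j, rfl⟩ : ∃ j, k = j + 1 := ⟨k - 1, by omega⟩
    have h1 := H.card_mul_index
    rw [hH, hk, Nat.add_sub_cancel, pow_succ] at h1
    exact Nat.eq_of_mul_eq_mul_left (pow_pos two_pos j) h1
  · exfalso
    haveI := hcyc
    have h := IsCyclic.card_pow_eq_one_le (α := (T : Subgroup G)) (n := 2) two_pos
    have hz1 : z ≠ 1 := fun e => by rw [e, orderOf_one] at hz; omega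
    have h3 : ({1, ⟨z, hT hzV⟩, ⟨u, hT hu⟩} : Finset (T : Subgroup G)).card = 3 :=
      Finset.card_eq_three.2 ⟨_, _, _, fun e => hz1 (congrArg Subtype.val e).symm,
        fun e => hu1 (congrArg Subtype.val e).symm, fun e => huz (congrArg Subtype.val e).symm, rfl⟩
    have hsub : ({1, ⟨z, hT hzV⟩, ⟨u, hT hu⟩} : Finset (T : Subgroup G)) ⊆
        Finset.univ.filter (fun a => a ^ 2 = 1) := by
      intro a ha
      simp only [Finset.mem_insert, Finset.mem_singleton] at ha
      refine Finset.mem_filter.2 ⟨Finset.mem_univ _, ?_⟩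
      rcases ha with rfl | rfl | rfl
      · exact one_pow 2
      · exact Subtype.ext ((pow_two z).trans (hVsq z hzV))
      · exact Subtype.ext ((pow_two u).trans (hVsq u hu))
    have := Finset.card_le_card hsub
    omega

end Cfsg.Agent.Solv.CITGroups
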