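import Cfsg.Agent.Lib.Solv.CIT.ExcThreeFour
import Cfsg.Agent.Lib.Solv.CIT.Four

/-!
The classification of simple groups of even order in which centralizers of involutions are 2-groups.
-/

set_option autoImplicit false
set_option linter.style.haveILetI false
set_option linter.unusedSectionVars false

namespace Cfsg.Agent.Solv.CITGroups

open Cfsg
open Cfsg.Agent.Solv.EPPOSeven (cS cOf)

universe u

/-- The three families. -/
theorem classify {G : Type u} [Group G] [Finite G] [IsSimpleGroup G] (hna : ∃ a b : G, a * b ≠ b * a) (hC : CIT G)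
    (h2 : 2 ∣ Nat.card G) (hb : Below.{u} (Nat.card G)) : Bor G ∨ L34 G ∨ (Dih G ∧ Lin G) := by
  classical
  haveI : Fact (Nat.Prime 2) := ⟨Nat.prime_two⟩
  by_cases hloc : Locals G
  · exact Or.inl (bor_of_locals hna hC h2 hloc)
  simp only [Locals] at hloc
  push Not at hloc
  obtain ⟨X, hX, hX2, P, hnn1, hnn2⟩ := hloc
  set S := (P : Subgroup (Subgroup.normalizer (X : Set G))).map (Subgroup.normalizer (X : Set G)).subtype with hS
  have hSH : S ≤ (Subgroup.normalizer (X : Set G)) := Subgroup.map_subtype_le _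
  let τ : S →* (Subgroup.normalizer (X : Set G)) := Subgroup.inclusion hSH
  have hτ : Function.Injective τ := Subgroup.inclusion_injective hSH
  have hτr : (P : Subgroup (Subgroup.normalizer (X : Set G))) = τ.range := by
    ext x
    constructor
    · intro hx
      exact ⟨⟨x, x, hx, rfl⟩, Subtype.ext rfl⟩
    · rintro ⟨⟨y, y', hy', e⟩, rfl⟩
      exact (show y' = Subgroup.inclusion hSH ⟨y, y', hy', e⟩ from Subtype.ext e) ▸ hy'
  have hmapn : ∀ K : Subgroup (Subgroup.normalizer (X : Set G)), K.Normal → (Subgroup.normalizer (X : Set G)) ≤ Subgroup.normalizer ((K.map (Subgroup.normalizer (X : Set G)).subtype : Subgroup G) : Set G) := by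
    intro K hK
    have h := Subgroup.le_normalizer_map (H := K) (Subgroup.normalizer (X : Set G)).subtype
    rwa [@Subgroup.normalizer_eq_top _ _ _ hK, ← MonoidHom.range_eq_map, Subgroup.range_subtype] at h
  have hPn : ¬ (P : Subgroup (Subgroup.normalizer (X : Set G))).Normal := fun hP => hnn1 (hmapn _ hP)
  have hcS : ¬ ((cS S).map τ).Normal := fun hn => hnn2 (by
    have h := hmapn _ hn
    rwa [Subgroup.map_map, show (Subgroup.normalizer (X : Set G)).subtype.comp τ = S.subtype from rfl] at h)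
  haveI := Solv.pCore_normal (G := (Subgroup.normalizer (X : Set G))) 2
  have hXH : X ≤ (Subgroup.normalizer (X : Set G)) := Subgroup.le_normalizer
  haveI : (X.subgroupOf (Subgroup.normalizer (X : Set G))).Normal := ⟨fun v hv g => (Subgroup.mem_normalizer_iff.1 g.2 v).1 hv⟩
  have hXc : X.subgroupOf (Subgroup.normalizer (X : Set G)) ≤ Cfsg.pCore 2 (Subgroup.normalizer (X : Set G)) := Solv.normal_le_pCore hX2.comap_subtype
  have hcore : Cfsg.pCore 2 (Subgroup.normalizer (X : Set G)) ≠ ⊥ := fun e => hX ((Subgroup.subgroupOf_eq_bot.1 (le_bot_iff.1 (hXc.trans e.le))).eq_bot_of_le hXH)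
  by_cases hJ : ∀ A ∈ Cfsg.maxAbelianSubgroups S, A.map τ ≤ Cfsg.pCore 2 (Subgroup.normalizer (X : Set G))
  · exact absurd (cS_normal_of_no_offender τ hτ P hτr (hC.subgroup (Subgroup.normalizer (X : Set G))) hcore hJ) hcS
  by_cases hsolv : Group.IsSolvable (Subgroup.normalizer (X : Set G))
  · rcases local_char_solvable (hC.subgroup (Subgroup.normalizer (X : Set G))) hsolv hcore τ hτ P hτr hPn with hn | ⟨h4, hsq, hcen⟩
    · exact absurd hn hcS
    refine Or.inr (Or.inr ?_)
    set V := (Cfsg.pCore 2 (Subgroup.normalizer (X : Set G))).map (Subgroup.normalizer (X : Set G)).subtype with hV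
    refine four_case hna hC V ((Solv.card_map_subtype _).trans h4) ?_ ?_ ⟨S, P.isPGroup'.map _, ?_⟩
    · rintro _ ⟨v, hv, rfl⟩
      exact congrArg Subtype.val (hsq v hv)
    · refine le_antisymm (fun g hg => ?_) ?_
      · have hgH : g ∈ (Subgroup.normalizer (X : Set G)) := by
          have hc : ∀ v ∈ X, g * v * g⁻¹ = v := fun v hv => by
            rw [← Subgroup.mem_centralizer_iff.1 hg v ⟨⟨v, hXH hv⟩, hXc hv, rfl⟩, mul_inv_cancel_right]
          refine Subgroup.mem_normalizer_iff.2 fun y => ⟨fun hy => (hc y hy).symm ▸ hy, fun hy => ?_⟩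
          have h8 : g * y * g⁻¹ = y := by
            have h3 := congrArg (fun v => g⁻¹ * v * g) (hc _ hy)
            simpa [mul_assoc] using h3
          rwa [h8] at hy
        exact ⟨⟨g, hgH⟩, hcen.le (Subgroup.mem_centralizer_iff.2 fun v hv => Subtype.ext
          (Subgroup.mem_centralizer_iff.1 hg v ⟨v, hv, rfl⟩)), rfl⟩
      · rintro _ ⟨v, hv, rfl⟩
        refine Subgroup.mem_centralizer_iff.2 ?_
        rintro _ ⟨w, hw, rfl⟩
        exact congrArg Subtype.val (Subgroup.mem_centralizer_iff.1 (hcen.ge hv) w hw)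
    · refine lt_of_le_of_ne (Subgroup.map_mono (core_le_sylow P)) fun e => hPn ?_
      rw [← Subgroup.map_injective (f := (Subgroup.normalizer (X : Set G)).subtype) (Subgroup.normalizer (X : Set G)).subtype_injective e]
      infer_instance
  · obtain ⟨A, hAP, hAc, hAD, hmax⟩ := exists_offender τ hτ P hτr hJ
    haveI := hAc
    obtain ⟨n, D, hD⟩ := hC.excIn_of_offender hb hX hX2 hsolv hAP hAD hmax
    exact Or.inr (Or.inl (L34.of_exc hna hC hb hD))

theorem below_all (c : ℕ) : Below.{u} c := by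
  induction c using Nat.strong_induction_on with
  | _ c ih =>
    intro K _ _ hK hs hna hC h2
    rcases @classify K _ _ hs hna hC h2 (ih _ hK) with h | h | h
    · exact Or.inl h
    · exact Or.inr (Or.inr h)
    · exact Or.inr (Or.inl h.1)

/-- The classification in even order. -/
theorem cit_classification {G : Type u} [Group G] [Finite G] [IsSimpleGroup G] (hna : ∃ a b : G, a * b ≠ b * a)
    (hC : CIT G) (h2 : 2 ∣ Nat.card G) :
    (∃ (F : Type) (_ : Field F) (_ : Fintype F),
        (Fintype.card F = 9 ∨ (∃ n : ℕ, Fintype.card F = 2 ^ n) ∨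
          ((Fintype.card F).Prime ∧ ∃ k : ℕ, Fintype.card F = 2 ^ k + 1 ∨ Fintype.card F + 1 = 2 ^ k)) ∧
        Nonempty (G ≃* Matrix.ProjectiveSpecialLinearGroup (Fin 2) F)) ∨
    (∃ (F : Type) (_ : Field F) (_ : Fintype F), Fintype.card F = 4 ∧
        Nonempty (G ≃* Matrix.ProjectiveSpecialLinearGroup (Fin 3) F)) ∨
    Cfsg.IsSuzuki G := by
  rcases classify hna hC h2 (below_all _) with ⟨n, T, hB⟩ | h | ⟨-, F, i1, i2, hF, hiso⟩
  · rcases hB.ident with ⟨F, i1, i2, hF, hiso⟩ | hs
    · exact Or.inl ⟨F, i1, i2, Or.inr (Or.inl ⟨n, hF⟩), hiso⟩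
    · exact Or.inr (Or.inr hs)
  · exact Or.inr (Or.inl h)
  · refine Or.inl ⟨F, i1, i2, ?_, hiso⟩
    rcases hF with h9 | hp
    · exact Or.inl h9
    · exact Or.inr (Or.inr hp)

/-- The classification in even order, up to isomorphism. -/
theorem cit_classification_iso {G : Type u} [Group G] [Finite G] [IsSimpleGroup G] (hna : ∃ a b : G, a * b ≠ b * a)
    (hC : CIT G) (h2 : 2 ∣ Nat.card G) :
    (∃ (F : Type) (_ : Field F) (_ : Fintype F),
        (Fintype.card F = 9 ∨ (∃ n : ℕ, Fintype.card F = 2 ^ n) ∨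
          ((Fintype.card F).Prime ∧ ∃ k : ℕ, Fintype.card F = 2 ^ k + 1 ∨ Fintype.card F + 1 = 2 ^ k)) ∧
        Nonempty (G ≃* Matrix.ProjectiveSpecialLinearGroup (Fin 2) F)) ∨
    (∃ (F : Type) (_ : Field F) (_ : Fintype F), Fintype.card F = 4 ∧
        Nonempty (G ≃* Matrix.ProjectiveSpecialLinearGroup (Fin 3) F)) ∨
    Cfsg.Lie.IsoSuzuki G := by
  rcases classify hna hC h2 (below_all _) with ⟨n, T, hB⟩ | h | ⟨-, F, i1, i2, hF, hiso⟩
  · rcases hB.ident_iso with ⟨F, i1, i2, hF, hiso⟩ | ⟨-, -, -, hs⟩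
    · exact Or.inl ⟨F, i1, i2, Or.inr (Or.inl ⟨n, hF⟩), hiso⟩
    · exact Or.inr (Or.inr hs)
  · exact Or.inr (Or.inl h)
  · refine Or.inl ⟨F, i1, i2, ?_, hiso⟩
    rcases hF with h9 | hp
    · exact Or.inl h9
    · exact Or.inr (Or.inr hp)


end Cfsg.Agent.Solv.CITGroups
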