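import Cfsg.Agent.Lib.Solv.CIT.EPPOArith
import Cfsg.Agent.Lib.Solv.CIT.Main
import Cfsg.Agent.Lib.Solv.EPPO
import Cfsg.Agent.Lib.Lie.SuzukiPartition
import Cfsg.Agent.Lib.Lie.SuzukiSp4
import Cfsg.Agent.Lib.Lie.OrderSixty
import Cfsg.Agent.Lib.Small.SL2.Orders
import Cfsg.Agent.Lib.Classical.Dickson.Tools
import Cfsg.Agent.S0183
import Cfsg.Agent.S0497

/-!
The simple groups in which every element has prime power order.
-/

set_option autoImplicit false
set_option linter.style.haveILetI false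
set_option linter.unusedSectionVars false

namespace Cfsg.Agent.Solv.CITGroups

open Cfsg
open Cfsg.Agent.Solv.EPPOArith

universe u

/-- The small linear groups in dimension two. -/
def PSLSmall (G : Type u) [Group G] : Prop :=
  ∃ (F : Type) (_ : Field F) (_ : Fintype F), Fintype.card F ∈ ({4, 7, 8, 17} : Finset ℕ) ∧
    Nonempty (G ≃* Matrix.ProjectiveSpecialLinearGroup (Fin 2) F)

/-- The small Suzuki groups. -/
def SzSmall (G : Type u) [Group G] : Prop :=
  ∃ (F : Type) (_ : Field F) (_ : Fintype F),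
    (Fintype.card F = 8 ∧ Nonempty (G ≃* ↥(Cfsg.Lie.Sz F 4))) ∨ (Fintype.card F = 32 ∧ Nonempty (G ≃* ↥(Cfsg.Lie.Sz F 8)))

variable {G : Type u} [Group G] [Finite G]

theorem isPGroup_centralizer_of_ipp (h : ∀ g : G, g ≠ 1 → IsPrimePow (orderOf g)) {x : G} {p : ℕ} (hp : p.Prime)
    (hx : orderOf x = p) : IsPGroup p (Subgroup.centralizer ({x} : Set G)) := by
  refine IsPGroup.of_card (Nat.eq_prime_pow_of_unique_prime_dvd Nat.card_pos.ne' fun {r} hr hrd => ?_)
  haveI := Fact.mk hr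
  obtain ⟨⟨y, hy⟩, hyo⟩ := exists_prime_orderOf_dvd_card' r hrd
  rw [Subgroup.orderOf_mk] at hyo
  exact (EPPO.prime_eq_of_commute h hp hr hx hyo (Subgroup.mem_centralizer_singleton_iff.1 hy).symm).symm

theorem cit_of_ipp (h : ∀ g : G, g ≠ 1 → IsPrimePow (orderOf g)) : CIT G := fun _ ht =>
  isPGroup_centralizer_of_ipp h Nat.prime_two ht

theorem even_of_ipp (h : ∀ g : G, g ≠ 1 → IsPrimePow (orderOf g)) (hns : ¬ Group.IsSolvable G) : 2 ∣ Nat.card G := by
  by_contra hodd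
  refine hns (S0183.result (Nat.not_even_iff_odd.1 fun e => hodd (even_iff_two_dvd.1 e)) fun g hg => ?_)
  obtain ⟨p, hp, hpd⟩ := Nat.exists_prime_and_dvd (fun e => hg (orderOf_eq_one_iff.1 e))
  haveI := Fact.mk hp
  have ho := orderOf_pow_orderOf_div (orderOf_pos g).ne' hpd
  have hle : Subgroup.centralizer ({g} : Set G) ≤ Subgroup.centralizer ({g ^ (orderOf g / p)} : Set G) := fun y hy =>
    Subgroup.mem_centralizer_singleton_iff.2
      ((show Commute y g from Subgroup.mem_centralizer_singleton_iff.1 hy).pow_right _).eq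
  exact ((isPGroup_centralizer_of_ipp h hp ho).to_le hle).isNilpotent

theorem not_sol_of_simple [IsSimpleGroup G] (hna : ∃ a b : G, a * b ≠ b * a) : ¬ Group.IsSolvable G :=
  fun h => Char.BSW.not_simple_of_solvable hna h

theorem four_le_card [IsSimpleGroup G] (hna : ∃ a b : G, a * b ≠ b * a) {F : Type} [Field F] [Fintype F]
    (e : G ≃* Matrix.ProjectiveSpecialLinearGroup (Fin 2) F) : 4 ≤ Fintype.card F := by
  by_contra hlt
  have hc := Classical.Dickson.card_psl F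
  rw [← Nat.card_congr e.toEquiv] at hc
  have h1 : 1 < Fintype.card F := Fintype.one_lt_card
  refine Char.BSW.not_simple_of_solvable hna
    (Char.isSolvable_of_two_primes Nat.prime_two Nat.prime_three (Nat.card G) rfl fun r hr hrd => ?_)
  have h2 : r ∣ (2 * 3) ^ 4 := by
    refine (hrd.trans (dvd_mul_right _ (Nat.gcd 2 (Fintype.card F - 1)))).trans ?_
    rw [hc]
    interval_cases Fintype.card F <;> norm_num
  rcases hr.dvd_mul.1 (hr.dvd_of_dvd_pow h2) with h3 | h3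
  · exact Or.inl ((Nat.prime_dvd_prime_iff_eq hr Nat.prime_two).1 h3)
  · exact Or.inr ((Nat.prime_dvd_prime_iff_eq hr Nat.prime_three).1 h3)

theorem psl_orders (h : ∀ g : G, g ≠ 1 → IsPrimePow (orderOf g)) {F : Type} [Field F] [Fintype F]
    (e : G ≃* Matrix.ProjectiveSpecialLinearGroup (Fin 2) F) (h4 : 4 ≤ Fintype.card F) {m : ℕ}
    (hm1 : m ≠ 1) (hm : m ∣ (Fintype.card F - 1) / Nat.gcd 2 (Fintype.card F - 1) ∨
      m ∣ (Fintype.card F + 1) / Nat.gcd 2 (Fintype.card F - 1)) : IsPrimePow m := by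
  obtain ⟨p, hp⟩ := CharP.exists F
  haveI : Fact p.Prime := ⟨CharP.char_is_prime F p⟩
  obtain ⟨y, hy⟩ := Small.SL2C.order_exists p h4 m (Or.inr hm)
  rw [← hy, ← orderOf_injective e.symm.toMonoidHom e.symm.injective y]
  refine h _ fun he => hm1 ?_
  rw [← hy, (e.symm.map_eq_one_iff.1 he), orderOf_one]

theorem psl_two_pow (h : ∀ g : G, g ≠ 1 → IsPrimePow (orderOf g)) {F : Type} [Field F] [Fintype F]
    (e : G ≃* Matrix.ProjectiveSpecialLinearGroup (Fin 2) F) (h4 : 4 ≤ Fintype.card F) {n : ℕ}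
    (hn : Fintype.card F = 2 ^ n) : Fintype.card F = 4 ∨ Fintype.card F = 8 := by
  have hn0 : 2 ≤ n := by
    by_contra hlt
    interval_cases n <;> omega
  have hev : Fintype.card F % 2 = 0 := by
    rw [hn, Nat.pow_mod, Nat.mod_self, zero_pow (by omega), Nat.zero_mod]
  have hg : Nat.gcd 2 (Fintype.card F - 1) = 1 :=
    Nat.coprime_iff_gcd_eq_one.1 ((Nat.prime_two.coprime_iff_not_dvd).2 (by omega))
  have h3 : 3 ∣ Fintype.card F - 1 ∨ 3 ∣ Fintype.card F + 1 := by
    have : Fintype.card F % 3 ≠ 0 := fun e0 => by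
      have h3' := Nat.prime_three.dvd_of_dvd_pow (Nat.dvd_of_mod_eq_zero (hn ▸ e0))
      omega
    rcases (show Fintype.card F % 3 = 1 ∨ Fintype.card F % 3 = 2 by omega) with e3 | e3
    · exact Or.inl (Nat.dvd_of_mod_eq_zero (by omega))
    · exact Or.inr (Nat.dvd_of_mod_eq_zero (by omega))
  rcases h3 with h3 | h3
  · obtain ⟨a, -, ha⟩ := eq_pow_of_dvd Nat.prime_three
      (psl_orders h e h4 (m := Fintype.card F - 1) (by omega) (Or.inl (by rw [hg, Nat.div_one]))) h3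
    have := two_pow_eq_succ (k := n) (a := a) (by omega)
    left
    rw [hn, show n = 2 by omega]
    norm_num
  · obtain ⟨a, -, ha⟩ := eq_pow_of_dvd Nat.prime_three
      (psl_orders h e h4 (m := Fintype.card F + 1) (by omega) (Or.inr (by rw [hg, Nat.div_one]))) h3
    rcases three_pow_eq_succ (k := n) (b := a) (by omega) with hk | hk
    · omega
    · right
      rw [hn, hk]
      norm_num

theorem psl_prime (h : ∀ g : G, g ≠ 1 → IsPrimePow (orderOf g)) {F : Type} [Field F] [Fintype F]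
    (e : G ≃* Matrix.ProjectiveSpecialLinearGroup (Fin 2) F) (h4 : 4 ≤ Fintype.card F)
    (hq : (Fintype.card F).Prime) {k : ℕ} (hk : Fintype.card F = 2 ^ k + 1 ∨ Fintype.card F + 1 = 2 ^ k) :
    Fintype.card F = 5 ∨ Fintype.card F = 7 ∨ Fintype.card F = 17 := by
  obtain ⟨j, hj⟩ := hq.odd_of_ne_two (by omega)
  have hg : Nat.gcd 2 (Fintype.card F - 1) = 2 := Nat.gcd_eq_left (by omega)
  have hk2 : 2 ≤ k := by
    by_contra hlt
    interval_cases k <;> omega
  obtain ⟨k, rfl⟩ : ∃ i, k = i + 1 := ⟨k - 1, by omega⟩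
  have hq3 : ¬ 3 ∣ Fintype.card F := fun h3 => by
    have := (Nat.prime_dvd_prime_iff_eq Nat.prime_three hq).1 h3
    omega
  have hp3 : ¬ 3 ∣ 2 ^ (k + 1) := fun h3 => by
    have := Nat.prime_three.dvd_of_dvd_pow h3
    omega
  rw [pow_succ] at hk hp3
  have hhalf : ∀ x, 3 ∣ x → 2 ∣ x → 3 ∣ x / 2 := fun x h3 h2 => by
    obtain ⟨y, rfl⟩ := h2
    rw [Nat.mul_div_cancel_left _ two_pos]
    exact (Nat.Coprime.dvd_mul_left (by norm_num)).1 h3
  have hq3' : Fintype.card F % 3 ≠ 0 := fun e0 => hq3 (Nat.dvd_of_mod_eq_zero e0)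
  have hp3' : 2 ^ k * 2 % 3 ≠ 0 := fun e0 => hp3 (Nat.dvd_of_mod_eq_zero e0)
  rcases hk with hk | hk
  · have hX : 2 ^ k * 2 % 3 = 1 := by
      rcases (show 2 ^ k * 2 % 3 = 1 ∨ 2 ^ k * 2 % 3 = 2 by omega) with h' | h' <;> omega
    obtain ⟨a, -, ha⟩ := eq_pow_of_dvd Nat.prime_three
      (psl_orders h e h4 (m := (Fintype.card F + 1) / 2) (by omega) (Or.inr (by rw [hg]))) (hhalf _ (Nat.dvd_of_mod_eq_zero (by omega)) (Nat.dvd_of_mod_eq_zero (by omega)))
    rcases three_pow_eq_succ (k := k) (b := a) (by omega) with hk' | hk' <;> subst hk' <;> omega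
  · have hX : 2 ^ k * 2 % 3 = 2 := by
      rcases (show 2 ^ k * 2 % 3 = 1 ∨ 2 ^ k * 2 % 3 = 2 by omega) with h' | h' <;> omega
    obtain ⟨a, -, ha⟩ := eq_pow_of_dvd Nat.prime_three
      (psl_orders h e h4 (m := (Fintype.card F - 1) / 2) (by omega) (Or.inl (by rw [hg]))) (hhalf _ (Nat.dvd_of_mod_eq_zero (by omega)) (Nat.dvd_of_mod_eq_zero (by omega)))
    have := two_pow_eq_succ (k := k) (a := a) (by omega)
    interval_cases k <;> omega

theorem suzuki_small (h : ∀ g : G, g ≠ 1 → IsPrimePow (orderOf g)) (hs : Cfsg.Lie.IsoSuzuki G) : SzSmall G := by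
  obtain ⟨F, iF, iFF, m, hm, hF, ⟨e⟩⟩ := hs
  obtain ⟨e'⟩ := Lie.Suzuki.lie_sz_equiv hF hm
  let f : Cfsg.Sz F m ≃* G := e'.trans e.symm
  have hipp : ∀ g : Cfsg.Sz F m, g ≠ 1 → IsPrimePow (orderOf g) := fun g hg => by
    rw [← orderOf_injective f.toMonoidHom f.injective g]
    exact h _ fun he => hg (f.map_eq_one_iff.1 he)
  obtain ⟨U, V, hU, hV, hprod, -, hW, -⟩ := Lie.Suzuki.Partition.exists_tori hF hm
  have hpp : ∀ W : Subgroup (Cfsg.Sz F m), (∀ x ∈ W, ∀ y ∈ W, x * y = y * x) → 1 < Nat.card W →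
      IsPrimePow (Nat.card W) := by
    intro W hWc hW1
    obtain ⟨r, hr, hrd⟩ := Nat.exists_prime_and_dvd hW1.ne'
    haveI := Fact.mk hr
    obtain ⟨⟨x, hx⟩, hxo⟩ := exists_prime_orderOf_dvd_card' r hrd
    rw [Subgroup.orderOf_mk] at hxo
    have hle : W ≤ Subgroup.centralizer ({x} : Set (Cfsg.Sz F m)) := fun y hy =>
      Subgroup.mem_centralizer_singleton_iff.2 (hWc y hy x hx)
    obtain ⟨j, hj⟩ := IsPGroup.iff_card.1 ((isPGroup_centralizer_of_ipp hipp hr hxo).to_le hle)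
    rw [hj]
    exact hr.isPrimePow.pow (fun e0 => by rw [hj, e0] at hW1; simp at hW1)
  have h5 : 5 ∣ Nat.card U * Nat.card V := by rw [hprod, hF]; exact five_dvd_sq
  have hlt : 2 ^ (m + 1) < 2 ^ (2 * m + 1) := Nat.pow_lt_pow_right one_lt_two (by omega)
  have hpow : 2 ^ (2 * m + 1) = 2 ^ (m + 1) * 2 ^ m := by rw [← pow_add]; congr 1; ring
  have hup : 2 ^ (2 * m + 1) + 2 ^ (m + 1) + 1 ≤ 2 ^ (2 * m + 2) := by rw [pow_succ 2 (2 * m + 1)]; omega
  have hm2 : m ≤ 2 := by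
    rcases (show Nat.Prime 5 by norm_num).dvd_mul.1 h5 with h5 | h5
    · obtain ⟨a, ha, hU5⟩ := eq_pow_of_dvd (by norm_num) (hpp U (hW U (Or.inl rfl)).2.1 (by rw [hU]; omega)) h5
      refine five_pow ha ⟨2 ^ m + 1, ?_⟩ (by omega)
      rw [mul_add, mul_one, ← hpow]
      omega
    · obtain ⟨a, ha, hV5⟩ := eq_pow_of_dvd (by norm_num) (hpp V (hW V (Or.inr rfl)).2.1 (by rw [hV]; omega)) h5
      refine five_pow ha ⟨2 ^ m - 1, ?_⟩ (by rw [← hV5, hV]; exact (Nat.add_le_add_right ((Nat.sub_le _ _).trans (Nat.le_add_right _ _)) 1).trans hup)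
      rw [Nat.mul_sub, mul_one, ← hpow]
      omega
  refine ⟨F, iF, iFF, ?_⟩
  interval_cases m
  · exact Or.inl ⟨by rw [hF]; norm_num, ⟨e⟩⟩
  · exact Or.inr ⟨by rw [hF]; norm_num, ⟨e⟩⟩

/-- Simple groups whose elements have prime power order, with their orders. -/
theorem ipp_simple_cases [IsSimpleGroup G] (h : ∀ g : G, g ≠ 1 → IsPrimePow (orderOf g))
    (hna : ∃ a b : G, a * b ≠ b * a) :
    (Nonempty (G ≃* alternatingGroup (Fin 6)) ∧ Nat.card G = 360) ∨ (PSLSmall G ∧ Nat.card G ∈ ({60, 168, 504, 2448} : Finset ℕ)) ∨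
      L34 G ∨ SzSmall G := by
  classical
  have h2 := even_of_ipp h (not_sol_of_simple hna)
  rcases cit_classification_iso hna (cit_of_ipp h) h2 with ⟨F, iF, iFF, hcase, ⟨e⟩⟩ | hL | hS
  · have h4 := four_le_card hna e
    have hc := Classical.Dickson.card_psl F
    rw [← Nat.card_congr e.toEquiv] at hc
    rcases hcase with h9 | ⟨n, hn⟩ | ⟨hp, k, hk⟩
    · rw [h9] at hc
      norm_num at hc
      exact Or.inl ⟨S0497.result (by omega), by omega⟩
    · rcases psl_two_pow h e h4 hn with hF | hF <;> rw [hF] at hc <;> norm_num at hc <;>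
        exact Or.inr (Or.inl ⟨⟨F, iF, iFF, by rw [hF]; decide, ⟨e⟩⟩, by simp [hc]⟩)
    · rcases psl_prime h e h4 hp hk with hF | hF | hF <;> rw [hF] at hc <;> norm_num at hc
      · -- five elements give the group over four elements
        have h60 : Nat.card G = 60 := by omega
        let K := GaloisField 2 2
        haveI := Fintype.ofFinite K
        have hK : Fintype.card K = 4 := by
          rw [← Nat.card_eq_fintype_card, GaloisField.card 2 2 two_ne_zero]; norm_num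
        haveI : IsSimpleGroup (Matrix.ProjectiveSpecialLinearGroup (Fin 2) K) :=
          Matrix.ProjectiveSpecialLinearGroup.rank_two_simple (by rw [Nat.card_eq_fintype_card, hK])
        have hcK := Classical.Dickson.card_psl K
        rw [hK, show Nat.gcd 2 (4 - 1) = 1 from rfl, mul_one] at hcK
        obtain ⟨e₁⟩ := Lie.simple_sixty h60
        obtain ⟨e₂⟩ := Lie.simple_sixty (G := Matrix.ProjectiveSpecialLinearGroup (Fin 2) K) (hcK.trans (by norm_num))
        exact Or.inr (Or.inl ⟨⟨K, inferInstance, inferInstance, by rw [hK]; decide, ⟨e₁.trans e₂.symm⟩⟩, by simp [h60]⟩)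
      · exact Or.inr (Or.inl ⟨⟨F, iF, iFF, by rw [hF]; decide, ⟨e⟩⟩, by
          simp only [Finset.mem_insert, Finset.mem_singleton]; omega⟩)
      · exact Or.inr (Or.inl ⟨⟨F, iF, iFF, by rw [hF]; decide, ⟨e⟩⟩, by
          simp only [Finset.mem_insert, Finset.mem_singleton]; omega⟩)
  · exact Or.inr (Or.inr (Or.inl hL))
  · exact Or.inr (Or.inr (Or.inr (suzuki_small h hS)))

end Cfsg.Agent.Solv.CITGroups
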