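import Cfsg.Agent.Lib.Small.ProjLineEven
import Cfsg.Agent.Lib.Solv.BrauerReynoldsIdent
import Cfsg.Agent.Lib.Small.SL2.Classes
import Mathlib.LinearAlgebra.Projectivization.PSL.PSL2

/-!
The local data of the projective special linear group over a field with `2 ^ n` elements.
-/

set_option autoImplicit false
set_option linter.style.haveILetI false

namespace Cfsg.Agent.Solv.CITGroups

open scoped MatrixGroups
open Matrix

universe u

variable {F : Type} [Field F] [Fintype F]

/-- An upper unitriangular matrix. -/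
def upperU (a : F) : SL(2, F) := ⟨!![1, a; 0, 1], by simp [Matrix.det_fin_two_of]⟩

theorem coe_upperU (a : F) : (↑(upperU a) : Matrix (Fin 2) (Fin 2) F) = !![1, a; 0, 1] := rfl

theorem upperU_add (a b : F) : upperU a * upperU b = upperU (a + b) := by
  ext i j
  fin_cases i <;> fin_cases j <;>
    simp [coe_upperU, Matrix.SpecialLinearGroup.coe_mul, Matrix.mul_apply, Fin.sum_univ_two, add_comm]

theorem upperU_zero : upperU (0 : F) = 1 := by
  ext i j
  fin_cases i <;> fin_cases j <;> simp [coe_upperU]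

theorem upperU_inj {a b : F} (h : upperU a = upperU b) : a = b := by
  have := congrArg (fun M : SL(2, F) => M 0 1) h
  simpa [coe_upperU] using this

/-- The upper unitriangular subgroup. -/
def upperSub : Subgroup SL(2, F) where
  carrier := Set.range upperU
  one_mem' := ⟨0, upperU_zero⟩
  mul_mem' := by rintro _ _ ⟨a, rfl⟩ ⟨b, rfl⟩; exact ⟨a + b, (upperU_add a b).symm⟩
  inv_mem' := by
    rintro _ ⟨a, rfl⟩
    exact ⟨-a, eq_inv_of_mul_eq_one_left (by rw [upperU_add, neg_add_cancel, upperU_zero])⟩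

/-- A diagonal matrix. -/
def diagU (c : Fˣ) : SL(2, F) := ⟨!![(c : F), 0; 0, ((c⁻¹ : Fˣ) : F)], by simp [Matrix.det_fin_two_of]⟩

theorem coe_diagU (c : Fˣ) : (↑(diagU c) : Matrix (Fin 2) (Fin 2) F) = !![(c : F), 0; 0, ((c⁻¹ : Fˣ) : F)] := rfl

theorem diagU_mul (c d : Fˣ) : diagU c * diagU d = diagU (c * d) := by
  ext i j
  fin_cases i <;> fin_cases j <;> simp [coe_diagU, Matrix.SpecialLinearGroup.coe_mul, Matrix.mul_apply, Fin.sum_univ_two, mul_comm]

/-- The diagonal map. -/
def diagHom : Fˣ →* SL(2, F) where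
  toFun := diagU
  map_one' := by ext i j; fin_cases i <;> fin_cases j <;> simp [coe_diagU]
  map_mul' c d := (diagU_mul c d).symm

theorem diag_upper (c : Fˣ) (a : F) : diagU c * upperU a = upperU ((c : F) * c * a) * diagU c := by
  ext i j
  fin_cases i <;> fin_cases j <;> simp [coe_diagU, coe_upperU, Matrix.SpecialLinearGroup.coe_mul, Matrix.mul_apply, Fin.sum_univ_two]
  field_simp

theorem diag_mem_normalizer (c : Fˣ) : diagU c ∈ Subgroup.normalizer ((upperSub : Subgroup SL(2, F)) : Set SL(2, F)) := by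
  refine Subgroup.mem_normalizer_iff.2 fun m => ⟨?_, ?_⟩
  · rintro ⟨a, rfl⟩
    exact ⟨(c : F) * c * a, by rw [diag_upper, mul_inv_cancel_right]⟩
  · rintro ⟨a, ha⟩
    refine ⟨((c⁻¹ : Fˣ) : F) * ((c⁻¹ : Fˣ) : F) * a, ?_⟩
    have h := diag_upper c (((c⁻¹ : Fˣ) : F) * ((c⁻¹ : Fˣ) : F) * a)
    rw [show (c : F) * c * (((c⁻¹ : Fˣ) : F) * ((c⁻¹ : Fˣ) : F) * a) = a by
      simp only [Units.val_inv_eq_inv_val]; field_simp, ha, inv_mul_cancel_right] at h
    exact mul_left_cancel h

/-- The Weyl element in characteristic two. -/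
def weylU [CharP F 2] : SL(2, F) := ⟨!![0, 1; 1, 0], by simp [Matrix.det_fin_two_of, CharTwo.neg_eq]⟩

theorem coe_weylU [CharP F 2] : (↑(weylU : SL(2, F)) : Matrix (Fin 2) (Fin 2) F) = !![0, 1; 1, 0] := rfl

theorem weyl_diag [CharP F 2] (c : Fˣ) : weylU * diagU c = diagU c⁻¹ * weylU := by
  ext i j
  fin_cases i <;> fin_cases j <;> simp [coe_weylU, coe_diagU, Matrix.SpecialLinearGroup.coe_mul, Matrix.mul_apply, Fin.sum_univ_two]

theorem sl_det (g : SL(2, F)) : g 0 0 * g 1 1 - g 0 1 * g 1 0 = 1 := by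
  have := g.2
  rwa [Matrix.det_fin_two] at this

theorem upper_shape [CharP F 2] {g : SL(2, F)} {a : F} (ha : a ≠ 0) (h : g * upperU a = upperU a * g) :
    g ∈ upperSub := by
  have h00 := congrArg (fun M : SL(2, F) => M 0 0) h
  have h01 := congrArg (fun M : SL(2, F) => M 0 1) h
  simp [coe_upperU, Matrix.SpecialLinearGroup.coe_mul, Matrix.mul_apply, Fin.sum_univ_two, ha] at h00 h01
  have h11 : g 1 1 = g 0 0 := by
    refine mul_left_cancel₀ ha ?_
    linear_combination -h01
  have hd := sl_det g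
  rw [h00, h11, mul_zero, sub_zero] at hd
  have h1 : g 0 0 = 1 := by
    have : (g 0 0 - 1) * (g 0 0 - 1) = 0 := by
      linear_combination hd + (1 - g 0 0) * (CharTwo.two_eq_zero (R := F))
    exact sub_eq_zero.1 (mul_self_eq_zero.1 this)
  refine ⟨g 0 1, ?_⟩
  ext i j
  fin_cases i <;> fin_cases j <;> simp [coe_upperU, h00, h11, h1]

/-- Upper triangular matrices are products. -/
theorem triangular {g : SL(2, F)} (h : g 1 0 = 0) : ∃ (a : F) (c : Fˣ), g = upperU a * diagU c := by
  have hd := sl_det g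
  rw [h, mul_zero, sub_zero] at hd
  have h0 : g 0 0 ≠ 0 := fun e => by rw [e, zero_mul] at hd; exact zero_ne_one hd
  refine ⟨g 0 1 * g 0 0, Units.mk0 _ h0, ?_⟩
  have h11 : g 1 1 = (g 0 0)⁻¹ := eq_inv_of_mul_eq_one_right hd
  ext i j
  fin_cases i <;> fin_cases j <;> simp [coe_upperU, coe_diagU, Matrix.SpecialLinearGroup.coe_mul, Matrix.mul_apply, Fin.sum_univ_two, h, h11]
  field_simp

theorem normalizer_shape {g : SL(2, F)}
    (hg : g ∈ Subgroup.normalizer ((upperSub : Subgroup SL(2, F)) : Set SL(2, F))) : g 1 0 = 0 := by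
  obtain ⟨b, hb⟩ := (Subgroup.mem_normalizer_iff.1 hg (upperU 1)).1 ⟨1, rfl⟩
  have e : g * upperU 1 = upperU b * g := by rw [hb]; group
  have h11 := congrArg (fun M : SL(2, F) => M 1 1) e
  simp [coe_upperU, Matrix.SpecialLinearGroup.coe_mul, Matrix.mul_apply, Fin.sum_univ_two] at h11
  exact h11

theorem card_normalizer_upper :
    Nat.card ↥(Subgroup.normalizer ((upperSub : Subgroup SL(2, F)) : Set SL(2, F))) =
      Fintype.card F * (Fintype.card F - 1) := by
  classical
  rw [← Fintype.card_units, ← Fintype.card_prod, ← Nat.card_eq_fintype_card]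
  refine (Nat.card_eq_of_bijective (fun p : F × Fˣ => (⟨upperU p.1 * diagU p.2,
    mul_mem (Subgroup.le_normalizer ⟨p.1, rfl⟩) (diag_mem_normalizer _)⟩ :
      Subgroup.normalizer ((upperSub : Subgroup SL(2, F)) : Set SL(2, F)))) ⟨?_, ?_⟩).symm
  · rintro ⟨a, c⟩ ⟨b, d⟩ e
    have e' : upperU a * diagU c = upperU b * diagU d := congrArg Subtype.val e
    have h00 := congrArg (fun M : SL(2, F) => M 0 0) e'
    have h01 := congrArg (fun M : SL(2, F) => M 0 1) e'
    simp [coe_upperU, coe_diagU, Matrix.SpecialLinearGroup.coe_mul, Matrix.mul_apply, Fin.sum_univ_two] at h00 h01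
    obtain rfl : c = d := Units.ext h00
    exact Prod.ext (by simpa using h01) rfl
  · rintro ⟨g, hg⟩
    obtain ⟨a, c, e⟩ := triangular (normalizer_shape hg)
    exact ⟨(a, c), Subtype.ext e.symm⟩

/-- The data of the special linear group. -/
theorem exists_data_sl [CharP F 2] {n : ℕ} (hn : 2 ≤ n) (hF : Fintype.card F = 2 ^ n) :
    Nonempty (Small.ProjLineEven.Data SL(2, F) (2 ^ n)) := by
  classical
  obtain ⟨ζ, hζ⟩ := IsCyclic.exists_ofOrder_eq_natCard (α := Fˣ)
  rw [Nat.card_eq_fintype_card, Fintype.card_units, hF] at hζ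
  have hinj : Function.Injective (diagHom : Fˣ →* SL(2, F)) := fun c d e => by
    have := congrArg (fun M : SL(2, F) => M 0 0) e
    simpa [diagHom, coe_diagU, Units.val_inj] using this
  refine ⟨{ S := upperSub, y := diagU ζ, w := weylU, four_le := ?_, cardG := ?_, cardS := ?_, sq := ?_, cent := ?_,
            cardN := ?_, ordy := ?_, memy := diag_mem_normalizer ζ, inv := ?_ }⟩
  · calc 4 = 2 ^ 2 := by norm_num
      _ ≤ 2 ^ n := Nat.pow_le_pow_right two_pos hn
  · rw [Small.SL2C.card_SL2, hF, show (2 ^ n) ^ 2 - 1 = (2 ^ n + 1) * (2 ^ n - 1) from Nat.sq_sub_sq _ 1]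
    ring
  · rw [← hF, ← Nat.card_eq_fintype_card]
    exact (Nat.card_eq_of_bijective (fun a : F => (⟨upperU a, a, rfl⟩ : (upperSub : Subgroup SL(2, F))))
      ⟨fun a b e => upperU_inj (congrArg Subtype.val e), fun ⟨_, a, ha⟩ => ⟨a, Subtype.ext ha⟩⟩).symm
  · rintro _ ⟨a, rfl⟩
    rw [upperU_add, CharTwo.add_self_eq_zero, upperU_zero]
  · rintro _ ⟨a, rfl⟩ ha g hg
    exact upper_shape (fun e => ha (by rw [e, upperU_zero])) hg
  · rw [card_normalizer_upper, hF]
  · exact (orderOf_injective diagHom hinj ζ).trans hζ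
  · rw [weyl_diag, mul_inv_cancel_right]
    exact map_inv diagHom ζ

/-- Groups with the data are the projective special linear groups. -/
theorem iso_of_data {G : Type u} [Group G] [Finite G] [IsSimpleGroup G] {n : ℕ} (hn : 2 ≤ n)
    (D : Small.ProjLineEven.Data G (2 ^ n)) :
    ∃ (F : Type) (_ : Field F) (_ : Fintype F), Fintype.card F = 2 ^ n ∧
      Nonempty (G ≃* Matrix.ProjectiveSpecialLinearGroup (Fin 2) F) := by
  classical
  haveI : Fact (Nat.Prime 2) := ⟨Nat.prime_two⟩
  haveI := Fintype.ofFinite (GaloisField 2 n)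
  have hF : Fintype.card (GaloisField 2 n) = 2 ^ n := by
    rw [← Nat.card_eq_fintype_card]; exact GaloisField.card 2 n (by omega)
  have hc := Solv.BReyn.center_eq_bot_two_pow (m := n) (by omega) (GaloisField 2 n) hF
  let e : Matrix.SpecialLinearGroup (Fin 2) (GaloisField 2 n) ≃*
      Matrix.ProjectiveSpecialLinearGroup (Fin 2) (GaloisField 2 n) :=
    MulEquiv.ofBijective (QuotientGroup.mk' _)
      ⟨by rw [← MonoidHom.ker_eq_bot_iff, QuotientGroup.ker_mk', hc], QuotientGroup.mk'_surjective _⟩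
  haveI := Matrix.ProjectiveSpecialLinearGroup.rank_two_simple (F := GaloisField 2 n) (by
    rw [Nat.card_eq_fintype_card, hF]
    calc 4 = 2 ^ 2 := by norm_num
      _ ≤ 2 ^ n := Nat.pow_le_pow_right two_pos hn)
  haveI : IsSimpleGroup (Matrix.SpecialLinearGroup (Fin 2) (GaloisField 2 n)) :=
    e.isSimpleGroup
  obtain ⟨D'⟩ := exists_data_sl hn hF
  obtain ⟨i⟩ := Small.ProjLineEven.iso D D' (GaloisField 2 n) hF
  exact ⟨GaloisField 2 n, inferInstance, inferInstance, hF, ⟨i.trans e⟩⟩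

end Cfsg.Agent.Solv.CITGroups
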