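import Cfsg.Agent.Lib.Solv.CIT.CN
import Cfsg.Agent.Lib.Fusion.NPC
import Cfsg.Agent.Lib.Char.TISimpleSocle
import Cfsg.Agent.Lib.Solv.Cores
import Cfsg.Agent.Lib.Lead.SupersolubleCore

/-!
Lifting the centralizer condition from a simple normal subgroup with nilpotent centralizers.
-/

set_option autoImplicit false
set_option linter.style.haveILetI false
set_option linter.unusedSectionVars false

namespace Cfsg.Agent.Solv.CITGroups

open Cfsg

universe u

variable {G : Type u} [Group G] [Finite G] {N : Subgroup G} [hNn : N.Normal]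

theorem mem_cent_singleton {x s : G} (h : Commute x s) : x ∈ Subgroup.centralizer ({s} : Set G) :=
  Subgroup.mem_centralizer_singleton_iff.2 h.eq

/-- A simple nonabelian group has no normal 2-complement. -/
theorem exists_action [IsSimpleGroup N] (hna : ∃ a b : N, a * b ≠ b * a) (T : Sylow 2 N)
    (h2 : 2 ∣ Nat.card N) :
    ∃ V : Subgroup N, V ≤ (T : Subgroup N) ∧ ∃ k ∈ Subgroup.normalizer (V : Set N),
      Odd (orderOf k) ∧ k ∉ Subgroup.centralizer (V : Set N) := by
  haveI : Fact (Nat.Prime 2) := ⟨Nat.prime_two⟩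
  by_contra hno
  obtain ⟨P, K, hK, hc⟩ := Fusion.hnpc_of_centralize (Fusion.sylIn_top T) fun V hV k hk hko => by
    by_contra hkc
    exact hno ⟨V, hV, k, hk, Nat.coprime_two_right.1 hko, hkc⟩
  obtain ⟨n, hn⟩ := IsPGroup.iff_card.1 P.isPGroup'
  rcases IsSimpleGroup.eq_bot_or_eq_top_of_normal K hK with e | e
  · -- a simple 2-group is abelian
    subst e
    rw [Subgroup.isComplement'_bot_left] at hc
    have hN2 : IsPGroup 2 N := IsPGroup.of_card (n := n) (by rw [← hn, hc, Subgroup.card_top])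
    haveI := hN2.isNilpotent
    haveI : Group.IsSolvable N := inferInstance
    obtain ⟨a, b, hab⟩ := hna
    exact hab (IsSimpleGroup.comm_iff_isSolvable.2 inferInstance a b)
  · subst e
    rw [Subgroup.isComplement'_top_left] at hc
    exact P.ne_bot_of_dvd_card h2 hc

/-- An element of odd order centralizing an involution of the simple subgroup is trivial. -/
theorem eq_one_of_odd_commute [IsSimpleGroup N] (hna : ∃ a b : N, a * b ≠ b * a) (hC : CIT N)
    (hnil : ∀ v ∈ N, orderOf v = 2 → Group.IsNilpotent (Subgroup.centralizer ({v} : Set G)))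
    {g z : G} (hg : Odd (orderOf g)) (hzN : z ∈ N) (hz : orderOf z = 2) (hgz : Commute g z)
    (hgnil : g ≠ 1 → Group.IsNilpotent (Subgroup.centralizer ({g} : Set G))) : g = 1 := by
  classical
  by_contra hg1
  haveI : Fact (Nat.Prime 2) := ⟨Nat.prime_two⟩
  -- whatever centralizes an involution fixed by `g` is fixed by `g`
  have key : ∀ v : N, orderOf v = 2 → Commute g (v : G) → ∀ u : N, Commute u v → Commute g (u : G) := by
    intro v hv hgv u huv
    obtain ⟨k, hk⟩ := IsPGroup.iff_orderOf.1 (hC v hv) ⟨u, Subgroup.mem_centralizer_singleton_iff.2 huv.eq⟩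
    rw [Subgroup.orderOf_mk] at hk
    exact nilpotent_odd_two (hnil v v.2 (by rw [Subgroup.orderOf_coe, hv])) (mem_cent_singleton hgv)
      (mem_cent_singleton (huv.map N.subtype)) hg (k := k) (by rw [Subgroup.orderOf_coe, hk])
  have hzo : orderOf (⟨z, hzN⟩ : N) = 2 := by rw [Subgroup.orderOf_mk, hz]
  obtain ⟨T, hT⟩ := (IsPGroup.of_card (n := 1) (by rw [Nat.card_zpowers, hzo, pow_one]) :
    IsPGroup 2 (Subgroup.zpowers (⟨z, hzN⟩ : N))).exists_le_sylow
  have hzT : (⟨z, hzN⟩ : N) ∈ (T : Subgroup N) := hT (Subgroup.mem_zpowers _)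
  haveI : Nontrivial (T : Subgroup N) := ⟨⟨⟨_, hzT⟩, 1, fun e => by
    have : (⟨z, hzN⟩ : N) = 1 := congrArg Subtype.val e
    rw [this, orderOf_one] at hzo
    omega⟩⟩
  haveI := T.isPGroup'.center_nontrivial
  obtain ⟨z₀, hz₀C, hz₀⟩ := exists_invol_mem (T.isPGroup'.to_subgroup (Subgroup.center (T : Subgroup N)))
    ((Subgroup.nontrivial_iff_ne_bot _).1 inferInstance)
  rw [← Subgroup.orderOf_coe] at hz₀
  have hz₀T : ∀ u ∈ (T : Subgroup N), Commute u (z₀ : N) := fun u hu =>
    congrArg Subtype.val (Subgroup.mem_center_iff.1 hz₀C ⟨u, hu⟩)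
  have hgT : ∀ u ∈ (T : Subgroup N), Commute g (u : G) := fun u hu =>
    key _ hz₀ (key ⟨z, hzN⟩ hzo hgz _ (hz₀T _ hzT).symm) u (hz₀T u hu)
  have h2 : 2 ∣ Nat.card N := hzo ▸ orderOf_dvd_natCard _
  obtain ⟨V, hVT, k, hkV, hko, hkc⟩ := exists_action hna T h2
  have hVne : V ≠ ⊥ := fun e => hkc (Subgroup.mem_centralizer_iff.2 fun v hv => by
    have hv1 : v = 1 := Subgroup.mem_bot.1 (e ▸ hv)
    rw [hv1, one_mul, mul_one])
  obtain ⟨v, hvV, hv⟩ := exists_invol_mem (T.isPGroup'.to_le hVT) hVne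
  -- the commutator
  set c : N := ⟨g * k * g⁻¹ * (k : G)⁻¹, mul_mem (hNn.conj_mem _ k.2 g) (inv_mem k.2)⟩ with hc
  have hkv : k⁻¹ * v * k ∈ V := (Subgroup.mem_normalizer_iff.1 hkV _).2 (by
    rwa [show k * (k⁻¹ * v * k) * k⁻¹ = v by group])
  have hcv : Commute c v := by
    refine Subtype.ext ?_
    have e1 : g * (v : G) * g⁻¹ = v := by rw [(hgT v (hVT hvV)).eq, mul_inv_cancel_right]
    have e2 : g * ((k⁻¹ * v * k : N) : G) * g⁻¹ = ((k⁻¹ * v * k : N) : G) := by
      rw [(hgT _ (hVT hkv)).eq, mul_inv_cancel_right]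
    push_cast at e2 ⊢
    show g * k * g⁻¹ * (k : G)⁻¹ * (v : G) = (v : G) * (g * k * g⁻¹ * (k : G)⁻¹)
    calc g * k * g⁻¹ * (k : G)⁻¹ * (v : G) = g * k * g⁻¹ * ((k : G)⁻¹ * v * k) * (k : G)⁻¹ := by group
      _ = g * k * g⁻¹ * (g * ((k : G)⁻¹ * v * k) * g⁻¹) * (k : G)⁻¹ := by rw [e2]
      _ = (g * v * g⁻¹) * (g * k * g⁻¹ * (k : G)⁻¹) := by group
      _ = _ := by rw [e1]
  have hgc : Commute g (c : G) := key v hv (hgT v (hVT hvV)) c hcv
  have hpow : ∀ n : ℕ, g ^ n * k * (g ^ n)⁻¹ = (c : G) ^ n * k := by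
    intro n
    induction n with
    | zero => simp
    | succ n ih =>
      calc g ^ (n + 1) * k * (g ^ (n + 1))⁻¹ = g * (g ^ n * k * (g ^ n)⁻¹) * g⁻¹ := by rw [pow_succ']; group
        _ = (g * (c : G) ^ n) * k * g⁻¹ := by rw [ih]; group
        _ = ((c : G) ^ n * g) * k * g⁻¹ := by rw [(hgc.pow_right n).eq]
        _ = (c : G) ^ n * (g * k * g⁻¹ * (k : G)⁻¹) * k := by group
        _ = _ := by rw [pow_succ]
  have hcg : (c : G) ^ orderOf g = 1 := by
    have := hpow (orderOf g)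
    rw [pow_orderOf_eq_one, one_mul, inv_one, mul_one] at this
    exact mul_eq_right.1 this.symm
  obtain ⟨j, hj⟩ := IsPGroup.iff_orderOf.1 (hC v hv) ⟨c, Subgroup.mem_centralizer_singleton_iff.2 hcv.eq⟩
  rw [Subgroup.orderOf_mk, ← Subgroup.orderOf_coe] at hj
  have hc1 : (c : G) = 1 := orderOf_eq_one_iff.1 (Nat.eq_one_of_dvd_coprimes
    (Nat.Coprime.pow_left j (Nat.coprime_two_left.2 hg)) hj.dvd (orderOf_dvd_of_pow_eq_one hcg))
  have hgk : Commute g (k : G) := mul_inv_eq_iff_eq_mul.1 (mul_inv_eq_one.1 hc1)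
  refine hkc (Subgroup.mem_centralizer_iff.2 fun w hw => Subtype.ext ?_)
  obtain ⟨i, hi⟩ := IsPGroup.iff_orderOf.1 (T.isPGroup'.to_le hVT) ⟨w, hw⟩
  rw [Subgroup.orderOf_mk] at hi
  exact (nilpotent_odd_two (hgnil hg1) (mem_cent_singleton hgk.symm) (mem_cent_singleton (hgT w (hVT hw)).symm)
    (by rwa [Subgroup.orderOf_coe]) (k := i) (by rw [Subgroup.orderOf_coe, hi])).eq.symm

/-- The centralizer condition passes to the whole group. -/
theorem cit_of_normal [IsSimpleGroup N] (hna : ∃ a b : N, a * b ≠ b * a) (hC : CIT N) (h2 : 2 ∣ Nat.card N)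
    (hnil : ∀ v : G, orderOf v = 2 → Group.IsNilpotent (Subgroup.centralizer ({v} : Set G)))
    (hodd : ∀ g t : G, g ≠ 1 → Odd (orderOf g) → orderOf t = 2 → Commute g t →
      Group.IsNilpotent (Subgroup.centralizer ({g} : Set G))) : CIT G := by
  intro t ht
  haveI : Fact (Nat.Prime 2) := ⟨Nat.prime_two⟩
  refine IsPGroup.iff_orderOf.2 fun y => ?_
  obtain ⟨a, b, k, he, haz, hbz, hao, hbo⟩ := exists_parts (y : G)
  obtain ⟨i, hi⟩ := Subgroup.mem_zpowers_iff.1 hbz
  have hbt : Commute b t := hi ▸ Commute.zpow_left (Subgroup.mem_centralizer_singleton_iff.1 y.2) i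
  -- a central involution of the simple subgroup in a common Sylow subgroup
  obtain ⟨S, hS⟩ := (IsPGroup.of_card (n := 1) (by rw [Nat.card_zpowers, ht, pow_one]) :
    IsPGroup 2 (Subgroup.zpowers t)).exists_le_sylow
  have htS : t ∈ (S : Subgroup G) := hS (Subgroup.mem_zpowers _)
  obtain ⟨T⟩ : Nonempty (Sylow 2 N) := inferInstance
  obtain ⟨g, hg⟩ : ∃ g : G, T.map N.subtype ≤ (S : Subgroup G).map (MulAut.conj g).toMonoidHom := by
    obtain ⟨S', hS'⟩ := (T.isPGroup'.map N.subtype).exists_le_sylow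
    obtain ⟨g, hg⟩ := MulAction.exists_smul_eq G S S'
    refine ⟨g, hS'.trans (le_of_eq ?_)⟩
    rw [← hg]
    rfl
  haveI : ((N ⊓ (S : Subgroup G)).subgroupOf (S : Subgroup G)).Normal := by
    rw [Subgroup.inf_subgroupOf_right]
    exact hNn.subgroupOf _
  have hne : (N ⊓ (S : Subgroup G)).subgroupOf (S : Subgroup G) ≠ ⊥ := by
    rw [Ne, Subgroup.subgroupOf_eq_bot]
    intro e
    obtain ⟨w, hwT, hwo⟩ := exists_invol_mem T.isPGroup' (T.ne_bot_of_dvd_card h2)
    obtain ⟨s, hs, hse⟩ := hg ⟨w, hwT, rfl⟩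
    have hse' : g * s * g⁻¹ = (w : G) := hse
    have hsN : s ∈ N := by
      have := hNn.conj_mem _ w.2 g⁻¹
      rwa [← hse', show g⁻¹ * (g * s * g⁻¹) * g⁻¹⁻¹ = s by group] at this
    have hs1 : s = 1 := Subgroup.disjoint_def.1 e ⟨hsN, hs⟩ hs
    rw [hs1, mul_one, mul_inv_cancel] at hse'
    rw [← Subgroup.orderOf_coe, ← hse', orderOf_one] at hwo
    omega
  haveI : Nontrivial (S : Subgroup G) := ⟨⟨⟨t, htS⟩, 1, fun e => by
    have : t = 1 := congrArg Subtype.val e
    rw [this, orderOf_one] at ht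
    omega⟩⟩
  obtain ⟨z, hzN, hzc⟩ : ∃ z : (S : Subgroup G), z ∈ (N ⊓ (S : Subgroup G)).subgroupOf (S : Subgroup G) ∧
      z ∈ Subgroup.center (S : Subgroup G) ∧ z ≠ 1 := by
    obtain ⟨z, hz, hzc, hz1⟩ := Lead.SupCore.inf_center_ne_bot' S.isPGroup' _ hne
    exact ⟨z, hz, hzc, hz1⟩
  obtain ⟨hzc, hz1⟩ := hzc
  obtain ⟨j, hj⟩ := IsPGroup.iff_orderOf.1 S.isPGroup' z
  have hj0 : j ≠ 0 := fun e => hz1 (orderOf_eq_one_iff.1 (by rw [hj, e, pow_zero]))
  set v : (S : Subgroup G) := z ^ (2 ^ (j - 1)) with hv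
  have hvo : orderOf (v : G) = 2 := by
    rw [Subgroup.orderOf_coe, hv, orderOf_pow' _ (by positivity), hj, Nat.gcd_eq_right (pow_dvd_pow 2 (by omega)),
      Nat.pow_div (by omega) two_pos, show j - (j - 1) = 1 by omega, pow_one]
  have hvN : (v : G) ∈ N := (pow_mem hzN _ : v ∈ (N ⊓ (S : Subgroup G)).subgroupOf (S : Subgroup G)).1
  have hvt : Commute t (v : G) :=
    congrArg Subtype.val (Subgroup.mem_center_iff.1 (pow_mem hzc (2 ^ (j - 1))) ⟨t, htS⟩)
  have hbv : Commute b (v : G) := nilpotent_odd_two (hnil t ht) (mem_cent_singleton hbt)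
    (mem_cent_singleton hvt.symm) hbo (k := 1) (by rw [hvo, pow_one])
  have hb1 : b = 1 := eq_one_of_odd_commute hna hC (fun w _ hw => hnil w hw) hbo hvN hvo hbv
    fun hb => hodd b t hb hbo ht hbt
  exact ⟨k, by rw [← Subgroup.orderOf_coe, he, hb1, mul_one, hao]⟩

/-- A minimal normal subgroup is simple when involutions have nilpotent centralizers. -/
theorem simple_of_minimal (hrad : ∀ K : Subgroup G, K.Normal → Group.IsSolvable K → K = ⊥)
    (hodd : ∀ K : Subgroup G, Odd (Nat.card K) → Group.IsSolvable K)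
    (hnil : ∀ v : G, orderOf v = 2 → Group.IsNilpotent (Subgroup.centralizer ({v} : Set G)))
    (hN1 : N ≠ ⊥) (hmin : ∀ M : Subgroup G, M.Normal → M ≤ N → M = ⊥ ∨ M = N) :
    IsSimpleGroup N ∧ (∃ a b : N, a * b ≠ b * a) ∧ 2 ∣ Nat.card N := by
  classical
  haveI : Fact (Nat.Prime 2) := ⟨Nat.prime_two⟩
  haveI : Nontrivial N := (Subgroup.nontrivial_iff_ne_bot N).2 hN1
  have hns : ¬ Group.IsSolvable N := fun h => hN1 (hrad N hNn h)
  refine ⟨⟨fun S₀ hS₀ => or_iff_not_imp_left.2 fun hS0 => ?_⟩, ?_, ?_⟩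
  · obtain ⟨S', hS'n, hS'1, hS'le, hS'min⟩ := Solv.exists_minimal_normal_le S₀ hS0
    haveI := hS'n
    by_contra hne
    have hS'top : S' ≠ ⊤ := fun e => hne (top_le_iff.1 (e ▸ hS'le))
    set Sg := S'.map N.subtype with hSg
    obtain ⟨g, hg⟩ : ∃ g : G, ¬ Sg.map (MulAut.conj g).toMonoidHom ≤ Sg := by
      by_contra hall
      push Not at hall
      haveI : Sg.Normal := ⟨fun x hx g => hall g ⟨x, hx, rfl⟩⟩
      have h1 := (hmin Sg inferInstance (Subgroup.map_subtype_le _)).resolve_left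
        fun e => hS'1 ((Subgroup.map_eq_bot_iff_of_injective _ N.subtype_injective).1 e)
      refine hS'top (top_le_iff.1 fun y _ => ?_)
      obtain ⟨z, hz, e⟩ := h1.ge y.2
      rwa [show y = z from Subtype.ext e.symm]
    let φ : N →* N := ((MulAut.conjNormal g : MulAut N)).toMonoidHom
    have hφ : Function.Bijective φ := (MulAut.conjNormal g : MulAut N).bijective
    set S'' := S'.map φ with hS''
    haveI : S''.Normal := hS'n.map φ hφ.2
    have hS''Sg : S''.map N.subtype = Sg.map (MulAut.conj g).toMonoidHom := by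
      rw [hS'', hSg, Subgroup.map_map, Subgroup.map_map]
      congr 1
    have hcard : Nat.card S'' = Nat.card S' := Subgroup.card_map_of_injective hφ.1
    have hdis : Disjoint S' S'' := by
      rw [disjoint_iff]
      refine (hS'min (S' ⊓ S'') inferInstance inf_le_left).resolve_right fun e => hg ?_
      rw [← hS''Sg, ← Subgroup.eq_of_le_of_card_ge (inf_eq_left.1 e) hcard.le, hSg]
    have hS'ns : ¬ Group.IsSolvable S' := by
      intro hsol
      obtain ⟨hab, p, hp, hex, -⟩ := Solv.minimal_normal_elementaryAbelian S' hsol hS'1 hS'min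
      haveI := Fact.mk hp
      have hP : IsPGroup p S' := fun x => ⟨1, Subtype.ext (by simpa using hex x.1 x.2)⟩
      haveI := Solv.pCore_normal (G := N) p
      haveI : (Cfsg.pCore p N).Characteristic := Fusion.pCore_characteristic
      have hcne : (Cfsg.pCore p N).map N.subtype ≠ ⊥ := fun e =>
        hS'1 (le_bot_iff.1 ((Solv.normal_le_pCore hP).trans
          ((Subgroup.map_eq_bot_iff_of_injective _ N.subtype_injective).1 e).le))
      haveI := ((Solv.pCore_isPGroup p : IsPGroup p (Cfsg.pCore p N)).map N.subtype).isNilpotent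
      exact hcne (hrad _ inferInstance inferInstance)
    have hS''2 : 2 ∣ Nat.card S'' := by
      by_contra h2
      have hodd' : Odd (Nat.card (S'.map N.subtype)) := by
        rw [Solv.card_map_subtype, ← hcard]
        exact Nat.not_even_iff_odd.1 fun e => h2 (even_iff_two_dvd.1 e)
      haveI := hodd _ hodd'
      exact hS'ns (Group.isSolvable_of_isSolvable_injective
        (f := (S'.equivMapOfInjective N.subtype N.subtype_injective).toMonoidHom) (MulEquiv.injective _))
    obtain ⟨⟨s, hsS⟩, hso⟩ := exists_prime_orderOf_dvd_card' 2 hS''2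
    rw [Subgroup.orderOf_mk, ← Subgroup.orderOf_coe] at hso
    have hle : S'.map N.subtype ≤ Subgroup.centralizer ({(s : G)} : Set G) := by
      rintro _ ⟨y, hy, rfl⟩
      exact mem_cent_singleton ((Subgroup.commute_of_normal_of_disjoint S' S'' hS'n inferInstance hdis y s hy hsS).map
        N.subtype)
    haveI := hnil _ hso
    haveI : Group.IsSolvable (S'.map N.subtype) := Solv.isSolvable_of_le hle inferInstance
    exact hS'ns (Group.isSolvable_of_isSolvable_injective
      (f := (S'.equivMapOfInjective N.subtype N.subtype_injective).toMonoidHom) (MulEquiv.injective _))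
  · by_contra hcomm
    push Not at hcomm
    exact hns (Group.isSolvable_of_comm hcomm)
  · by_contra h2
    exact hns (hodd N (Nat.not_even_iff_odd.1 fun e => h2 (even_iff_two_dvd.1 e)))

end Cfsg.Agent.Solv.CITGroups
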