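import Mathlib

/-!
Two commuting elements of order three of the projective special linear group of degree three over four elements.
-/

set_option autoImplicit false
set_option linter.style.haveILetI false

namespace Cfsg.Agent.Solv.CITGroups

open Matrix
open scoped MatrixGroups

variable {F : Type} [Field F] [Fintype F]

/-- The cyclic permutation matrix. -/
def cyclThree : SL(3, F) := ⟨!![0, 1, 0; 0, 0, 1; 1, 0, 0], by simp [Matrix.det_fin_three]⟩

/-- A diagonal matrix. -/
def diagThree (w : F) (hw : w ^ 3 = 1) : SL(3, F) :=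
  ⟨!![w, 0, 0; 0, w * w, 0; 0, 0, 1], by simp [Matrix.det_fin_three]; linear_combination hw⟩

theorem coe_cyclThree : (↑(cyclThree : SL(3, F)) : Matrix (Fin 3) (Fin 3) F) = !![0, 1, 0; 0, 0, 1; 1, 0, 0] := rfl

theorem coe_diagThree (w : F) (hw : w ^ 3 = 1) :
    (↑(diagThree w hw) : Matrix (Fin 3) (Fin 3) F) = !![w, 0, 0; 0, w * w, 0; 0, 0, 1] := rfl

theorem exists_commuting_threes (hF : Fintype.card F = 4) :
    ∃ x y : ProjectiveSpecialLinearGroup (Fin 3) F,
      orderOf x = 3 ∧ orderOf y = 3 ∧ x * y = y * x ∧ y ∉ Subgroup.zpowers x := by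
  classical
  haveI : Fact (Nat.Prime 3) := ⟨Nat.prime_three⟩
  obtain ⟨ζ, hζ⟩ := exists_prime_orderOf_dvd_card' (G := Fˣ) 3 (by
    rw [Nat.card_eq_fintype_card, Fintype.card_units, hF])
  have hw : (ζ : F) ^ 3 = 1 := by
    rw [← Units.val_pow_eq_pow_val, ← hζ, pow_orderOf_eq_one, Units.val_one]
  have hw1 : (ζ : F) ≠ 1 := fun e => by
    rw [Units.val_eq_one] at e
    rw [e, orderOf_one] at hζ
    omega
  set A : SL(3, F) := diagThree (ζ : F) hw with hA
  set P : SL(3, F) := cyclThree with hP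
  set π := QuotientGroup.mk' (Subgroup.center SL(3, F))
  have hcent : ∀ M : SL(3, F), (M : Matrix (Fin 3) (Fin 3) F) 0 1 ≠ 0 → M ∉ Subgroup.center SL(3, F) := by
    intro M hM hc
    obtain ⟨r, -, hr⟩ := Matrix.SpecialLinearGroup.mem_center_iff.1 hc
    rw [← hr] at hM
    simp at hM
  have hA3 : A ^ 3 = 1 := by
    rw [pow_three]
    ext i j
    fin_cases i <;> fin_cases j <;>
      simp [hA, coe_diagThree, Matrix.SpecialLinearGroup.coe_mul, Matrix.mul_apply, Fin.sum_univ_three] <;>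
      first
        | linear_combination hw
        | linear_combination ((ζ : F) ^ 3 + 1) * hw
  have hP3 : P ^ 3 = 1 := by
    rw [pow_three]
    ext i j
    fin_cases i <;> fin_cases j <;>
      simp [hP, coe_cyclThree, Matrix.SpecialLinearGroup.coe_mul, Matrix.mul_apply, Fin.sum_univ_three]
  have hAc : A ∉ Subgroup.center SL(3, F) := by
    intro hc
    obtain ⟨r, -, hr⟩ := Matrix.SpecialLinearGroup.mem_center_iff.1 hc
    have h00 := congrArg (fun M => M 0 0) hr
    have h22 := congrArg (fun M => M 2 2) hr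
    simp [hA, coe_diagThree] at h00 h22
    exact hw1 (h00.symm.trans h22)
  have hcomm : π A * π P = π P * π A := by
    rw [← _root_.map_mul, ← _root_.map_mul]
    refine QuotientGroup.eq.2 (Matrix.SpecialLinearGroup.mem_center_iff.2 ⟨(ζ : F), ?_, ?_⟩)
    · rw [Fintype.card_fin, hw]
    · have hinv : (A * P)⁻¹ = P ^ 2 * A ^ 2 := inv_eq_of_mul_eq_one_right (by
        rw [mul_assoc, ← mul_assoc P, ← pow_succ', hP3, one_mul, ← pow_succ', hA3])
      rw [hinv, pow_two P, pow_two A]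
      ext i j
      fin_cases i <;> fin_cases j <;>
        simp [hA, hP, coe_cyclThree, coe_diagThree, Matrix.SpecialLinearGroup.coe_mul, Matrix.mul_apply,
          Fin.sum_univ_three] <;>
        first
          | linear_combination (ζ : F) * hw
          | linear_combination (-(ζ : F)) * hw
          | linear_combination hw
          | linear_combination -hw
          | ring
  have hord : ∀ M : SL(3, F), M ^ 3 = 1 → M ∉ Subgroup.center SL(3, F) → orderOf (π M) = 3 := fun M h3 hc =>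
    orderOf_eq_prime (by rw [← map_pow, h3, map_one]) fun e => hc ((QuotientGroup.eq_one_iff M).1 e)
  refine ⟨π A, π P, hord A hA3 hAc, hord P hP3 (hcent P (by simp [hP, coe_cyclThree])), hcomm, fun hmem => ?_⟩
  obtain ⟨k, hk, hk'⟩ : ∃ k : ℕ, k < 3 ∧ π A ^ k = π P := by
    obtain ⟨k, hk⟩ := (mem_zpowers_iff_mem_range_orderOf.1 hmem) |> Finset.mem_image.1
    rw [hord A hA3 hAc, Finset.mem_range] at hk
    exact ⟨k, hk.1, hk.2⟩
  rw [← map_pow] at hk'
  refine hcent ((A ^ k)⁻¹ * P) ?_ (QuotientGroup.eq.1 hk')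
  rw [show (A ^ k)⁻¹ = A ^ (3 - k) from inv_eq_of_mul_eq_one_right (by
    rw [← pow_add, show k + (3 - k) = 3 by omega, hA3])]
  have hdiag : ∀ m : ℕ, ((A ^ m : SL(3, F)) : Matrix (Fin 3) (Fin 3) F) 0 1 = 0 ∧
      ((A ^ m : SL(3, F)) : Matrix (Fin 3) (Fin 3) F) 0 2 = 0 ∧
      ((A ^ m : SL(3, F)) : Matrix (Fin 3) (Fin 3) F) 0 0 ≠ 0 := by
    intro m
    have step : ∀ M : SL(3, F), (M : Matrix (Fin 3) (Fin 3) F) 0 1 = 0 ∧ (M : Matrix (Fin 3) (Fin 3) F) 0 2 = 0 ∧
        (M : Matrix (Fin 3) (Fin 3) F) 0 0 ≠ 0 → ((M * diagThree (ζ : F) hw : SL(3, F)) : Matrix (Fin 3) (Fin 3) F) 0 1 = 0 ∧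
        ((M * diagThree (ζ : F) hw : SL(3, F)) : Matrix (Fin 3) (Fin 3) F) 0 2 = 0 ∧
        ((M * diagThree (ζ : F) hw : SL(3, F)) : Matrix (Fin 3) (Fin 3) F) 0 0 ≠ 0 := fun M hM => by
      simp [coe_diagThree, Matrix.SpecialLinearGroup.coe_mul, Matrix.mul_apply, Fin.sum_univ_three, hM.1, hM.2.1,
        hM.2.2]
    induction m with
    | zero => simp
    | succ m ih =>
      rw [pow_succ, hA]
      exact step _ ih
  rw [Matrix.SpecialLinearGroup.coe_mul, Matrix.mul_apply, Fin.sum_univ_three]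
  simpa [hP, coe_cyclThree] using (hdiag (3 - k)).2.2

end Cfsg.Agent.Solv.CITGroups
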