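import Cfsg.Agent.Lib.Solv.CIT.Outer
import Cfsg.Agent.Lib.Solv.CIT.LThreeFour

/-!
The top of a nonsolvable local subgroup is a simple group with Borel data.
-/

set_option autoImplicit false
set_option linter.style.haveILetI false
set_option linter.unusedSectionVars false

namespace Cfsg.Agent.Solv.CITGroups

open Cfsg
open Cfsg.Agent.Solv.EPPOSeven (omegaCen omegaCen_comm omegaCen_normal omegaCen_le omegaCen_ne_bot)

universe u

/-- In a group with trivial core a minimal normal subgroup is simple. -/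
theorem CIT.minimal_simple {Q : Type u} [Group Q] [Finite Q] (hC : CIT Q) (hns : ¬ Group.IsSolvable Q)
    (h2 : 2 ∣ Nat.card Q) (hO : Cfsg.pCore 2 Q = ⊥) {N : Subgroup Q} [hNn : N.Normal] (hN1 : N ≠ ⊥)
    (hmin : ∀ M : Subgroup Q, M.Normal → M ≠ ⊥ → M ≤ N → M = N) :
    IsSimpleGroup N ∧ (∃ a b : N, a * b ≠ b * a) ∧ 2 ∣ Nat.card N ∧ Subgroup.centralizer (N : Set Q) = ⊥ := by
  classical
  haveI : Fact (Nat.Prime 2) := ⟨Nat.prime_two⟩
  have hnot2 : ∀ M : Subgroup Q, M.Normal → IsPGroup 2 M → M = ⊥ := fun M hM hM2 => by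
    haveI := hM
    exact le_bot_iff.1 ((Solv.normal_le_pCore hM2).trans hO.le)
  have heven : ∀ M : Subgroup Q, M.Normal → M ≠ ⊥ → 2 ∣ Nat.card M := fun M hM hM1 => by
    by_contra hodd
    haveI := hM
    exact hns (hC.solvable_of_odd_normal h2 M (Nat.not_even_iff_odd.1 fun e => hodd (even_iff_two_dvd.1 e)) hM1)
  have hN2 := heven N hNn hN1
  obtain ⟨⟨t, htN⟩, hto⟩ := exists_prime_orderOf_dvd_card' 2 hN2
  rw [Subgroup.orderOf_mk] at hto
  haveI : Nontrivial N := (Subgroup.nontrivial_iff_ne_bot N).2 hN1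
  have hna : ∃ a b : N, a * b ≠ b * a := by
    by_contra hcomm
    push Not at hcomm
    haveI : IsMulCommutative N := ⟨⟨hcomm⟩⟩
    obtain ⟨P⟩ : Nonempty (Sylow 2 N) := inferInstance
    haveI : (P : Subgroup N).Normal := inferInstance
    haveI : (P : Subgroup N).Characteristic := P.characteristic_of_normal inferInstance
    have h1 := hnot2 ((P : Subgroup N).map N.subtype) inferInstance (P.isPGroup'.map _)
    exact P.ne_bot_of_dvd_card hN2 ((Subgroup.map_eq_bot_iff_of_injective _ N.subtype_injective).1 h1)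
  refine ⟨⟨fun S₀ hS₀ => ?_⟩, hna, hN2, ?_⟩
  · refine or_iff_not_imp_left.2 fun hS0 => ?_
    obtain ⟨S', hS'n, hS'1, hS'le, hS'min⟩ := Solv.exists_minimal_normal_le S₀ hS0
    haveI := hS'n
    by_contra hne
    have hS'top : S' ≠ ⊤ := fun e => hne (top_le_iff.1 (e ▸ hS'le))
    set Sg := S'.map N.subtype with hSg
    obtain ⟨g, hg⟩ : ∃ g : Q, ¬ Sg.map (MulAut.conj g).toMonoidHom ≤ Sg := by
      by_contra hall
      push Not at hall
      haveI : Sg.Normal := ⟨fun x hx g => hall g ⟨x, hx, rfl⟩⟩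
      have h1 := hmin Sg inferInstance
        (fun e => hS'1 ((Subgroup.map_eq_bot_iff_of_injective _ N.subtype_injective).1 e)) (Subgroup.map_subtype_le _)
      refine hS'top (top_le_iff.1 fun y _ => ?_)
      obtain ⟨z, hz, e⟩ := h1.ge y.2
      rwa [show y = z from Subtype.ext e.symm]
    let φ : N →* N := ((MulAut.conjNormal g : MulAut N)).toMonoidHom
    have hφ : Function.Bijective φ := (MulAut.conjNormal g : MulAut N).bijective
    set S'' := S'.map φ with hS''
    haveI : S''.Normal := hS'n.map φ hφ.2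
    have hS''Sg : S''.map N.subtype = Sg.map (MulAut.conj g).toMonoidHom := by
      rw [hS'', hSg, Subgroup.map_map, Subgroup.map_map]
      congr 1
    have hcard : Nat.card S'' = Nat.card S' := Subgroup.card_map_of_injective hφ.1
    have hdis : Disjoint S' S'' := by
      rw [disjoint_iff]
      refine (hS'min (S' ⊓ S'') inferInstance inf_le_left).resolve_right fun e => hg ?_
      rw [← hS''Sg, ← Subgroup.eq_of_le_of_card_ge (inf_eq_left.1 e) hcard.le, hSg]
    have hS'2 : 2 ∣ Nat.card S' := by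
      by_contra hodd
      have hsolv := (hC.subgroup N).solvable_of_odd_normal hN2 S'
        (Nat.not_even_iff_odd.1 fun e => hodd (even_iff_two_dvd.1 e)) hS'1
      obtain ⟨hab, -⟩ := Solv.minimal_normal_elementaryAbelian N hsolv hN1
        fun K hK hKN => or_iff_not_imp_left.2 fun hK1 => hmin K hK hK1 hKN
      obtain ⟨a, b, hne⟩ := hna
      exact hne (hab.is_comm.comm a b)
    obtain ⟨r, hr, hr2, hrd⟩ : ∃ r : ℕ, r.Prime ∧ r ≠ 2 ∧ r ∣ Nat.card S' := by
      by_contra hno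
      push Not at hno
      have hp : IsPGroup 2 S' := IsPGroup.of_card (Nat.eq_prime_pow_of_unique_prime_dvd Nat.card_pos.ne'
        fun {d} hd hdS => by
          by_contra hd2
          exact hno d hd hd2 hdS)
      haveI := Solv.pCore_normal (G := N) 2
      haveI : (Cfsg.pCore 2 N).Characteristic := Fusion.pCore_characteristic
      have h1 := hnot2 ((Cfsg.pCore 2 N).map N.subtype) inferInstance ((Solv.pCore_isPGroup 2).map _)
      rw [Subgroup.map_eq_bot_iff_of_injective _ N.subtype_injective] at h1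
      exact hS'1 (le_bot_iff.1 ((Solv.normal_le_pCore hp).trans h1.le))
    haveI := Fact.mk hr
    obtain ⟨⟨y, hyS⟩, hyo⟩ := exists_prime_orderOf_dvd_card' r hrd
    rw [Subgroup.orderOf_mk] at hyo
    obtain ⟨⟨s, hsS⟩, hso⟩ := exists_prime_orderOf_dvd_card' 2 (hcard.symm ▸ hS'2 : 2 ∣ Nat.card S'')
    rw [Subgroup.orderOf_mk] at hso
    have := (hC.subgroup N).eq_one_of_commute hso (y := y) (hyo ▸ hr.odd_of_ne_two hr2)
      (Subgroup.commute_of_normal_of_disjoint S' S'' hS'n inferInstance hdis y s hyS hsS)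
    rw [this, orderOf_one] at hyo
    exact hr.ne_one hyo.symm
  · refine hnot2 _ inferInstance ?_
    exact (hC t hto).to_le (Subgroup.centralizer_le (Set.singleton_subset_iff.2 htN))

section Operators

variable {H : Type u} [Group H] [Finite H] (hC : CIT H) [(Cfsg.pCore 2 H).Normal]
include hC

/-- The action of the quotient on the elementary centre of the core. -/
theorem exists_act : ∃ χ : (H ⧸ Cfsg.pCore 2 H) →* MulAut (omegaCen (Cfsg.pCore 2 H)),
    ∀ (x : H) (w : omegaCen (Cfsg.pCore 2 H)),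
      (χ (QuotientGroup.mk' (Cfsg.pCore 2 H) x) w : H) = x * (w : H) * x⁻¹ := by
  haveI := omegaCen_normal (Cfsg.pCore 2 H)
  refine ⟨QuotientGroup.lift (Cfsg.pCore 2 H) (MulAut.conjNormal (H := omegaCen (Cfsg.pCore 2 H))) fun d hd => ?_,
    fun x w => rfl⟩
  refine MulEquiv.ext fun w => Subtype.ext ?_
  simp only [MulAut.conjNormal_apply, MulAut.one_apply]
  rw [Subgroup.mem_centralizer_iff.1 w.2.2.1 d hd, mul_inv_cancel_right]

/-- An element of order three of the quotient acts without fixed points. -/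
theorem CIT.three_sum {χ : (H ⧸ Cfsg.pCore 2 H) →* MulAut (omegaCen (Cfsg.pCore 2 H))}
    (hχ : ∀ (x : H) (w : omegaCen (Cfsg.pCore 2 H)),
      (χ (QuotientGroup.mk' (Cfsg.pCore 2 H) x) w : H) = x * (w : H) * x⁻¹)
    {q : H ⧸ Cfsg.pCore 2 H} (hq : orderOf q = 3) (w : omegaCen (Cfsg.pCore 2 H)) :
    w * χ q w * χ q (χ q w) = 1 := by
  haveI : Fact (Nat.Prime 3) := ⟨Nat.prime_three⟩
  haveI : Fact (Nat.Prime 2) := ⟨Nat.prime_two⟩
  haveI := omegaCen_comm (Cfsg.pCore 2 H)
  have h3 : χ q (χ q (χ q w)) = w := by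
    show (χ q * χ q * χ q) w = w
    rw [← map_mul, ← map_mul, ← pow_three', ← hq, pow_orderOf_eq_one, map_one, MulAut.one_apply]
  set v := w * χ q w * χ q (χ q w) with hv
  have hfix : χ q v = v := by
    rw [hv, map_mul, map_mul, h3, mul_comm' (χ q w * χ q (χ q w)) w, mul_assoc]
  obtain ⟨x, hx, -, hz⟩ := exists_prime_lift (D := Cfsg.pCore 2 H) (Solv.pCore_isPGroup 2) (r := 3) (by norm_num) hq
  obtain ⟨i, hi⟩ := Subgroup.mem_zpowers_iff.1 (hz.ge (Subgroup.mem_zpowers q))
  have hfixx : χ (QuotientGroup.mk' (Cfsg.pCore 2 H) x) v = v := by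
    obtain ⟨j, hj⟩ := Subgroup.mem_zpowers_iff.1 (hz.le (Subgroup.mem_zpowers (QuotientGroup.mk' (Cfsg.pCore 2 H) x)))
    have hmem : χ q ∈ MulAction.stabilizer (MulAut (omegaCen (Cfsg.pCore 2 H))) v := hfix
    rw [← hj, map_zpow]
    exact zpow_mem hmem j
  refine Subtype.ext (hC.fpf_mem (y := x) (by rw [hx]; decide) (fun e => by rw [e, orderOf_one] at hx; omega)
    (Solv.pCore_isPGroup 2) (omegaCen_le _ v.2) (mul_inv_eq_iff_eq_mul.1 ?_))
  rw [← hχ, hfixx]

/-- The dihedral subgroup with two fused four-groups cannot act. -/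
theorem CIT.not_dih (hcore : Cfsg.pCore 2 H ≠ ⊥) {N : Subgroup (H ⧸ Cfsg.pCore 2 H)} (hD : Dih N) : False := by
  haveI : Fact (Nat.Prime 2) := ⟨Nat.prime_two⟩
  haveI := omegaCen_comm (Cfsg.pCore 2 H)
  obtain ⟨χ, hχ⟩ := exists_act hC
  obtain ⟨u₀, b₀, g₀, h₀, hu, hb, -, hg, hh, hg1, hg2, hh1, hh2⟩ := hD
  -- the key step: fixed points of the first involution are fixed by its conjugates
  have key : ∀ g a c : H ⧸ Cfsg.pCore 2 H, orderOf g = 3 → orderOf (g * a) = 3 → g⁻¹ * a * g = c →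
      ∀ w, χ a w = w → χ c w = w := by
    intro g a c hg3 hga hc w hw
    have e1 := hC.three_sum hχ hga w
    have e2 := hC.three_sum hχ hg3 w
    have hga' : χ (g * a) w = χ g w := by rw [map_mul, MulAut.mul_apply, hw]
    rw [hga'] at e1
    have e3 : χ (g * a) (χ g w) = χ g (χ g w) := mul_left_cancel (e1.trans e2.symm)
    rw [show g * a = g * g * c * g⁻¹ by rw [← hc]; group, map_mul, map_mul, map_mul, map_inv, MulAut.mul_apply,
      MulAut.mul_apply, MulAut.mul_apply, MulAut.inv_apply, MulEquiv.symm_apply_apply] at e3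
    exact (χ g).injective ((χ g).injective e3)
  set a₀ := u₀ * u₀ with ha₀
  have haa : a₀ * a₀ = 1 := by
    rw [ha₀, show u₀ * u₀ * (u₀ * u₀) = u₀ ^ 4 by rw [pow_succ', pow_three]; simp only [mul_assoc], ← hu, pow_orderOf_eq_one]
  have ha1 : a₀ ≠ 1 := fun e => by
    have := orderOf_dvd_of_pow_eq_one (show u₀ ^ 2 = 1 by rw [pow_two]; exact e)
    rw [hu] at this
    omega
  have hord : ∀ g b : N, orderOf g = 3 → g⁻¹ * a₀ * g = a₀ * b → g⁻¹ * (a₀ * b) * g = b → b * b = 1 →
      orderOf (g * a₀) = 3 := by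
    intro g b hg3 e1 e2 hbb
    haveI : Fact (Nat.Prime 3) := ⟨Nat.prime_three⟩
    refine orderOf_eq_prime ?_ fun e => ?_
    · rw [pow_three, show g * a₀ * (g * a₀ * (g * a₀)) =
        g * g * g * ((g⁻¹ * (g⁻¹ * a₀ * g) * g) * (g⁻¹ * a₀ * g) * a₀) by group, e1, e2, ← pow_three', ← hg3,
        pow_orderOf_eq_one, one_mul]
      have hc : a₀ * b = (a₀ * b)⁻¹ := eq_inv_of_mul_eq_one_left (by
        rw [← e1, show g⁻¹ * a₀ * g * (g⁻¹ * a₀ * g) = g⁻¹ * (a₀ * a₀) * g by group, haa]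
        group)
      rw [mul_inv_rev, inv_eq_of_mul_eq_one_right haa, inv_eq_of_mul_eq_one_right hbb] at hc
      calc b * (a₀ * b) * a₀ = b * (b * a₀) * a₀ := by rw [hc]
        _ = b * b * (a₀ * a₀) := by group
        _ = 1 := by rw [hbb, haa, one_mul]
    · have := eq_inv_of_mul_eq_one_left e
      rw [this, orderOf_inv] at hg3
      have h2 : orderOf a₀ ∣ 2 := orderOf_dvd_of_pow_eq_one (by rw [pow_two]; exact haa)
      rw [hg3] at h2
      omega
  have hbb : b₀ * b₀ = 1 := (orderOf_two_iff.1 hb).1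
  have hbu : b₀ * u₀ * (b₀ * u₀) = 1 := by
    have h1 : h₀⁻¹ * (a₀ * (b₀ * u₀)) * h₀ = b₀ * u₀ := hh2
    rw [← h1, show h₀⁻¹ * (a₀ * (b₀ * u₀)) * h₀ * (h₀⁻¹ * (a₀ * (b₀ * u₀)) * h₀) =
      h₀⁻¹ * ((a₀ * (b₀ * u₀)) * (a₀ * (b₀ * u₀))) * h₀ by group]
    rw [show a₀ * (b₀ * u₀) = h₀⁻¹ * a₀ * h₀ from hh1.symm,
      show h₀⁻¹ * a₀ * h₀ * (h₀⁻¹ * a₀ * h₀) = h₀⁻¹ * (a₀ * a₀) * h₀ by group, haa]
    group
  let π : N → H ⧸ Cfsg.pCore 2 H := Subtype.val
  have hfix : ∀ w, χ (π a₀) w = w → χ (π b₀) w = w ∧ χ (π (b₀ * u₀)) w = w := by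
    intro w hw
    refine ⟨?_, ?_⟩
    · have h1 := key (π g₀) (π a₀) (π (a₀ * b₀)) (by rw [Subgroup.orderOf_coe, hg])
        (by rw [← Subgroup.coe_mul, Subgroup.orderOf_coe, hord g₀ b₀ hg hg1 hg2 hbb])
        (congrArg Subtype.val hg1) w hw
      have hmul : π (a₀ * b₀) = π a₀ * π b₀ := rfl
      rw [hmul, map_mul, MulAut.mul_apply] at h1
      exact (χ (π a₀)).injective (h1.trans hw.symm)
    · have h1 := key (π h₀) (π a₀) (π (a₀ * (b₀ * u₀))) (by rw [Subgroup.orderOf_coe, hh])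
        (by rw [← Subgroup.coe_mul, Subgroup.orderOf_coe, hord h₀ (b₀ * u₀) hh hh1 hh2 hbu])
        (congrArg Subtype.val hh1) w hw
      have hmul : π (a₀ * (b₀ * u₀)) = π a₀ * π (b₀ * u₀) := rfl
      rw [hmul, map_mul, MulAut.mul_apply] at h1
      exact (χ (π a₀)).injective (h1.trans hw.symm)
  have hu_fix : ∀ w, χ (π a₀) w = w → χ (π u₀) w = w := by
    intro w hw
    obtain ⟨h1, h2⟩ := hfix w hw
    have hmul : π (b₀ * u₀) = π b₀ * π u₀ := rfl
    rw [hmul, map_mul, MulAut.mul_apply] at h2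
    exact (χ (π b₀)).injective (h2.trans h1.symm)
  have hsq : ∀ w : omegaCen (Cfsg.pCore 2 H), w * w = 1 := fun w => Subtype.ext w.2.2.2
  have hu2 : ∀ v, χ (π u₀) (χ (π u₀) v) = χ (π a₀) v := fun v => by
    have hmul : π a₀ = π u₀ * π u₀ := rfl
    rw [hmul, map_mul, MulAut.mul_apply]
  have haa' : ∀ v, χ (π a₀) (χ (π a₀) v) = v := fun v => by
    have hmul : π (a₀ * a₀) = π a₀ * π a₀ := rfl
    rw [← MulAut.mul_apply, ← map_mul, ← hmul, haa]
    show χ 1 v = v
    rw [map_one, MulAut.one_apply]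
  have comm4 : ∀ a b c d : omegaCen (Cfsg.pCore 2 H), a * b * (c * d) = a * c * (b * d) := fun a b c d => by
    rw [mul_assoc, ← mul_assoc b, mul_comm' b c, mul_assoc, ← mul_assoc a]
  have htriv : ∀ w, χ (π a₀) w = w := by
    intro w
    -- `v` is fixed, hence so is `z`, and then the square fixes `w`
    set v := χ (π a₀) w * w with hv
    have hva : χ (π a₀) v = v := by rw [hv, map_mul, haa', mul_comm']
    have hvu : χ (π u₀) v = v := hu_fix v hva
    set z := χ (π u₀) w * w with hz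
    have hza : χ (π a₀) z = z := by
      have e1 : χ (π a₀) w = v * w := by rw [hv, mul_assoc, hsq, mul_one]
      have e2 : χ (π a₀) (χ (π u₀) w) = χ (π u₀) (χ (π a₀) w) := by rw [← hu2, ← hu2]
      rw [hz, map_mul, e2, e1, map_mul, hvu, comm4, hsq, one_mul]
    have hzu : χ (π u₀) z = z := hu_fix z hza
    rw [hz, map_mul, hu2] at hzu
    rw [mul_comm' (χ (π u₀) w) w] at hzu
    exact mul_right_cancel hzu
  haveI := omegaCen_normal (Cfsg.pCore 2 H)
  obtain ⟨x, hx⟩ := QuotientGroup.mk'_surjective (Cfsg.pCore 2 H) (π a₀)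
  have hxC : x ∈ Subgroup.centralizer ((omegaCen (Cfsg.pCore 2 H) : Subgroup H) : Set H) := by
    refine Subgroup.mem_centralizer_iff.2 fun w hw => ?_
    have h1 : (χ (π a₀) ⟨w, hw⟩ : H) = w := congrArg Subtype.val (htriv ⟨w, hw⟩)
    rw [← hx, hχ] at h1
    exact (mul_inv_eq_iff_eq_mul.1 h1).symm
  have hxD := hC.centralizer_le_core ((Solv.pCore_isPGroup 2).to_le (omegaCen_le _))
    (omegaCen_ne_bot (Solv.pCore_isPGroup 2) hcore) hxC
  exact ha1 (Subtype.ext (hx.symm.trans ((QuotientGroup.eq_one_iff x).2 hxD)))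

/-- No two independent commuting elements of order three. -/
theorem CIT.no_nine (hcore : Cfsg.pCore 2 H ≠ ⊥) {p q : H ⧸ Cfsg.pCore 2 H} (hp : orderOf p = 3)
    (hq : orderOf q = 3) (hpq : p * q = q * p) (hne : q ∉ Subgroup.zpowers p) : False := by
  haveI : Fact (Nat.Prime 3) := ⟨Nat.prime_three⟩
  haveI : Fact (Nat.Prime 2) := ⟨Nat.prime_two⟩
  set π := QuotientGroup.mk' (Cfsg.pCore 2 H)
  set E := Subgroup.closure ({p, q} : Set (H ⧸ Cfsg.pCore 2 H)) with hE
  have hEc : E ≤ Subgroup.centralizer (E : Set (H ⧸ Cfsg.pCore 2 H)) := by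
    rw [hE, Subgroup.centralizer_closure, Subgroup.closure_le]
    rintro a (ha | ha) <;> refine Subgroup.mem_centralizer_iff.2 ?_ <;> rintro c (hc | hc) <;> rw [ha, hc]
    exacts [hpq.symm, hpq]
  have hE3 : ∀ a ∈ E, a ^ 3 = 1 := fun a ha => by
    induction ha using Subgroup.closure_induction with
    | mem c hc =>
      rcases hc with hc | hc
      · rw [hc, ← hp, pow_orderOf_eq_one]
      · rw [hc, ← hq, pow_orderOf_eq_one]
    | one => exact one_pow 3
    | mul a c ha hc h1 h2 =>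
      rw [(show Commute a c from Subgroup.mem_centralizer_iff.1 (hEc hc) a ha).mul_pow, h1, h2, one_mul]
    | inv a ha h1 => rw [inv_pow, h1, inv_one]
  set L := E.comap π with hL
  obtain ⟨R⟩ : Nonempty (Sylow 3 L) := inferInstance
  obtain ⟨j, hj⟩ := IsPGroup.iff_card.1 (Solv.pCore_isPGroup (G := H) 2)
  have hE9 : 3 < Nat.card E := by
    have hlt : Subgroup.zpowers p < E := lt_of_le_of_ne
      (Subgroup.zpowers_le.2 (Subgroup.subset_closure (Or.inl rfl)))
      (fun e => hne (e ▸ Subgroup.subset_closure (Or.inr rfl)))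
    have := Solv.card_lt_of_lt hlt
    rwa [Nat.card_zpowers, hp] at this
  have hEp : IsPGroup 3 E := fun a => ⟨1, Subtype.ext (by rw [pow_one]; exact hE3 a a.2)⟩
  obtain ⟨i, hi⟩ := IsPGroup.iff_card.1 hEp
  have hRc : Nat.card (R : Subgroup L) = 3 ^ i := by
    rw [R.card_eq_multiplicity, hL, Solv.card_comap_mk', hi, hj,
      Nat.factorization_mul (pow_ne_zero _ (by norm_num)) (pow_ne_zero _ two_ne_zero),
      Finsupp.add_apply, Nat.factorization_pow, Nat.factorization_pow]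
    simp [Nat.prime_three.factorization_self, Nat.factorization_eq_zero_of_not_dvd (show ¬ 3 ∣ 2 by norm_num)]
  have := hC.core_odd_card_le hcore (r := 3) (by norm_num) (E := (R : Subgroup L).map L.subtype) (by
    rintro _ ⟨e, he, rfl⟩
    have h2 : (e : H) ^ 3 ∈ (Cfsg.pCore 2 H) := (QuotientGroup.eq_one_iff _).1 (by
      show π ((e : H) ^ 3) = 1
      rw [map_pow]
      exact hE3 _ e.2)
    obtain ⟨k, hk⟩ := IsPGroup.iff_orderOf.1 R.isPGroup' ⟨e, he⟩
    rw [Subgroup.orderOf_mk, ← Subgroup.orderOf_coe] at hk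
    exact Subgroup.mem_bot.1 ((IsPGroup.disjoint_of_ne 3 2 (by norm_num) (Subgroup.zpowers (e : H)) (Cfsg.pCore 2 H)
      (IsPGroup.of_card (n := k) (by rw [Nat.card_zpowers, hk])) (Solv.pCore_isPGroup 2)).le_bot
        ⟨pow_mem (Subgroup.mem_zpowers _) 3, h2⟩))
  rw [Solv.card_map_subtype, hRc, ← hi] at this
  omega

/-- The top of a nonsolvable local subgroup. -/
theorem CIT.top (hns : ¬ Group.IsSolvable H) (hcore : Cfsg.pCore 2 H ≠ ⊥) (hb : Below.{u} (Nat.card H)) :
    IsSimpleGroup (H ⧸ Cfsg.pCore 2 H) ∧ (∃ a b : H ⧸ Cfsg.pCore 2 H, a * b ≠ b * a) ∧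
      Bor (H ⧸ Cfsg.pCore 2 H) := by
  classical
  haveI : Fact (Nat.Prime 2) := ⟨Nat.prime_two⟩
  set D := Cfsg.pCore 2 H with hDdef
  have hD2 : IsPGroup 2 D := Solv.pCore_isPGroup 2
  have hCQ := hC.quotient D hD2
  haveI : Group.IsSolvable D := by
    haveI := hD2.isNilpotent
    infer_instance
  have hnsQ : ¬ Group.IsSolvable (H ⧸ D) := fun h => hns (Group.isSolvable_of_ker_le_range D.subtype
    (QuotientGroup.mk' D) (by rw [QuotientGroup.ker_mk', Subgroup.range_subtype]))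
  have h2 : 2 ∣ Nat.card (H ⧸ D) := by
    by_contra hodd
    -- an odd quotient has cyclic Sylow subgroups
    haveI : IsZGroup (H ⧸ D) := ⟨fun r hr P => by
      haveI := Fact.mk hr
      by_cases hr2 : r = 2
      · subst hr2
        haveI : Subsingleton (P : Subgroup (H ⧸ D)) := by
          refine (Nat.card_eq_one_iff_unique.1 ?_).1
          rw [P.card_eq_multiplicity, Nat.factorization_eq_zero_of_not_dvd hodd, pow_zero]
        infer_instance
      obtain ⟨R, hR⟩ := Sylow.mapSurjective_surjective (f := QuotientGroup.mk' D) (QuotientGroup.mk'_surjective D) r P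
      haveI : IsCyclic (R : Subgroup H) := by
        by_contra hnc
        obtain ⟨E, -, hEe, hEc⟩ := Solv.exists_normal_elementary_sq hr2 R.isPGroup' hnc
        have := hC.core_odd_card_le hcore hr2 (E := E.map (R : Subgroup H).subtype) (by
          rintro _ ⟨e, he, rfl⟩
          exact congrArg Subtype.val (hEe.2 e he))
        rw [Solv.card_map_subtype, hEc] at this
        have := hr.two_le
        nlinarith
      rw [← hR, Sylow.coe_mapSurjective]
      exact isCyclic_of_surjective ((QuotientGroup.mk' D).subgroupMap (R : Subgroup H))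
        ((QuotientGroup.mk' D).subgroupMap_surjective _)⟩
    exact hnsQ inferInstance
  haveI : Nontrivial (H ⧸ D) := by
    by_contra hn
    rw [not_nontrivial_iff_subsingleton] at hn
    exact hnsQ inferInstance
  obtain ⟨N, hNn, hN1, hmin'⟩ := Solv.exists_minimal_normal (G := H ⧸ D)
  haveI := hNn
  obtain ⟨hs, hna, hN2, hcen⟩ := hCQ.minimal_simple hnsQ h2 Fusion.pCore_quotient_eq_bot hN1
    (fun M hM hM1 hle => (hmin' M hM hle).resolve_left hM1)
  have hlt : Nat.card N < Nat.card H := lt_of_le_of_lt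
    (Subgroup.card_le_card_group N) (Solv.card_quotient_lt D hcore)
  rcases hb N hlt hs hna (hCQ.subgroup N) hN2 with hB | hD | ⟨F, _, _, hF, ⟨e⟩⟩
  · have htop := hCQ.eq_top_of_bor hB
    obtain ⟨n, T, hT⟩ := hB
    subst htop
    have e := (Subgroup.topEquiv : (⊤ : Subgroup (H ⧸ D)) ≃* H ⧸ D)
    refine ⟨e.symm.isSimpleGroup, ?_, n, _, hT.map e⟩
    obtain ⟨a, b, hab⟩ := hna
    exact ⟨e a, e b, fun h => hab (e.injective (by rw [map_mul, map_mul]; exact h))⟩
  · exact (hC.not_dih hcore hD).elim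
  · exfalso
    obtain ⟨x, y, hx, hy, hxy, hne⟩ := exists_commuting_threes (F := F) hF
    have hinj : Function.Injective (N.subtype.comp e.symm.toMonoidHom) :=
      N.subtype_injective.comp e.symm.injective
    set f := N.subtype.comp e.symm.toMonoidHom
    refine hC.no_nine hcore (p := f x) (q := f y) (by rw [orderOf_injective f hinj, hx])
      (by rw [orderOf_injective f hinj, hy]) (by rw [← map_mul, ← map_mul, hxy]) fun h => hne ?_
    obtain ⟨i, hi⟩ := Subgroup.mem_zpowers_iff.1 h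
    exact Subgroup.mem_zpowers_iff.2 ⟨i, hinj (by rw [map_zpow, hi])⟩

end Operators

end Cfsg.Agent.Solv.CITGroups
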