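import Cfsg.Agent.Lib.Solv.CIT.Invol
import Mathlib.GroupTheory.QuotientGroup.Basic

/-!
A normal 2-subgroup with simple quotient of order divisible by three is abelian.
-/

set_option autoImplicit false
set_option linter.style.haveILetI false

namespace Cfsg.Agent.Solv.CITGroups

open Cfsg
open scoped commutatorElement

universe u

/-- An element commutes with its conjugate by a fixed-point-free element of order three. -/
theorem fpf_three_commute {G : Type u} [Group G] [Finite G] {D : Subgroup G} [hDn : D.Normal] {x : G}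
    (hx : orderOf x = 3) (hfix : ∀ d ∈ D, Commute x d → d = 1) : ∀ w ∈ D, Commute w (x * w * x⁻¹) := by
  have hx3 : x * x * x = 1 := by rw [← pow_three', ← hx, pow_orderOf_eq_one]
  let f : D → D := fun u => ⟨(u : G)⁻¹ * (x * u * x⁻¹), mul_mem (inv_mem u.2) (hDn.conj_mem _ u.2 x)⟩
  have hf : Function.Injective f := fun a b e => by
    have e' : (a : G)⁻¹ * (x * a * x⁻¹) = (b : G)⁻¹ * (x * b * x⁻¹) := congrArg Subtype.val e
    have h1 := hfix ((b : G) * (a : G)⁻¹) (mul_mem b.2 (inv_mem a.2)) (mul_inv_eq_iff_eq_mul.1 (by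
      calc x * ((b : G) * (a : G)⁻¹) * x⁻¹ = (b : G) * ((b : G)⁻¹ * (x * b * x⁻¹)) * ((a : G)⁻¹ * (x * a * x⁻¹))⁻¹ *
            (a : G)⁻¹ := by group
        _ = (b : G) * (a : G)⁻¹ := by rw [e']; group))
    exact Subtype.ext (mul_inv_eq_one.1 h1).symm
  intro w hw
  obtain ⟨u, hu⟩ := (Finite.injective_iff_surjective.1 hf) ⟨w, hw⟩
  have hu' : w = (u : G)⁻¹ * (x * u * x⁻¹) := (congrArg Subtype.val hu).symm
  have e1 : w * (x * w * x⁻¹) * (x * x * w * (x * x)⁻¹) = 1 := by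
    rw [hu', show (u : G)⁻¹ * (x * u * x⁻¹) * (x * ((u : G)⁻¹ * (x * u * x⁻¹)) * x⁻¹) *
      (x * x * ((u : G)⁻¹ * (x * u * x⁻¹)) * (x * x)⁻¹) = (u : G)⁻¹ * (x * x * x) * u * (x * x * x)⁻¹ by group, hx3]
    group
  -- the same with the inverse element
  let f' : D → D := fun u => ⟨(u : G)⁻¹ * (x * x * u * (x * x)⁻¹), mul_mem (inv_mem u.2) (hDn.conj_mem _ u.2 _)⟩
  have hf' : Function.Injective f' := fun a b e => by
    have e' : (a : G)⁻¹ * (x * x * a * (x * x)⁻¹) = (b : G)⁻¹ * (x * x * b * (x * x)⁻¹) := congrArg Subtype.val e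
    have h0 : Commute (x * x) ((b : G) * (a : G)⁻¹) := mul_inv_eq_iff_eq_mul.1 (by
      calc x * x * ((b : G) * (a : G)⁻¹) * (x * x)⁻¹ = (b : G) * ((b : G)⁻¹ * (x * x * b * (x * x)⁻¹)) *
            ((a : G)⁻¹ * (x * x * a * (x * x)⁻¹))⁻¹ * (a : G)⁻¹ := by group
        _ = (b : G) * (a : G)⁻¹ := by rw [e']; group)
    have h2 : x = x * x * (x * x) := by rw [← mul_assoc, hx3, one_mul]
    have h1 := hfix ((b : G) * (a : G)⁻¹) (mul_mem b.2 (inv_mem a.2)) (h2 ▸ h0.mul_left h0)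
    exact Subtype.ext (mul_inv_eq_one.1 h1).symm
  obtain ⟨v, hv⟩ := (Finite.injective_iff_surjective.1 hf') ⟨w, hw⟩
  have hv' : w = (v : G)⁻¹ * (x * x * v * (x * x)⁻¹) := (congrArg Subtype.val hv).symm
  have e2 : w * (x * x * w * (x * x)⁻¹) * (x * w * x⁻¹) = 1 := by
    have h4 : x * x * (x * x) = x := by rw [← mul_assoc, hx3, one_mul]
    rw [hv', show (v : G)⁻¹ * (x * x * v * (x * x)⁻¹) *
      (x * x * ((v : G)⁻¹ * (x * x * v * (x * x)⁻¹)) * (x * x)⁻¹) *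
      (x * ((v : G)⁻¹ * (x * x * v * (x * x)⁻¹)) * x⁻¹) = (v : G)⁻¹ * (x * x * (x * x)) * v * (x * x * (x * x))⁻¹ *
        (x * (v : G)⁻¹ * (x * x * v * (x * x)⁻¹) * x⁻¹) by group, h4,
      show (v : G)⁻¹ * x * v * x⁻¹ * (x * (v : G)⁻¹ * (x * x * v * (x * x)⁻¹) * x⁻¹) =
        (v : G)⁻¹ * (x * x * x) * v * (x * x * x)⁻¹ by group, hx3]
    group
  set a := x * w * x⁻¹
  set b := x * x * w * (x * x)⁻¹
  -- `b` is the inverse of `w * a` and of `a * w`
  have e3 : a * (w * b) = 1 := by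
    have := mul_eq_one_iff_eq_inv.1 e2
    rw [this, mul_inv_cancel]
  have hb1 : b = (w * a)⁻¹ := eq_inv_of_mul_eq_one_right e1
  have hb2 : b = (a * w)⁻¹ := eq_inv_of_mul_eq_one_right (by rw [mul_assoc]; exact e3)
  exact inv_inj.1 (hb1.symm.trans hb2)

/-- The core is abelian. -/
theorem CIT.normal_two_abelian : ∀ (c : ℕ) (H : Type u) [Group H] [Finite H], Nat.card H = c → CIT H →
    ∀ (D : Subgroup H) [D.Normal], IsPGroup 2 D → IsSimpleGroup (H ⧸ D) → (∃ a b : H ⧸ D, a * b ≠ b * a) →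
      3 ∣ Nat.card (H ⧸ D) → IsMulCommutative D := by
  intro c
  induction c using Nat.strong_induction_on with
  | _ c ih =>
  intro H _ _ hc hC D _ hD hs hna h3
  classical
  haveI : Fact (Nat.Prime 2) := ⟨Nat.prime_two⟩
  haveI : Fact (Nat.Prime 3) := ⟨Nat.prime_three⟩
  by_cases hD1 : D = ⊥
  · subst hD1
    infer_instance
  haveI : Nontrivial D := (Subgroup.nontrivial_iff_ne_bot D).2 hD1
  haveI := hD.center_nontrivial
  set Zg := (Subgroup.center D).map D.subtype with hZg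
  haveI : Zg.Normal := by rw [hZg]; infer_instance
  have hZ1 : Zg ≠ ⊥ := fun e => (Subgroup.nontrivial_iff_ne_bot _).1 (inferInstance : Nontrivial (Subgroup.center D))
    ((Subgroup.map_eq_bot_iff_of_injective _ D.subtype_injective).1 e)
  obtain ⟨N, hNn, hN1, hNZ, hNmin⟩ := Solv.exists_minimal_normal_le Zg hZ1
  haveI := hNn
  have hND : N ≤ D := hNZ.trans (Subgroup.map_subtype_le _)
  have hNc : ∀ n ∈ N, ∀ d ∈ D, d * n = n * d := fun n hn d hd => by
    obtain ⟨z, hz, rfl⟩ := hNZ hn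
    exact congrArg Subtype.val (Subgroup.mem_center_iff.1 hz ⟨d, hd⟩)
  have hN2 : IsPGroup 2 N := hD.to_le hND
  have hNsq : ∀ n ∈ N, n * n = 1 := by
    haveI := hN2.isNilpotent
    obtain ⟨-, p, hp, hex, hNp⟩ := Solv.minimal_normal_elementaryAbelian N inferInstance hN1 hNmin
    obtain ⟨t, ht, hto⟩ := exists_invol_mem hN2 hN1
    have h2p : p = 2 := by
      have h := hex t ht
      rw [← orderOf_dvd_iff_pow_eq_one, hto] at h
      exact ((Nat.prime_dvd_prime_iff_eq Nat.prime_two hp).1 h).symm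
    subst h2p
    exact fun n hn => by rw [← pow_two]; exact hex n hn
  -- the smaller group
  set D' := D.map (QuotientGroup.mk' N) with hD'
  haveI : D'.Normal := (inferInstance : D.Normal).map _ (QuotientGroup.mk'_surjective N)
  let e : (H ⧸ N) ⧸ D' ≃* H ⧸ D := QuotientGroup.quotientQuotientEquivQuotient N D hND
  have hab := ih (Nat.card (H ⧸ N)) (hc ▸ Solv.card_quotient_lt N hN1) (H ⧸ N) rfl (hC.quotient N hN2) D'
    (hD.map _) e.isSimpleGroup (by
      obtain ⟨a, b, hab⟩ := hna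
      exact ⟨e.symm a, e.symm b, fun h => hab (e.symm.injective (by rw [map_mul, map_mul]; exact h))⟩)
    (by rwa [Nat.card_congr e.toEquiv])
  have hB : ∀ v ∈ D, ∀ w ∈ D, ⁅v, w⁆ ∈ N := fun v hv w hw => by
    rw [← QuotientGroup.eq_one_iff]
    show QuotientGroup.mk' N ⁅v, w⁆ = 1
    rw [map_commutatorElement, commutatorElement_eq_one_iff_mul_comm]
    exact congrArg Subtype.val (hab.is_comm.comm (⟨_, v, hv, rfl⟩ : D') ⟨_, w, hw, rfl⟩)
  have hmulr : ∀ v ∈ D, ∀ w ∈ D, ∀ w' ∈ D, ⁅v, w * w'⁆ = ⁅v, w⁆ * ⁅v, w'⁆ := fun v hv w hw w' hw' => by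
    rw [show ⁅v, w * w'⁆ = ⁅v, w⁆ * (w * ⁅v, w'⁆ * w⁻¹) by simp only [commutatorElement_def]; group,
      hNc _ (hB v hv w' hw') w hw, mul_inv_cancel_right]
  have hsymm : ∀ v ∈ D, ∀ w ∈ D, ⁅w, v⁆ = ⁅v, w⁆ := fun v hv w hw => by
    rw [← commutatorElement_inv v w]
    exact inv_eq_of_mul_eq_one_right (hNsq _ (hB v hv w hw))
  have hfix : ∀ x : H, orderOf x = 3 → ∀ d ∈ D, Commute x d → d = 1 := fun x hx d hd hcd =>
    hC.fpf_mem (hx ▸ by decide) (fun e => by rw [e, orderOf_one] at hx; omega) hD hd hcd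
  have hcj : ∀ x : H, ∀ w ∈ D, x * w * x⁻¹ ∈ D := fun x w hw => (inferInstance : D.Normal).conj_mem w hw x
  have hadj : ∀ x : H, orderOf x = 3 → ∀ v ∈ D, ∀ w ∈ D, ⁅x * v * x⁻¹, w⁆ = ⁅v, x * w * x⁻¹⁆ := by
    intro x hx v hv w hw
    have hcm := fpf_three_commute hx (hfix x hx)
    have h0 : ∀ d ∈ D, ⁅d, x * d * x⁻¹⁆ = 1 := fun d hd =>
      commutatorElement_eq_one_iff_mul_comm.2 (hcm d hd)
    have hmull : ∀ a ∈ D, ∀ b ∈ D, ∀ c ∈ D, ⁅a * b, c⁆ = ⁅a, c⁆ * ⁅b, c⁆ := fun a ha b hb c hc => by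
      rw [hsymm c hc _ (mul_mem ha hb), hmulr c hc a ha b hb, hsymm c hc a ha, hsymm c hc b hb]
    have h1 := h0 (v * w) (mul_mem hv hw)
    rw [show x * (v * w) * x⁻¹ = x * v * x⁻¹ * (x * w * x⁻¹) by group,
      hmull v hv w hw _ (mul_mem (hcj x v hv) (hcj x w hw)), hmulr v hv _ (hcj x v hv) _ (hcj x w hw),
      hmulr w hw _ (hcj x v hv) _ (hcj x w hw), h0 v hv, h0 w hw, one_mul, mul_one] at h1
    rw [hsymm w hw _ (hcj x v hv), eq_inv_of_mul_eq_one_right h1]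
    exact inv_eq_of_mul_eq_one_right (hNsq _ (hB v hv _ (hcj x w hw)))
  set ZD := D ⊓ Subgroup.centralizer (D : Set H) with hZD
  haveI : ZD.Normal := inferInstance
  have hNZD : N ≤ ZD := fun n hn => ⟨hND hn, Subgroup.mem_centralizer_iff.2 (hNc n hn)⟩
  let K : Subgroup H :=
    { carrier := {g | ∀ w ∈ D, g * w * g⁻¹ * w⁻¹ ∈ ZD}
      one_mem' := fun w _ => by simp
      mul_mem' := fun {g h} hg hh w hw => by
        rw [show g * h * w * (g * h)⁻¹ * w⁻¹ = g * (h * w * h⁻¹) * g⁻¹ * (h * w * h⁻¹)⁻¹ * (h * w * h⁻¹ * w⁻¹) by group]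
        exact mul_mem (hg _ (hcj h w hw)) (hh w hw)
      inv_mem' := fun {g} hg w hw => by
        have h1 := hg (g⁻¹ * w * g⁻¹⁻¹) (hcj g⁻¹ w hw)
        rw [show g⁻¹ * w * g⁻¹⁻¹ * w⁻¹ = (g * (g⁻¹ * w * g⁻¹⁻¹) * g⁻¹ * (g⁻¹ * w * g⁻¹⁻¹)⁻¹)⁻¹ by group]
        exact inv_mem h1 }
  haveI : K.Normal := ⟨fun g hg c w hw => by
    rw [show c * g * c⁻¹ * w * (c * g * c⁻¹)⁻¹ * w⁻¹ =
      c * (g * (c⁻¹ * w * c⁻¹⁻¹) * g⁻¹ * (c⁻¹ * w * c⁻¹⁻¹)⁻¹) * c⁻¹ by group]
    exact Subgroup.Normal.conj_mem inferInstance _ (hg _ (hcj c⁻¹ w hw)) c⟩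
  have hDK : D ≤ K := fun d hd w hw => by
    rw [← commutatorElement_def]
    exact hNZD (hB d hd w hw)
  have hpair : ∀ x y : H, orderOf x = 3 → orderOf y = 3 →
      QuotientGroup.mk' K x * QuotientGroup.mk' K y = QuotientGroup.mk' K y * QuotientGroup.mk' K x := by
    intro x y hx hy
    have hy' : orderOf y⁻¹ = 3 := by rw [orderOf_inv, hy]
    have hA : orderOf (y * x * y⁻¹) = 3 := by
      rw [← hx]
      exact orderOf_injective (MulAut.conj y).toMonoidHom (MulAut.conj y).injective x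
    set A := y * x * y⁻¹ with hAdef
    set B := y⁻¹ * x * y with hBdef
    have hmem : B⁻¹ * A ∈ K := fun w hw => by
      set a := A * w * A⁻¹ with ha
      set b := B * w * B⁻¹ with hb
      have haD : a ∈ D := hcj A w hw
      have hbD : b ∈ D := hcj B w hw
      have heq : ∀ v ∈ D, ⁅v, a⁆ = ⁅v, b⁆ := fun v hv => by
        rw [ha, ← hadj A hA v hv w hw,
          show A * v * A⁻¹ = y * (x * (y⁻¹ * v * y⁻¹⁻¹) * x⁻¹) * y⁻¹ by rw [hAdef]; group,
          hadj y hy _ (hcj x _ (hcj y⁻¹ v hv)) w hw, hadj x hx _ (hcj y⁻¹ v hv) _ (hcj y w hw),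
          hadj y⁻¹ hy' v hv _ (hcj x _ (hcj y w hw)),
          show y⁻¹ * (x * (y * w * y⁻¹) * x⁻¹) * y⁻¹⁻¹ = b by rw [hb, hBdef]; group]
      have hab' : a * b⁻¹ ∈ ZD := by
        refine Subgroup.mem_inf.2 ⟨mul_mem haD (inv_mem hbD), Subgroup.mem_centralizer_iff.2 fun v hv => ?_⟩
        refine commutatorElement_eq_one_iff_mul_comm.1 ?_
        have h1 := hmulr v hv (a * b⁻¹) (mul_mem haD (inv_mem hbD)) b hbD
        rw [inv_mul_cancel_right, heq v hv] at h1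
        exact mul_eq_right.1 h1.symm
      rw [show B⁻¹ * A * w * (B⁻¹ * A)⁻¹ * w⁻¹ = B⁻¹ * (a * b⁻¹) * B⁻¹⁻¹ by rw [ha, hb]; group]
      exact Subgroup.Normal.conj_mem inferInstance _ hab' B⁻¹
    have e1 : QuotientGroup.mk' K B = QuotientGroup.mk' K A := QuotientGroup.eq.2 hmem
    rw [hAdef, hBdef, map_mul, map_mul, map_mul, map_mul, map_inv] at e1
    set X := QuotientGroup.mk' K x
    set Y := QuotientGroup.mk' K y
    have hY : Y * Y * Y = 1 := by rw [← map_mul, ← map_mul, ← pow_three', ← hy, pow_orderOf_eq_one, map_one]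
    have hY2 : Y * Y = Y⁻¹ := eq_inv_of_mul_eq_one_left hY
    have e2 : X * (Y * Y) = Y * Y * X := by
      calc X * (Y * Y) = Y * (Y⁻¹ * X * Y) * Y := by group
        _ = Y * (Y * X * Y⁻¹) * Y := by rw [e1]
        _ = Y * Y * X := by group
    rw [hY2] at e2
    exact (Commute.inv_right_iff.1 (show Commute X Y⁻¹ from e2)).eq
  -- the simple quotient
  haveI := hs
  rcases IsSimpleGroup.eq_bot_or_eq_top_of_normal (K.map (QuotientGroup.mk' D))
      ((inferInstance : K.Normal).map _ (QuotientGroup.mk'_surjective D)) with hK | hK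
  · exfalso
    rw [Subgroup.map_eq_bot_iff, QuotientGroup.ker_mk'] at hK
    have hcommQ : ∀ p q : H ⧸ D, orderOf p = 3 → orderOf q = 3 → p * q = q * p := by
      intro p q hp hq
      obtain ⟨x, hx, -, hzx⟩ := exists_prime_lift hD (r := 3) (by norm_num) hp
      obtain ⟨y, hy, -, hzy⟩ := exists_prime_lift hD (r := 3) (by norm_num) hq
      have h1 : QuotientGroup.mk' D x * QuotientGroup.mk' D y = QuotientGroup.mk' D y * QuotientGroup.mk' D x := by
        rw [← map_mul, ← map_mul]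
        refine QuotientGroup.eq.2 (hK ?_)
        have h2 := hpair x y hx hy
        rw [← map_mul, ← map_mul] at h2
        exact QuotientGroup.eq.1 h2
      obtain ⟨i, rfl⟩ := Subgroup.mem_zpowers_iff.1 (hzx.ge (Subgroup.mem_zpowers p))
      obtain ⟨j, rfl⟩ := Subgroup.mem_zpowers_iff.1 (hzy.ge (Subgroup.mem_zpowers q))
      exact ((show Commute _ _ from h1).zpow_zpow i j).eq
    set E := Subgroup.closure {q : H ⧸ D | orderOf q = 3} with hE
    haveI : E.Normal := by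
      refine ⟨fun n hn g => ?_⟩
      have hle : E.map (MulAut.conj g).toMonoidHom ≤ E := by
        rw [hE, MonoidHom.map_closure, Subgroup.closure_le]
        rintro _ ⟨q, hq, rfl⟩
        exact Subgroup.subset_closure ((orderOf_injective (MulAut.conj g).toMonoidHom (MulAut.conj g).injective q).trans hq)
      exact hle ⟨n, hn, rfl⟩
    obtain ⟨q₀, hq₀⟩ := exists_prime_orderOf_dvd_card' 3 h3
    have hEtop : E = ⊤ := (IsSimpleGroup.eq_bot_or_eq_top_of_normal E inferInstance).resolve_left fun e => by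
      have : q₀ ∈ E := Subgroup.subset_closure hq₀
      rw [e, Subgroup.mem_bot] at this
      rw [this, orderOf_one] at hq₀
      omega
    obtain ⟨a, b, hab'⟩ := hna
    refine hab' ?_
    have hle : E ≤ Subgroup.centralizer (E : Set (H ⧸ D)) := by
      rw [hE, Subgroup.centralizer_closure, Subgroup.closure_le]
      exact fun p hp => Subgroup.mem_centralizer_iff.2 fun q hq => hcommQ q p hq hp
    exact Subgroup.mem_centralizer_iff.1 (hle (hEtop ▸ Subgroup.mem_top b)) a (hEtop ▸ Subgroup.mem_top a)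
  have hKtop : K = ⊤ := by
    rw [← Subgroup.comap_map_eq_self (f := QuotientGroup.mk' D) (H := K) (by rw [QuotientGroup.ker_mk']; exact hDK),
      hK, Subgroup.comap_top]
  obtain ⟨x₀, hx₀⟩ := exists_prime_orderOf_dvd_card' 3 h3
  obtain ⟨x, hx, -, -⟩ := exists_prime_lift hD (r := 3) (by norm_num) hx₀
  let f : ZD → ZD := fun z => ⟨x * z * x⁻¹ * (z : H)⁻¹,
    mul_mem (Subgroup.Normal.conj_mem inferInstance _ z.2 x) (inv_mem z.2)⟩
  have hf : Function.Injective f := fun z z' e => by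
    have e' : x * z * x⁻¹ * (z : H)⁻¹ = x * z' * x⁻¹ * (z' : H)⁻¹ := congrArg Subtype.val e
    have h1 := hfix x hx ((z' : H)⁻¹ * z) (mul_mem (inv_mem z'.2.1) z.2.1) (mul_inv_eq_iff_eq_mul.1 (by
      calc x * ((z' : H)⁻¹ * z) * x⁻¹ = (x * z' * x⁻¹)⁻¹ * (x * z * x⁻¹ * (z : H)⁻¹) * z := by group
        _ = (z' : H)⁻¹ * z := by rw [e']; group))
    exact Subtype.ext (inv_mul_eq_one.1 h1).symm
  refine ⟨⟨fun u v => Subtype.ext ?_⟩⟩
  have hxK : x ∈ K := hKtop ▸ Subgroup.mem_top x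
  obtain ⟨z, hz⟩ := (Finite.injective_iff_surjective.1 hf) ⟨_, hxK v v.2⟩
  have e' : x * z * x⁻¹ * (z : H)⁻¹ = x * (v : H) * x⁻¹ * (v : H)⁻¹ := congrArg Subtype.val hz
  have hzv := Subgroup.mem_centralizer_iff.1 z.2.2 v v.2
  have h1 := hfix x hx ((z : H)⁻¹ * v) (mul_mem (inv_mem z.2.1) v.2) (mul_inv_eq_iff_eq_mul.1 (by
    calc x * ((z : H)⁻¹ * v) * x⁻¹ = (x * z * x⁻¹ * (z : H)⁻¹ * z)⁻¹ * (x * (v : H) * x⁻¹ * (v : H)⁻¹) * v := by group
      _ = (z : H)⁻¹ * v := by rw [e']; group))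
  rw [inv_mul_eq_one] at h1
  have := Subgroup.mem_centralizer_iff.1 z.2.2 u u.2
  rw [h1] at this
  exact this

end Cfsg.Agent.Solv.CITGroups
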