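import Cfsg.Prelude.Def_LieExceptional
import Cfsg.Agent.Lib.Fusion.StronglyEmbeddedPairs
import Cfsg.Agent.Lib.Solv.Frobenius
import Cfsg.Agent.Lib.Solv.Basic
import Cfsg.Agent.S0001
import Cfsg.Agent.Lib.Solv.Kulakoff

/-!
A strongly embedded subgroup in which the centralizers of involutions are the kernel.
-/

set_option autoImplicit false
set_option linter.style.haveILetI false

namespace Cfsg.Agent.Solv.CITGroups

open Cfsg
open Cfsg.Agent.Fusion.SEPairs
open scoped Pointwise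

universe u

variable {G : Type u} [Group G] [Finite G]

/-- The standing hypotheses. -/
structure Frame (M U : Subgroup G) : Prop where
  se : Cfsg.IsStronglyEmbedded M
  UM : U ≤ M
  Un : M ≤ Subgroup.normalizer (U : Set G)
  cent : ∀ t ∈ M, orderOf t = 2 → M ⊓ Subgroup.centralizer ({t} : Set G) = U
  inf : ∀ y : G ⧸ M, y ≠ ((1 : G) : G ⧸ M) → M ⊓ MulAction.stabilizer G y ⊓ U = ⊥
  free : ∀ y : G ⧸ M, y ≠ ((1 : G) : G ⧸ M) → ∀ d ∈ M ⊓ MulAction.stabilizer G y, d ≠ 1 →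
    ∀ u ∈ U, Commute u d → u = 1

/-- The number of involutions of `M`. -/
noncomputable def invCount (M : Subgroup G) : ℕ :=
  Nat.card {t : G // orderOf t = 2 ∧ t • ((1 : G) : G ⧸ M) = (1 : G)}

section

variable {M U : Subgroup G} (hF : Frame M U)
include hF

omit [Finite G] hF in
theorem fix_iff {t : G} : t • ((1 : G) : G ⧸ M) = (1 : G) ↔ t ∈ M := by
  rw [smul_mk_eq_iff]; simp

/-- Every element of `M` is an element of a two-point stabilizer times an element of `U`. -/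
theorem Frame.exists_mul {y : G ⧸ M} (hy : y ≠ ((1 : G) : G ⧸ M)) {g : G} (hg : g ∈ M) :
    ∃ d ∈ M ⊓ MulAction.stabilizer G y, ∃ u ∈ U, g = d * u := by
  obtain ⟨⟨a, haM⟩, ha⟩ : ∃ a : M, orderOf a = 2 := by
    haveI : Fact (Nat.Prime 2) := ⟨Nat.prime_two⟩
    exact exists_prime_orderOf_dvd_card' 2 (even_iff_two_dvd.1 hF.se.2.1)
  rw [Subgroup.orderOf_mk] at ha
  obtain ⟨d, hdx, hdy, hd⟩ := pair_transitive hF.se hy ha (fix_iff.2 haM) (conj_involution ha g)
    (fix_iff.2 (mul_mem (mul_mem hg haM) (inv_mem hg)))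
  have hdM : d ∈ M := fix_iff.1 hdx
  refine ⟨d, ⟨hdM, hdy⟩, d⁻¹ * g, ?_, (mul_inv_cancel_left d g).symm⟩
  rw [← hF.cent a haM ha]
  refine Subgroup.mem_inf.2 ⟨mul_mem (inv_mem hdM) hg, Subgroup.mem_centralizer_singleton_iff.2 (mul_inv_eq_iff_eq_mul.1 ?_)⟩
  rw [show d⁻¹ * g * a * (d⁻¹ * g)⁻¹ = d⁻¹ * (g * a * g⁻¹) * d by group, ← hd]
  group

theorem Frame.eq_of_mul {y : G ⧸ M} (hy : y ≠ ((1 : G) : G ⧸ M)) {d d' u u' : G}
    (hd : d ∈ M ⊓ MulAction.stabilizer G y) (hd' : d' ∈ M ⊓ MulAction.stabilizer G y) (hu : u ∈ U) (hu' : u' ∈ U)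
    (e : d * u = d' * u') : d = d' ∧ u = u' := by
  have e1 : d'⁻¹ * d = u' * u⁻¹ := by
    rw [eq_mul_inv_iff_mul_eq, mul_assoc, inv_mul_eq_iff_eq_mul]
    exact e
  have h1 : d'⁻¹ * d = 1 := Subgroup.mem_bot.1 ((hF.inf y hy).le
    (Subgroup.mem_inf.2 ⟨mul_mem (inv_mem hd') hd, e1 ▸ mul_mem hu' (inv_mem hu)⟩))
  refine ⟨(inv_mul_eq_one.1 h1).symm, ?_⟩
  rw [h1] at e1
  exact (mul_inv_eq_one.1 e1.symm).symm

theorem Frame.card_M {y : G ⧸ M} (hy : y ≠ ((1 : G) : G ⧸ M)) :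
    Nat.card M = Nat.card ↥(M ⊓ MulAction.stabilizer G y) * Nat.card U := by
  rw [← Nat.card_prod]
  refine (Nat.card_eq_of_bijective (fun p : ↥(M ⊓ MulAction.stabilizer G y) × U =>
    (⟨(p.1 : G) * p.2, mul_mem p.1.2.1 (hF.UM p.2.2)⟩ : M)) ⟨?_, ?_⟩).symm
  · rintro ⟨d, u⟩ ⟨d', u'⟩ e
    obtain ⟨h1, h2⟩ := hF.eq_of_mul hy d.2 d'.2 u.2 u'.2 (congrArg Subtype.val e)
    exact Prod.ext (Subtype.ext h1) (Subtype.ext h2)
  · rintro ⟨g, hg⟩
    obtain ⟨d, hd, u, hu, rfl⟩ := hF.exists_mul hy hg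
    exact ⟨(⟨d, hd⟩, ⟨u, hu⟩), rfl⟩

theorem Frame.card_stab {y : G ⧸ M} (hy : y ≠ ((1 : G) : G ⧸ M)) :
    Nat.card ↥(M ⊓ MulAction.stabilizer G y) = invCount M := by
  obtain ⟨⟨a, haM⟩, ha⟩ : ∃ a : M, orderOf a = 2 := by
    haveI : Fact (Nat.Prime 2) := ⟨Nat.prime_two⟩
    exact exists_prime_orderOf_dvd_card' 2 (even_iff_two_dvd.1 hF.se.2.1)
  rw [Subgroup.orderOf_mk] at ha
  refine Nat.card_eq_of_bijective (fun d : ↥(M ⊓ MulAction.stabilizer G y) =>
    (⟨(d : G) * a * (d : G)⁻¹, conj_involution ha d,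
      fix_iff.2 (mul_mem (mul_mem d.2.1 haM) (inv_mem d.2.1))⟩ :
      {t : G // orderOf t = 2 ∧ t • ((1 : G) : G ⧸ M) = (1 : G)})) ⟨?_, ?_⟩
  · intro d e hde
    have hde' : (d : G) * a * (d : G)⁻¹ = e * a * (e : G)⁻¹ := congrArg Subtype.val hde
    have hU : (e : G)⁻¹ * d ∈ U := by
      rw [← hF.cent a haM ha]
      refine Subgroup.mem_inf.2 ⟨mul_mem (inv_mem e.2.1) d.2.1,
        Subgroup.mem_centralizer_singleton_iff.2 (mul_inv_eq_iff_eq_mul.1 ?_)⟩
      calc (e : G)⁻¹ * d * a * ((e : G)⁻¹ * d)⁻¹ = (e : G)⁻¹ * ((d : G) * a * (d : G)⁻¹) * e := by group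
        _ = a := by rw [hde']; group
    exact Subtype.ext (inv_mul_eq_one.1
      (Subgroup.mem_bot.1 ((hF.inf y hy).le (Subgroup.mem_inf.2 ⟨mul_mem (inv_mem e.2) d.2, hU⟩)))).symm
  · rintro ⟨b, hb, hbx⟩
    obtain ⟨d, hdx, hdy, hd⟩ := pair_transitive hF.se hy ha (fix_iff.2 haM) hb hbx
    exact ⟨⟨d, fix_iff.1 hdx, hdy⟩, Subtype.ext hd⟩

omit hF in
theorem swap_back {t : G} (ht : orderOf t = 2) {x y : G ⧸ M} (h : t • x = y) : t • y = x := by
  rw [← h, smul_smul, sq_one ht, one_smul]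

/-- An involution interchanging two points inverts their stabilizer. -/
theorem Frame.inverts_base {y : G ⧸ M} (hy : y ≠ ((1 : G) : G ⧸ M)) {t : G} (ht : orderOf t = 2)
    (hty : t • ((1 : G) : G ⧸ M) = y) : ∀ d ∈ M ⊓ MulAction.stabilizer G y, t * d * t⁻¹ = d⁻¹ := by
  classical
  set D := M ⊓ MulAction.stabilizer G y with hD
  let f : {i : G // orderOf i = 2 ∧ i • ((1 : G) : G ⧸ M) = y} → D := fun i => ⟨t * i.1, fix_iff.1 (by
      rw [mul_smul, i.2.2, swap_back ht hty]), MulAction.mem_stabilizer_iff.2 (by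
      rw [mul_smul, swap_back i.2.1 i.2.2, hty])⟩
  have hinj : Function.Injective f := fun i j e => Subtype.ext (mul_left_cancel (congrArg Subtype.val e))
  have hbij := hinj.bijective_of_nat_card_le (by
    rw [card_swappers hF.se (Ne.symm hy), hF.card_stab hy, invCount])
  intro d hd
  obtain ⟨i, hi⟩ := hbij.2 ⟨d, hd⟩
  have e : t * i.1 = d := congrArg Subtype.val hi
  have hi' : i.1 = t * d := by rw [← e, ← mul_assoc, sq_one ht, one_mul]
  have h2 : t * d * (t * d) = 1 := hi' ▸ sq_one i.2.1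
  rw [inv_self ht]
  exact eq_inv_of_mul_eq_one_left (by rw [← h2]; group)

theorem Frame.comm {y : G ⧸ M} (hy : y ≠ ((1 : G) : G ⧸ M)) {d e : G}
    (hd : d ∈ M ⊓ MulAction.stabilizer G y) (he : e ∈ M ⊓ MulAction.stabilizer G y) : d * e = e * d := by
  have hpos : 0 < Nat.card {i : G // orderOf i = 2 ∧ i • ((1 : G) : G ⧸ M) = y} := by
    rw [card_swappers hF.se (Ne.symm hy)]
    change 0 < invCount M
    rw [← hF.card_stab hy]
    exact Nat.card_pos
  obtain ⟨⟨t, ht, hty⟩⟩ := (Nat.card_pos_iff.1 hpos).1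
  have h := hF.inverts_base hy ht hty (d * e) (mul_mem hd he)
  rw [show t * (d * e) * t⁻¹ = t * d * t⁻¹ * (t * e * t⁻¹) by group, hF.inverts_base hy ht hty d hd,
    hF.inverts_base hy ht hty e he, ← mul_inv_rev, inv_inj] at h
  exact h.symm

/-- A nontrivial element of a two-point stabilizer in `M` has the same centralizer in `M`. -/
theorem Frame.stab_eq {y z : G ⧸ M} (hy : y ≠ ((1 : G) : G ⧸ M)) (hz : z ≠ ((1 : G) : G ⧸ M)) {d : G} (hd1 : d ≠ 1)
    (hdy : d ∈ M ⊓ MulAction.stabilizer G y) (hdz : d • z = z) :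
    M ⊓ MulAction.stabilizer G z = M ⊓ MulAction.stabilizer G y := by
  have hdz' : d ∈ M ⊓ MulAction.stabilizer G z := ⟨hdy.1, hdz⟩
  refine Subgroup.eq_of_le_of_card_ge (fun g hg => ?_) (by rw [hF.card_stab hy, hF.card_stab hz])
  obtain ⟨e, he, u, hu, rfl⟩ := hF.exists_mul hy hg.1
  have h1 : Commute (e * u) d := hF.comm hz hg hdz'
  have h2 : Commute e d := hF.comm hy he hdy
  have h3 : Commute u d := by simpa using h2.inv_left.mul_left h1
  rw [hF.free y hy d hdy hd1 u hu h3, mul_one]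
  exact he

/-- The kernel is coprime to the two-point stabilizers. -/
theorem Frame.coprime {y : G ⧸ M} (hy : y ≠ ((1 : G) : G ⧸ M)) :
    (Nat.card U).Coprime (Nat.card ↥(M ⊓ MulAction.stabilizer G y)) := by
  classical
  refine Nat.coprime_of_dvd fun r hr hrU hrD => ?_
  haveI := Fact.mk hr
  obtain ⟨d, hd⟩ := exists_prime_orderOf_dvd_card' r hrD
  have hd1 : (d : G) ≠ 1 := fun e => hr.ne_one (by rw [← hd, ← Subgroup.orderOf_coe, e, orderOf_one])
  have hdn : ∀ g ∈ Subgroup.zpowers (d : G), g ∈ Subgroup.normalizer (U : Set G) := fun g hg =>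
    hF.Un (((Subgroup.zpowers_le.2 d.2).trans inf_le_left) hg)
  letI : MulAction (Subgroup.zpowers (d : G)) U :=
    MulAction.compHom U (U.normalizerMonoidHom.comp (Subgroup.inclusion hdn))
  have hp : IsPGroup r (Subgroup.zpowers (d : G)) :=
    IsPGroup.of_card (n := 1) (by rw [Nat.card_zpowers, Subgroup.orderOf_coe, hd, pow_one])
  have hm := hp.card_modEq_card_fixedPoints U
  have hone : Nat.card (MulAction.fixedPoints (Subgroup.zpowers (d : G)) U) = 1 := by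
    rw [Nat.card_eq_one_iff_unique]
    refine ⟨⟨fun v w => Subtype.ext ?_⟩, ⟨⟨1, fun g =>
      map_one (U.normalizerMonoidHom (Subgroup.inclusion hdn g))⟩⟩⟩
    have key : ∀ v : MulAction.fixedPoints (Subgroup.zpowers (d : G)) U, (v : U) = 1 := fun v => by
      have h1 : (d : G) * ((v : U) : G) * (d : G)⁻¹ = ((v : U) : G) :=
        congrArg Subtype.val (v.2 ⟨(d : G), Subgroup.mem_zpowers _⟩)
      exact Subtype.ext (hF.free y hy d d.2 hd1 _ (v : U).2 (mul_inv_eq_iff_eq_mul.1 h1).symm)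
    rw [key v, key w]
  rw [hone] at hm
  unfold Nat.ModEq at hm
  rw [Nat.dvd_iff_mod_eq_zero.1 hrU, Nat.one_mod_eq_one.2 hr.ne_one] at hm
  exact zero_ne_one hm

/-- There is more than one involution in `M` for simple groups. -/
theorem Frame.invCount_ne_one [IsSimpleGroup G] : invCount M ≠ 1 := by
  intro h1
  have hTne : M ≠ ⊥ := fun e => by
    have := hF.se.2.1
    rw [e, Subgroup.card_bot] at this
    exact absurd this (by decide)
  have hFr : Cfsg.IsFrobeniusComplement M := by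
    refine ⟨hTne, hF.se.1, fun g hg => ?_⟩
    have hy : ((g : G) : G ⧸ M) ≠ (1 : G) := fun e => hg (by
      rw [QuotientGroup.eq] at e; simpa using e)
    have h2 := hF.card_stab hy
    rw [h1, Subgroup.card_eq_one] at h2
    rw [eq_bot_iff, ← h2]
    rintro t ⟨htM, htg⟩
    refine ⟨htM, smul_mk_eq_iff.2 ?_⟩
    obtain ⟨s, hs, rfl⟩ := htg
    simpa [mul_assoc] using hs
  obtain ⟨N, -, hN, hc⟩ := frobenius_theorem hFr
  rcases IsSimpleGroup.eq_bot_or_eq_top_of_normal N hN with e | e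
  · subst e
    exact hF.se.1 (Subgroup.isComplement'_bot_left.1 hc)
  · subst e
    exact hTne (Subgroup.isComplement'_top_left.1 hc)

/-- A two-point stabilizer fixes exactly two points. -/
theorem Frame.two_fixed [IsSimpleGroup G] {y : G ⧸ M} (hy : y ≠ ((1 : G) : G ⧸ M)) :
    ∀ z : G ⧸ M, z ≠ ((1 : G) : G ⧸ M) → (∀ g ∈ M ⊓ MulAction.stabilizer G y, g • z = z) → z = y := by
  classical
  set x₀ : G ⧸ M := ((1 : G) : G ⧸ M) with hx₀
  set D := M ⊓ MulAction.stabilizer G y with hD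
  have hm := hF.invCount_ne_one
  have hDc : Nat.card D = invCount M := hF.card_stab hy
  obtain ⟨d₀, hd₀, hd01⟩ : ∃ d ∈ D, d ≠ 1 := by
    by_contra hno
    push Not at hno
    exact hm (by rw [← hDc, Subgroup.card_eq_one, Subgroup.eq_bot_iff_forall]; exact hno)
  let Φ := {z : G ⧸ M // ∀ g ∈ D, g • z = z}
  set N := Subgroup.normalizer (D : Set G) with hN
  have hst : ∀ z : Φ, z.1 ≠ x₀ → M ⊓ MulAction.stabilizer G z.1 = D := fun z hz =>
    hF.stab_eq hy hz hd01 hd₀ (z.2 d₀ hd₀)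
  -- swappers normalize and invert
  have hswN : ∀ z : Φ, z.1 ≠ x₀ → ∀ t : G, orderOf t = 2 → t • x₀ = z.1 →
      t ∈ N ∧ ∀ d ∈ D, t * d * t⁻¹ = d⁻¹ := by
    intro z hz t ht htz
    have hinv : ∀ d ∈ D, t * d * t⁻¹ = d⁻¹ := fun d hd => hF.inverts_base hz ht htz d ((hst z hz).ge hd)
    refine ⟨Subgroup.mem_normalizer_iff.2 fun w => ⟨fun hw => hinv w hw ▸ inv_mem hw, fun hw => ?_⟩, hinv⟩
    have h1 := hinv _ hw
    rw [show t * (t * w * t⁻¹) * t⁻¹ = (t * t) * w * (t * t)⁻¹ by group, sq_one ht] at h1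
    simp only [one_mul, inv_one, mul_one] at h1
    rw [h1]
    exact inv_mem hw
  have hNΦ : ∀ n ∈ N, ∀ g ∈ D, g • (n • x₀) = n • x₀ := fun n hn g hg => by
    have h1 : n⁻¹ * g * n ∈ D :=
      (Subgroup.mem_normalizer_iff.1 hn _).2 (by rwa [show n * (n⁻¹ * g * n) * n⁻¹ = g by group])
    rw [smul_smul, show g * n = n * (n⁻¹ * g * n) by group, mul_smul, fix_iff.2 h1.1]
  have hNM : ∀ n ∈ N, n ∈ M → n ∈ D := by
    intro n hn hnM
    obtain ⟨e, he, u, hu, rfl⟩ := hF.exists_mul hy hnM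
    have hu' : u ∈ N := by
      have := mul_mem (inv_mem (Subgroup.le_normalizer he : e ∈ N)) hn
      rwa [inv_mul_cancel_left] at this
    have hdu : u * d₀ * u⁻¹ * d₀⁻¹ ∈ D :=
      mul_mem ((Subgroup.mem_normalizer_iff.1 hu' _).1 hd₀) (inv_mem hd₀)
    have hdU : u * d₀ * u⁻¹ * d₀⁻¹ ∈ U := by
      rw [show u * d₀ * u⁻¹ * d₀⁻¹ = u * (d₀ * u⁻¹ * d₀⁻¹) by group]
      exact mul_mem hu ((Subgroup.mem_normalizer_iff.1 (hF.Un hd₀.1) _).1 (inv_mem hu))
    have h1 := Subgroup.mem_bot.1 ((hF.inf y hy).le ⟨hdu, hdU⟩)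
    rw [hF.free y hy d₀ hd₀ hd01 u hu (mul_inv_eq_iff_eq_mul.1 (mul_inv_eq_one.1 h1)), mul_one]
    exact he
  -- transitivity
  let ψ : N → Φ := fun n => ⟨(n : G) • x₀, hNΦ n n.2⟩
  have hex : ∀ z : Φ, z.1 ≠ x₀ → ∃ t : G, orderOf t = 2 ∧ t • x₀ = z.1 := by
    intro z hz
    have hpos : 0 < Nat.card {i : G // orderOf i = 2 ∧ i • x₀ = z.1} := by
      rw [card_swappers hF.se (Ne.symm hz)]
      change 0 < invCount M
      rw [← hF.card_stab hy]
      exact Nat.card_pos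
    obtain ⟨⟨t, ht⟩⟩ := (Nat.card_pos_iff.1 hpos).1
    exact ⟨t, ht⟩
  have hψ : Function.Surjective ψ := by
    intro z
    by_cases hz : z.1 = x₀
    · exact ⟨1, Subtype.ext ((one_smul G x₀).trans hz.symm)⟩
    · obtain ⟨t, ht, htz⟩ := hex z hz
      exact ⟨⟨t, (hswN z hz t ht htz).1⟩, Subtype.ext htz⟩
  have hNcard : Nat.card N = invCount M * Nat.card Φ := by
    rw [mul_comm]
    refine Cfsg.Agent.Solv.card_eq_mul_of_fibres ψ (k := invCount M) fun z => ?_
    obtain ⟨n₀, hn₀⟩ := hψ z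
    conv_rhs => rw [← hDc]
    refine Nat.card_congr
      { toFun := fun n => ⟨(n₀ : G)⁻¹ * (n.1 : G), hNM _ (mul_mem (inv_mem n₀.2) n.1.2) (fix_iff.1 (by
          rw [mul_smul, inv_smul_eq_iff]
          exact congrArg Subtype.val (n.2.trans hn₀.symm)))⟩
        invFun := fun ρ => ⟨⟨(n₀ : G) * ρ, mul_mem n₀.2 (Subgroup.le_normalizer ρ.2)⟩, by
          rw [← hn₀]
          refine Subtype.ext ?_
          show ((n₀ : G) * ρ) • x₀ = (n₀ : G) • x₀
          rw [mul_smul, fix_iff.2 ρ.2.1]⟩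
        left_inv := fun n => Subtype.ext (Subtype.ext (mul_inv_cancel_left _ _))
        right_inv := fun ρ => Subtype.ext (inv_mul_cancel_left _ _) }
  -- the swappers
  let J := Σ z : {z : Φ // z.1 ≠ x₀}, {t : G // orderOf t = 2 ∧ t • x₀ = z.1.1}
  haveI := Fintype.ofFinite {z : Φ // z.1 ≠ x₀}
  have hJ : Nat.card J = Nat.card {z : Φ // z.1 ≠ x₀} * invCount M := by
    rw [Nat.card_sigma]
    rw [Finset.sum_const_nat (m := invCount M) fun z _ => card_swappers hF.se (Ne.symm z.2),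
      Finset.card_univ, Nat.card_eq_fintype_card]
  have hΦ0 : Nat.card {z : Φ // z.1 ≠ x₀} + 1 = Nat.card Φ := by
    let o : Φ := ⟨x₀, fun g hg => fix_iff.2 hg.1⟩
    have e : Option {z : Φ // z.1 ≠ x₀} ≃ Φ :=
      { toFun := fun z => z.elim o Subtype.val
        invFun := fun z => if hz : z.1 = x₀ then none else some ⟨z, hz⟩
        left_inv := fun z => by
          rcases z with _ | z
          · simp [o]
          · simp [z.2]
        right_inv := fun z => by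
          by_cases hz : z.1 = x₀
          · simp [hz, o]; exact Subtype.ext hz.symm
          · simp [hz] }
    rw [← Nat.card_congr e, Finite.card_option]
  let yΦ : Φ := ⟨y, fun g hg => hg.2⟩
  obtain ⟨t₀, ht₀, ht₀y⟩ := hex yΦ hy
  obtain ⟨ht₀N, ht₀i⟩ := hswN yΦ hy t₀ ht₀ ht₀y
  -- all swappers lie in one coset of the centralizer
  set A := Subgroup.centralizer (D : Set G) with hA
  have hAN : A ≤ N := fun q hq => Subgroup.mem_normalizer_iff.2 fun w => by
    have hc : ∀ v ∈ D, q * v * q⁻¹ = v := fun v hv => by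
      rw [← Subgroup.mem_centralizer_iff.1 hq v hv, mul_inv_cancel_right]
    refine ⟨fun hw => (hc w hw).symm ▸ hw, fun hw => ?_⟩
    have h8 : q * w * q⁻¹ = w := by
      have h3 := congrArg (fun v => q⁻¹ * v * q) (hc _ hw)
      simpa [mul_assoc] using h3
    rwa [h8] at hw
  let θ : J → A := fun j => ⟨t₀⁻¹ * j.2.1, Subgroup.mem_centralizer_iff.2 fun d hd => by
    have h1 := (hswN j.1.1 j.1.2 j.2.1 j.2.2.1 j.2.2.2).2 d hd
    have h2 := ht₀i d hd
    have h3 : t₀⁻¹ * (j.2.1 * d * j.2.1⁻¹) * j.2.1 = t₀⁻¹ * (t₀ * d * t₀⁻¹) * j.2.1 := by rw [h1, h2]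
    rw [show t₀⁻¹ * (j.2.1 * d * j.2.1⁻¹) * j.2.1 = t₀⁻¹ * j.2.1 * d by group,
      show t₀⁻¹ * (t₀ * d * t₀⁻¹) * j.2.1 = d * (t₀⁻¹ * j.2.1) by group] at h3
    exact h3.symm⟩
  have hθ : Function.Injective θ := by
    rintro ⟨z, t⟩ ⟨z', t'⟩ e
    have e' : t.1 = t'.1 := mul_left_cancel (congrArg Subtype.val e)
    obtain rfl : z = z' := Subtype.ext (Subtype.ext (by rw [← t.2.2, ← t'.2.2, e']))
    obtain rfl : t = t' := Subtype.ext e'
    rfl
  have hA2 : 2 * Nat.card A ≤ Nat.card N := by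
    let ι : A ⊕ A → N := fun s => s.elim (fun a : A => ⟨(a : G), hAN a.2⟩) (fun a : A => ⟨t₀ * (a : G), mul_mem ht₀N (hAN a.2)⟩)
    have hι : Function.Injective ι := by
      have hne : ∀ a b : A, (a : G) ≠ t₀ * b := fun a b e => by
        have hmem : t₀ ∈ A := by
          rw [show t₀ = (a : G) * (b : G)⁻¹ by rw [e, mul_inv_cancel_right]]
          exact mul_mem a.2 (inv_mem b.2)
        have h1 := ht₀i d₀ hd₀
        rw [show t₀ * d₀ * t₀⁻¹ = d₀ from
          mul_inv_eq_iff_eq_mul.2 (Subgroup.mem_centralizer_iff.1 hmem d₀ hd₀).symm] at h1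
        have h2 : orderOf d₀ ∣ 2 := orderOf_dvd_of_pow_eq_one (by
          rw [pow_two]; nth_rewrite 2 [h1]; exact mul_inv_cancel _)
        have hodd : Odd (Nat.card D) := by
          obtain ⟨g, rfl⟩ := QuotientGroup.mk_surjective y
          have hgM : g ∉ M := fun hg => hy (by rw [QuotientGroup.eq]; simpa using hg)
          refine (hF.se.2.2 g hgM).of_dvd_nat (Subgroup.card_dvd_of_le ?_)
          rintro t ⟨htM, hty⟩
          refine ⟨htM, ⟨g⁻¹ * t * g, smul_mk_eq_iff.1 hty, ?_⟩⟩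
          show g * (g⁻¹ * t * g) * g⁻¹ = t
          group
        rcases (Nat.dvd_prime Nat.prime_two).1 h2 with h3 | h3
        · exact hd01 (orderOf_eq_one_iff.1 h3)
        · have := hodd.of_dvd_nat (Subgroup.orderOf_dvd_natCard D hd₀)
          rw [h3] at this
          exact absurd this (by decide)
      rintro (a | a) (b | b) e <;> have e' := congrArg Subtype.val e <;> simp only [ι, Sum.elim_inl, Sum.elim_inr] at e'
      · exact congrArg Sum.inl (Subtype.ext e')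
      · exact absurd e' (hne a b)
      · exact absurd e'.symm (hne b a)
      · exact congrArg Sum.inr (Subtype.ext (mul_left_cancel e'))
    calc 2 * Nat.card A = Nat.card (A ⊕ A) := by rw [Nat.card_sum]; ring
      _ ≤ Nat.card N := Nat.card_le_card_of_injective ι hι
  have hΦ2 : Nat.card Φ ≤ 2 := by
    have h1 := Nat.card_le_card_of_injective θ hθ
    rw [hJ] at h1
    rw [hNcard] at hA2
    have hmpos : 0 < invCount M := hDc ▸ Nat.card_pos
    nlinarith
  intro z hz hzfix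
  by_contra hne
  haveI := Fintype.ofFinite Φ
  have h3 : 2 < Fintype.card Φ := Fintype.two_lt_card_iff.2
    ⟨⟨x₀, fun g hg => fix_iff.2 hg.1⟩, yΦ, ⟨z, hzfix⟩, fun e => hy (congrArg Subtype.val e).symm,
      fun e => hz (congrArg Subtype.val e).symm, fun e => hne (congrArg Subtype.val e).symm⟩
  rw [← Nat.card_eq_fintype_card] at h3
  omega

/-- The point stabilizer is transitive on the other points, through the kernel. -/
theorem Frame.exists_move [IsSimpleGroup G] {y z : G ⧸ M} (hy : y ≠ ((1 : G) : G ⧸ M))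
    (hz : z ≠ ((1 : G) : G ⧸ M)) : ∃ u ∈ U, u • y = z := by
  classical
  set Dy := M ⊓ MulAction.stabilizer G y
  set Dz := M ⊓ MulAction.stabilizer G z
  haveI : (U.subgroupOf M).Normal :=
    ⟨fun n hn g => (Subgroup.mem_normalizer_iff.1 (hF.Un g.2) n).1 hn⟩
  have hcompl : ∀ w : G ⧸ M, w ≠ ((1 : G) : G ⧸ M) →
      Subgroup.IsComplement' (U.subgroupOf M) ((M ⊓ MulAction.stabilizer G w).subgroupOf M) := by
    intro w hw
    refine Subgroup.isComplement'_of_disjoint_and_mul_eq_univ ?_ ?_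
    · rw [disjoint_iff, eq_bot_iff]
      rintro g ⟨hgU, hgD⟩
      exact Subtype.ext (Subgroup.mem_bot.1 ((hF.inf w hw).le ⟨hgD, hgU⟩))
    · refine Set.eq_univ_of_forall fun g => ?_
      obtain ⟨d, hd, u, hu, e⟩ := hF.exists_mul hw g.2
      refine ⟨⟨d * u * d⁻¹, hF.UM ((Subgroup.mem_normalizer_iff.1 (hF.Un hd.1) u).1 hu)⟩,
        (Subgroup.mem_normalizer_iff.1 (hF.Un hd.1) u).1 hu, ⟨d, hd.1⟩, hd, Subtype.ext ?_⟩
      show d * u * d⁻¹ * d = g
      rw [e]; group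
  have hidx : (U.subgroupOf M).index = Nat.card Dy := by
    have h1 := (U.subgroupOf M).card_mul_index
    rw [Nat.card_congr (Subgroup.subgroupOfEquivOfLe hF.UM).toEquiv, hF.card_M hy, mul_comm (Nat.card _) (Nat.card U)] at h1
    exact Nat.eq_of_mul_eq_mul_left Nat.card_pos h1
  have hquot : Group.IsSolvable (M ⧸ U.subgroupOf M) := by
    haveI : Group.IsSolvable Dy :=
      Group.isSolvable_of_comm fun a b => Subtype.ext (hF.comm hy a.2 b.2)
    refine Group.isSolvable_of_surjective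
      (f := (QuotientGroup.mk' (U.subgroupOf M)).comp (Subgroup.inclusion (inf_le_left : Dy ≤ M))) fun q => ?_
    obtain ⟨g, rfl⟩ := QuotientGroup.mk'_surjective _ q
    obtain ⟨d, hd, u, hu, e⟩ := hF.exists_mul hy g.2
    refine ⟨⟨d, hd⟩, QuotientGroup.eq.2 ?_⟩
    show d⁻¹ * (g : G) ∈ U
    rw [e, inv_mul_cancel_left]
    exact hu
  obtain ⟨g, hg⟩ := Cfsg.Agent.S0001.result (U.subgroupOf M) (by
    rw [hidx, Nat.card_congr (Subgroup.subgroupOfEquivOfLe hF.UM).toEquiv]; exact hF.coprime hy) (Or.inr hquot)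
    (Dy.subgroupOf M) (Dz.subgroupOf M) (hcompl y hy) (hcompl z hz)
  have hmove : (g : G) • y = z := by
    have hne : (g : G) • y ≠ ((1 : G) : G ⧸ M) := fun e =>
      hy (smul_left_cancel (g : G) (e.trans (fix_iff.2 g.2).symm))
    refine hF.two_fixed hz _ hne fun d hd => ?_
    have hd' : (⟨d, hd.1⟩ : M) ∈ MulAut.conj g • Dy.subgroupOf M := by
      rw [hg]; exact hd
    obtain ⟨e, he, hede⟩ := hd'
    have e' : (g : G) * (e : G) * (g : G)⁻¹ = d := congrArg Subtype.val hede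
    have h1 : (e : G) • y = y := he.2
    rw [← e', mul_smul, mul_smul, inv_smul_smul, h1]
  obtain ⟨d, hd, u, hu, e⟩ := hF.exists_mul hy g.2
  refine ⟨d * u * d⁻¹, (Subgroup.mem_normalizer_iff.1 (hF.Un hd.1) u).1 hu, ?_⟩
  rw [mul_smul, mul_smul, inv_smul_eq_iff.2 (show y = d • y from hd.2.symm), ← mul_smul, ← e, hmove]

/-- The group is a Zassenhaus group on the cosets, with regular kernel. -/
theorem Frame.zassenhaus [IsSimpleGroup G] :
    Cfsg.IsZassenhausGroup G (G ⧸ M) ∧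
      ∀ y z : G ⧸ M, y ≠ ((1 : G) : G ⧸ M) → z ≠ ((1 : G) : G ⧸ M) → ∃! u : U, (u : G) • y = z := by
  classical
  set x₀ : G ⧸ M := ((1 : G) : G ⧸ M)
  refine ⟨⟨⟨fun {g g'} hgg => ?_⟩, ?_, ?_, ?_, ?_⟩, fun y z hy hz => ?_⟩
  · have hker : g'⁻¹ * g ∈ M.normalCore := fun c => by
      have h1 : (g'⁻¹ * g) • ((c⁻¹ : G) : G ⧸ M) = (c⁻¹ : G) := by
        rw [mul_smul, hgg, inv_smul_smul]
      have := smul_mk_eq_iff.1 h1
      rwa [inv_inv] at this
    rcases IsSimpleGroup.eq_bot_or_eq_top_of_normal M.normalCore inferInstance with e | e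
    · rw [e, Subgroup.mem_bot] at hker
      exact (inv_mul_eq_one.1 hker).symm
    · exact absurd (top_le_iff.1 (e.ge.trans (Subgroup.normalCore_le M))) hF.se.1
  · rw [MulAction.is_two_pretransitive_iff]
    intro a b c d hab hcd
    obtain ⟨g, hg⟩ := exists_smul_eq' x₀ a
    obtain ⟨g', hg'⟩ := exists_smul_eq' x₀ c
    obtain ⟨m, hm, hmb⟩ := hF.exists_move (fun e => hab (by rw [← hg, ← e, smul_inv_smul]) : g⁻¹ • b ≠ x₀)
      (fun e => hcd (by rw [← hg', ← e, smul_inv_smul]) : g'⁻¹ • d ≠ x₀)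
    refine ⟨g' * m * g⁻¹, ?_, ?_⟩
    · rw [← hg, mul_smul, inv_smul_smul, mul_smul, fix_iff.2 (hF.UM hm), hg']
    · rw [mul_smul, mul_smul, hmb, smul_inv_smul]
  · intro g a b c hab hbc hac hga hgb hgc
    obtain ⟨k, hk⟩ := exists_smul_eq' x₀ a
    set g₁ := k⁻¹ * g * k with hg₁
    have hfx : ∀ p : G ⧸ M, g • p = p → g₁ • (k⁻¹ • p) = k⁻¹ • p := fun p hp => by
      simp only [g₁]; rw [mul_smul, mul_smul, smul_inv_smul, hp]
    have ha : k⁻¹ • a = x₀ := by rw [← hk, inv_smul_smul]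
    have h1 : g₁ ∈ M := fix_iff.1 (by show g₁ • x₀ = x₀; rw [← ha]; exact hfx a hga)
    have hb0 : k⁻¹ • b ≠ x₀ := fun e => hab (smul_left_cancel k⁻¹ (ha.trans e.symm))
    have hc0 : k⁻¹ • c ≠ x₀ := fun e => hac (smul_left_cancel k⁻¹ (ha.trans e.symm))
    by_contra hg1
    have hg1' : g₁ ≠ 1 := fun e => hg1 (by
      have := congrArg (fun w => k * w * k⁻¹) e
      simpa [g₁, mul_assoc] using this)
    have hst := hF.stab_eq hb0 hc0 hg1' ⟨h1, hfx b hgb⟩ (hfx c hgc)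
    exact hbc (smul_left_cancel k⁻¹ (hF.two_fixed hb0 _ hc0 fun d hd => (hst.ge hd).2).symm)
  · obtain ⟨y, hy⟩ := exists_ne hF.se x₀
    have hc := hF.card_stab hy
    obtain ⟨⟨g, hg⟩, hg1⟩ := Subgroup.ne_bot_iff_exists_ne_one.1
      (show M ⊓ MulAction.stabilizer G y ≠ ⊥ from fun e => by
        rw [e, Subgroup.card_bot] at hc; exact hF.invCount_ne_one hc.symm)
    exact ⟨g, fun e => hg1 (Subtype.ext e), x₀, y, hy.symm, fix_iff.2 hg.1, hg.2⟩
  · intro N hN hNt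
    rcases IsSimpleGroup.eq_bot_or_eq_top_of_normal N hN with e | e
    · exfalso
      subst e
      haveI := hNt
      obtain ⟨y, hy⟩ := exists_ne hF.se x₀
      obtain ⟨⟨n, hn⟩, hny⟩ := hNt.exists_smul_eq x₀ y
      rw [Subgroup.mem_bot] at hn
      subst hn
      exact hy (hny.symm.trans (one_smul G x₀))
    · subst e
      refine ⟨x₀, fun hb => ?_⟩
      have hM : M = ⊥ := (Subgroup.eq_bot_iff_forall M).2 fun g hg => by
        have h1 : (⟨g, Subgroup.mem_top g⟩ : (⊤ : Subgroup G)) ∈ MulAction.stabilizer (⊤ : Subgroup G) x₀ :=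
          MulAction.mem_stabilizer_iff.2 (fix_iff.2 hg)
        exact congrArg Subtype.val (Subgroup.mem_bot.1 (hb.le h1))
      have := hF.se.2.1
      rw [hM, Subgroup.card_bot] at this
      exact absurd this (by decide)
  · obtain ⟨u, hu, hu'⟩ := hF.exists_move hy hz
    refine ⟨⟨u, hu⟩, hu', fun w hw => Subtype.ext (inv_mul_eq_one.1 (?_ : u⁻¹ * (w : G) = 1)).symm⟩
    refine Subgroup.mem_bot.1 ((hF.inf y hy).le
      (Subgroup.mem_inf.2 ⟨Subgroup.mem_inf.2 ⟨mul_mem (inv_mem (hF.UM hu)) (hF.UM w.2), MulAction.mem_stabilizer_iff.2 ?_⟩,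
        mul_mem (inv_mem hu) w.2⟩))
    rw [mul_smul, show (w : G) • y = z from hw, ← hu', inv_smul_smul]

end

end Cfsg.Agent.Solv.CITGroups
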