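import Cfsg.Agent.Lib.Solv.CIT.EPPOSimple
import Cfsg.Agent.Lib.Spor.PlaneAut

/-!
Groups in which every element has prime power order: four primes at most.
-/

set_option autoImplicit false
set_option linter.style.haveILetI false
set_option linter.unusedSectionVars false

namespace Cfsg.Agent.Solv.CITGroups

open Cfsg
open Cfsg.Agent.Solv.EPPOArith

universe u

variable {G : Type u} [Group G] [Finite G]

/-- A group acting without fixed points has order dividing the number of nontrivial points. -/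
theorem dvd_pred_of_free {A V : Subgroup G} (hAV : A ≤ Subgroup.normalizer (V : Set G))
    (hfpf : ∀ a ∈ A, a ≠ 1 → V ⊓ Subgroup.centralizer {a} = ⊥) : Nat.card A ∣ Nat.card V - 1 := by
  classical
  letI act : MulAction A V :=
    { smul := fun a v => Solv.conjHom (a : G) (hAV a.2) v
      one_smul := fun v => Subtype.ext (by show ((1 : A) : G) * v * ((1 : A) : G)⁻¹ = v; simp)
      mul_smul := fun a b v => Subtype.ext (by
        show ((a * b : A) : G) * v * ((a * b : A) : G)⁻¹ = (a : G) * ((b : G) * v * (b : G)⁻¹) * (a : G)⁻¹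
        push_cast; group) }
  have := Fintype.ofFinite A
  have := Fintype.ofFinite V
  have := Fintype.ofFinite (MulAction.orbitRel.Quotient A V)
  have hfix : ∀ a : A, a ≠ 1 → Fintype.card (MulAction.fixedBy V a) = 1 := by
    intro a ha
    rw [Fintype.card_eq_one_iff]
    refine ⟨⟨1, Subtype.ext (by show (a : G) * ((1 : V) : G) * (a : G)⁻¹ = _; simp)⟩,
      fun v => Subtype.ext ?_⟩
    obtain ⟨v, hv⟩ := v
    have hv' : (a : G) * v * (a : G)⁻¹ = v := congrArg Subtype.val hv
    have : (v : G) ∈ V ⊓ Subgroup.centralizer {(a : G)} := ⟨v.2,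
      Subgroup.mem_centralizer_singleton_iff.2 (mul_inv_eq_iff_eq_mul.1 hv').symm⟩
    rw [hfpf a a.2 (fun e => ha (Subtype.ext e)), Subgroup.mem_bot] at this
    exact Subtype.ext this
  have h := MulAction.sum_card_fixedBy_eq_card_orbits_mul_card_group A V
  rw [← Finset.add_sum_erase _ _ (Finset.mem_univ (1 : A)),
    Finset.sum_congr rfl (fun a hm => hfix a (Finset.ne_of_mem_erase hm)), Finset.sum_const,
    Finset.card_erase_of_mem (Finset.mem_univ _), Finset.card_univ, smul_eq_mul, mul_one] at h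
  have h1 : Fintype.card (MulAction.fixedBy V (1 : A)) = Nat.card V := by
    rw [← Nat.card_eq_fintype_card]
    exact Nat.card_congr (Equiv.subtypeUnivEquiv fun q => one_smul A q)
  rw [h1, ← Nat.card_eq_fintype_card (α := A)] at h
  generalize Fintype.card (MulAction.orbitRel.Quotient A V) = o at h
  have hpos : 0 < Nat.card A := Nat.card_pos
  have hposV : 0 < Nat.card V := Nat.card_pos
  refine ⟨o - 1, ?_⟩
  rw [Nat.mul_sub, mul_one, mul_comm (Nat.card A) o]
  omega

theorem pred_dvd (h : ∀ g : G, g ≠ 1 → IsPrimePow (orderOf g)) {p q : ℕ} (hp : p.Prime) (hq : q.Prime)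
    (hpq : p ≠ q) {P Q : Subgroup G} (hP : IsPGroup p P) (hQ : IsPGroup q Q)
    (hQP : Q ≤ Subgroup.normalizer (P : Set G)) : Nat.card Q ∣ Nat.card P - 1 := by
  refine dvd_pred_of_free hQP fun a ha ha1 => (Subgroup.eq_bot_iff_forall _).2 fun v hv => ?_
  by_contra hv1
  have key : ∀ {r : ℕ}, r.Prime → ∀ {H : Subgroup G}, IsPGroup r H → ∀ {x : G}, x ∈ H → x ≠ 1 →
      orderOf (x ^ (orderOf x / r)) = r := fun {r} hr {H} hH {x} hx hx1 => by
    haveI := Fact.mk hr
    refine orderOf_pow_orderOf_div (orderOf_pos x).ne' ?_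
    obtain ⟨k, hk⟩ := IsPGroup.iff_orderOf.1 hH ⟨x, hx⟩
    rw [Subgroup.orderOf_mk] at hk
    rw [hk]
    refine dvd_pow_self r fun e => hx1 ?_
    rw [e, pow_zero] at hk
    exact orderOf_eq_one_iff.1 hk
  exact hpq (EPPO.prime_eq_of_commute h hp hq (key hp hP hv.1 hv1) (key hq hQ ha ha1)
    ((show Commute v a from Subgroup.mem_centralizer_singleton_iff.1 hv.2).pow_pow _ _))

theorem prime_pow_dvd_normalizer (h : ∀ g : G, g ≠ 1 → IsPrimePow (orderOf g)) {p q k : ℕ} (hp : p.Prime)
    (hq : q.Prime) (hpq : p ≠ q) {P : Subgroup G} (hP : IsPGroup p P)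
    (hd : q ^ k ∣ Nat.card (Subgroup.normalizer (P : Set G))) : q ^ k ∣ Nat.card P - 1 := by
  haveI := Fact.mk hq
  obtain ⟨Q, hQ⟩ := Sylow.exists_subgroup_card_pow_prime q hd
  have := pred_dvd h hp hq hpq hP ((IsPGroup.of_card hQ).map (Subgroup.normalizer (P : Set G)).subtype)
    (Subgroup.map_subtype_le _)
  rwa [Solv.card_map_subtype, hQ] at this

theorem normalizer_dvd (h : ∀ g : G, g ≠ 1 → IsPrimePow (orderOf g)) {p : ℕ} [Fact p.Prime] (P : Sylow p G) :
    Nat.card (Subgroup.normalizer ((P : Subgroup G) : Set G)) ∣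
      Nat.card (P : Subgroup G) * (Nat.card (P : Subgroup G) - 1) := by
  rw [Nat.dvd_iff_prime_pow_dvd_dvd]
  intro q k hq hd
  by_cases hpq : p = q
  · subst hpq
    refine dvd_mul_of_dvd_left ?_ _
    rw [P.card_eq_multiplicity]
    exact pow_dvd_pow p ((Fact.out : p.Prime).pow_dvd_iff_le_factorization Nat.card_pos.ne' |>.1
      (hd.trans (Subgroup.card_subgroup_dvd_card _)))
  · exact dvd_mul_of_dvd_right (prime_pow_dvd_normalizer h Fact.out hq hpq P.isPGroup' hd) _

theorem factorization_val {p m n : ℕ} (hp : p.Prime) (h1 : p ^ n ∣ m) (h2 : ¬ p ^ (n + 1) ∣ m) (hm : m ≠ 0) :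
    m.factorization p = n := by
  rw [hp.pow_dvd_iff_le_factorization hm] at h1 h2
  omega

/-- Frattini with orders. -/
theorem frattini_card {N : Subgroup G} [N.Normal] {p : ℕ} [Fact p.Prime] (P : Sylow p N) :
    Nat.card (Subgroup.normalizer (((P : Subgroup N).map N.subtype : Subgroup G) : Set G)) =
      N.index * Nat.card (Subgroup.normalizer ((P : Subgroup N) : Set N)) := by
  set S := (P : Subgroup N).map N.subtype with hS
  set B := Subgroup.normalizer (S : Set G) with hB
  have hfr : B ⊔ N = ⊤ := Sylow.normalizer_sup_eq_top P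
  have h1 := Solv.card_map_mk'_mul_card_inf N B
  have htop : B.map (QuotientGroup.mk' N) = ⊤ := by
    rw [eq_top_iff, ← Subgroup.map_top_of_surjective _ (QuotientGroup.mk'_surjective N), ← hfr, Subgroup.map_sup,
      QuotientGroup.map_mk'_self, sup_bot_eq]
  have h2 : B.subgroupOf N = Subgroup.normalizer ((P : Subgroup N) : Set N) := by
    rw [hB, Subgroup.subgroupOf_normalizer_eq (Subgroup.map_subtype_le _)]
    simp only [Subgroup.subgroupOf, Subgroup.comap_map_eq_self_of_injective N.subtype_injective]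
  have h3 : Nat.card (N ⊓ B : Subgroup G) = Nat.card (Subgroup.normalizer ((P : Subgroup N) : Set N)) := by
    rw [← h2, ← Solv.card_map_subtype (B.subgroupOf N), Subgroup.subgroupOf_map_subtype, inf_comm]
  rw [← h1, htop, Subgroup.card_top, h3]
  rfl

theorem ipp_subgroup (h : ∀ g : G, g ≠ 1 → IsPrimePow (orderOf g)) (N : Subgroup G) :
    ∀ g : N, g ≠ 1 → IsPrimePow (orderOf g) := fun g hg => by
  rw [← Subgroup.orderOf_coe]
  exact h g fun e => hg (Subtype.ext e)

/-- A prime outside the order of a normal subgroup divides the number of nontrivial Sylow elements. -/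
theorem new_prime (h : ∀ g : G, g ≠ 1 → IsPrimePow (orderOf g)) {N : Subgroup G} [N.Normal] {r : ℕ} (hr : r.Prime)
    (hd : r ∣ Nat.card G) (hn : ¬ r ∣ Nat.card N) {p : ℕ} [Fact p.Prime] (hpd : p ∣ Nat.card N) (P : Sylow p N) :
    r ∣ Nat.card (P : Subgroup N) - 1 := by
  have hpr : p ≠ r := fun e => hn (e ▸ hpd)
  have hi : r ∣ N.index := (hr.dvd_mul.1 (N.card_mul_index.symm ▸ hd)).resolve_left hn
  have h1 := prime_pow_dvd_normalizer (k := 1) h (Fact.out : p.Prime) hr hpr (P.isPGroup'.map N.subtype)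
    (by rw [frattini_card P, pow_one]; exact dvd_mul_of_dvd_left hi _)
  rwa [pow_one, Solv.card_map_subtype] at h1

theorem primes_three (h : ∀ g : G, g ≠ 1 → IsPrimePow (orderOf g)) {N : Subgroup G} [N.Normal]
    (hc : Nat.card N ∈ ({60, 168, 360, 504, 2448} : Finset ℕ)) :
    (Nat.card G).primeFactors.card ≤ 3 := by
  refine le_trans (Finset.card_le_card (t := (Nat.card N).primeFactors) fun r hr => ?_) ?_
  · have hrp := Nat.prime_of_mem_primeFactors hr
    refine Nat.mem_primeFactors.2 ⟨hrp, ?_, Nat.card_pos.ne'⟩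
    by_contra hn
    haveI : Fact (Nat.Prime 2) := ⟨Nat.prime_two⟩
    haveI : Fact (Nat.Prime 3) := ⟨Nat.prime_three⟩
    obtain ⟨P⟩ : Nonempty (Sylow 2 N) := inferInstance
    obtain ⟨R⟩ : Nonempty (Sylow 3 N) := inferInstance
    simp only [Finset.mem_insert, Finset.mem_singleton] at hc
    have hd2 : 2 ∣ Nat.card N := by rcases hc with e | e | e | e | e <;> rw [e] <;> norm_num
    have hd3 : 3 ∣ Nat.card N := by rcases hc with e | e | e | e | e <;> rw [e] <;> norm_num
    have h2 := new_prime h hrp (Nat.dvd_of_mem_primeFactors hr) hn hd2 P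
    have h3 := new_prime h hrp (Nat.dvd_of_mem_primeFactors hr) hn hd3 R
    rw [P.card_eq_multiplicity] at h2
    rw [R.card_eq_multiplicity] at h3
    have hco : ∀ a b : ℕ, Nat.gcd a b = 1 → r ∣ a → r ∣ b → False := fun a b e ha hb =>
      hrp.not_dvd_one (e ▸ Nat.dvd_gcd ha hb)
    refine hco _ _ ?_ h2 h3
    rcases hc with e | e | e | e | e <;> rw [e]
    · rw [factorization_val (n := 2) Nat.prime_two, factorization_val (n := 1) Nat.prime_three] <;>
        norm_num
    · rw [factorization_val (n := 3) Nat.prime_two, factorization_val (n := 1) Nat.prime_three] <;>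
        norm_num
    · rw [factorization_val (n := 3) Nat.prime_two, factorization_val (n := 2) Nat.prime_three] <;>
        norm_num
    · rw [factorization_val (n := 3) Nat.prime_two, factorization_val (n := 2) Nat.prime_three] <;>
        norm_num
    · rw [factorization_val (n := 4) Nat.prime_two, factorization_val (n := 2) Nat.prime_three] <;>
        norm_num
  · simp only [Finset.mem_insert, Finset.mem_singleton] at hc
    rcases hc with e | e | e | e | e <;> rw [e]
    · exact card_le_three (k := 2) Nat.prime_two Nat.prime_three (show Nat.Prime 5 by norm_num) (by norm_num)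
    · exact card_le_three (k := 3) Nat.prime_two Nat.prime_three (show Nat.Prime 7 by norm_num) (by norm_num)
    · exact card_le_three (k := 3) Nat.prime_two Nat.prime_three (show Nat.Prime 5 by norm_num) (by norm_num)
    · exact card_le_three (k := 3) Nat.prime_two Nat.prime_three (show Nat.Prime 7 by norm_num) (by norm_num)
    · exact card_le_three (k := 4) Nat.prime_two Nat.prime_three (show Nat.Prime 17 by norm_num) (by norm_num)

open _root_.Classical in
/-- Sylow subgroups which are abelian give disjoint nontrivial elements. -/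
theorem sylow_elements (h : ∀ g : G, g ≠ 1 → IsPrimePow (orderOf g)) [Fintype G] {p : ℕ} [Fact p.Prime] {a : ℕ}
    (hcard : ∀ P : Sylow p G, Nat.card (P : Subgroup G) = p ^ a)
    (hcomm : ∀ P : Sylow p G, IsMulCommutative (P : Subgroup G)) :
    Nat.card (Sylow p G) * (p ^ a - 1) ≤
      ((Finset.univ : Finset G).filter fun g => g ≠ 1 ∧ ∃ k, orderOf g = p ^ k).card := by
  haveI := Fintype.ofFinite (Sylow p G)
  have hone : ∀ (P Q : Sylow p G) (x : G), x ∈ (P : Subgroup G) → x ∈ (Q : Subgroup G) → x ≠ 1 → P = Q := by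
    intro P Q x hxP hxQ hx1
    have hdvd : p ∣ orderOf x := by
      obtain ⟨k, hk⟩ := IsPGroup.iff_orderOf.1 P.isPGroup' ⟨x, hxP⟩
      rw [Subgroup.orderOf_mk] at hk
      rw [hk]
      refine dvd_pow_self p fun e => hx1 ?_
      rw [e, pow_zero] at hk
      exact orderOf_eq_one_iff.1 hk
    set y := x ^ (orderOf x / p)
    have hy : orderOf y = p := orderOf_pow_orderOf_div (orderOf_pos x).ne' hdvd
    have hC := isPGroup_centralizer_of_ipp h Fact.out hy
    have hle : ∀ R : Sylow p G, x ∈ (R : Subgroup G) → Subgroup.centralizer ({y} : Set G) = (R : Subgroup G) :=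
      fun R hR => R.is_maximal' hC fun v hv => Subgroup.mem_centralizer_singleton_iff.2 (congrArg Subtype.val
        ((hcomm R).is_comm.comm ⟨v, hv⟩ ⟨y, pow_mem hR _⟩))
    exact Sylow.ext ((hle P hxP).symm.trans (hle Q hxQ))
  have hsum : ∑ P : Sylow p G, ((Finset.univ : Finset G).filter fun g => g ∈ (P : Subgroup G) ∧ g ≠ 1).card =
      Nat.card (Sylow p G) * (p ^ a - 1) := by
    rw [Finset.sum_const_nat (m := p ^ a - 1) fun P _ => ?_, Finset.card_univ, Nat.card_eq_fintype_card]
    rw [← hcard P, ← EPPO.card_ne_one_eq, ← Fintype.card_subtype, ← Nat.card_eq_fintype_card]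
    exact Nat.card_congr
      { toFun := fun g => ⟨⟨g.1, g.2.1⟩, fun e => g.2.2 (congrArg Subtype.val e)⟩
        invFun := fun g => ⟨g.1.1, g.1.2, fun e => g.2 (Subtype.ext e)⟩
        left_inv := fun _ => rfl
        right_inv := fun _ => rfl }
  rw [← hsum, ← Finset.card_biUnion fun P _ Q _ hne => Finset.disjoint_left.2 fun g hg hg' => hne (by
    simp only [Finset.mem_filter, Finset.mem_univ, true_and] at hg hg'
    exact hone P Q g hg.1 hg'.1 hg.2)]
  refine Finset.card_le_card fun g hg => ?_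
  simp only [Finset.mem_biUnion, Finset.mem_filter, Finset.mem_univ, true_and] at hg ⊢
  obtain ⟨P, hgP, hg1⟩ := hg
  obtain ⟨k, hk⟩ := IsPGroup.iff_orderOf.1 P.isPGroup' ⟨g, hgP⟩
  exact ⟨hg1, k, by rw [← Subgroup.orderOf_mk g hgP, hk]⟩

/-- The possible normalizer orders. -/
theorem normalizer_options (h : ∀ g : G, g ≠ 1 → IsPrimePow (orderOf g)) (hc : Nat.card G = 20160) {p : ℕ}
    [Fact p.Prime] {a : ℕ} (h1 : p ^ a ∣ 20160) (h2 : ¬ p ^ (a + 1) ∣ 20160) :
    (∀ P : Sylow p G, Nat.card (P : Subgroup G) = p ^ a) ∧ ∀ P : Sylow p G,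
      p ^ a ∣ Nat.card (Subgroup.normalizer ((P : Subgroup G) : Set G)) ∧
      Nat.card (Subgroup.normalizer ((P : Subgroup G) : Set G)) ∣ p ^ a * (p ^ a - 1) ∧
      Nat.card (Sylow p G) * Nat.card (Subgroup.normalizer ((P : Subgroup G) : Set G)) = 20160 := by
  have hP : ∀ P : Sylow p G, Nat.card (P : Subgroup G) = p ^ a := fun P => by
    rw [P.card_eq_multiplicity, factorization_val (Fact.out : p.Prime) (hc ▸ h1) (hc ▸ h2) Nat.card_pos.ne']
  refine ⟨hP, fun P => ⟨hP P ▸ Subgroup.card_dvd_of_le Subgroup.le_normalizer, hP P ▸ normalizer_dvd h P, ?_⟩⟩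
  rw [P.card_eq_index_normalizer, ← hc, ← (Subgroup.normalizer ((P : Subgroup G) : Set G)).card_mul_index, mul_comm]
  rfl

open _root_.Classical in
/-- The normalizers of the Sylow subgroups for three and seven. -/
theorem l34_normalizers (h : ∀ g : G, g ≠ 1 → IsPrimePow (orderOf g)) (hc : Nat.card G = 20160) :
    (∀ P : Sylow 3 G, Nat.card (P : Subgroup G) = 9 ∧
      Nat.card (Subgroup.normalizer ((P : Subgroup G) : Set G)) = 72) ∧
    (∀ P : Sylow 7 G, Nat.card (P : Subgroup G) = 7 ∧
      Nat.card (Subgroup.normalizer ((P : Subgroup G) : Set G)) = 21) := by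
  haveI : Fact (Nat.Prime 3) := ⟨Nat.prime_three⟩
  haveI : Fact (Nat.Prime 5) := ⟨by norm_num⟩
  haveI : Fact (Nat.Prime 7) := ⟨by norm_num⟩
  haveI := Fintype.ofFinite G
  obtain ⟨hc3, h3⟩ := normalizer_options h hc (p := 3) (a := 2) (by norm_num) (by norm_num)
  obtain ⟨hc5, h5⟩ := normalizer_options h hc (p := 5) (a := 1) (by norm_num) (by norm_num)
  obtain ⟨hc7, h7⟩ := normalizer_options h hc (p := 7) (a := 1) (by norm_num) (by norm_num)
  have m3 := card_sylow_modEq_one 3 G
  have m5 := card_sylow_modEq_one 5 G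
  have m7 := card_sylow_modEq_one 7 G
  unfold Nat.ModEq at m3 m5 m7
  have s7 : ∀ P : Sylow 7 G, Nat.card (Subgroup.normalizer ((P : Subgroup G) : Set G)) = 21 ∧
      Nat.card (Sylow 7 G) = 960 := fun P => by
    obtain ⟨hd, hu, he⟩ := h7 P
    generalize Nat.card (Subgroup.normalizer ((P : Subgroup G) : Set G)) = M at hd hu he ⊢
    norm_num at hd hu
    have hle := Nat.le_of_dvd (by norm_num) hu
    interval_cases M <;> first | omega | norm_num at hu hd
  have s5 : ∀ P : Sylow 5 G, Nat.card (Sylow 5 G) = 2016 := fun P => by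
    obtain ⟨hd, hu, he⟩ := h5 P
    generalize Nat.card (Subgroup.normalizer ((P : Subgroup G) : Set G)) = M at hd hu he ⊢
    norm_num at hd hu
    have hle := Nat.le_of_dvd (by norm_num) hu
    interval_cases M <;> first | omega | norm_num at hu hd
  obtain ⟨P5⟩ : Nonempty (Sylow 5 G) := inferInstance
  obtain ⟨P7⟩ : Nonempty (Sylow 7 G) := inferInstance
  refine ⟨fun P => ⟨(hc3 P).trans (by norm_num), ?_⟩, fun P => ⟨(hc7 P).trans (by norm_num), (s7 P).1⟩⟩
  obtain ⟨hd, hu, he⟩ := h3 P
  have h18 : Nat.card (Subgroup.normalizer ((P : Subgroup G) : Set G)) ≠ 18 := fun e18 => by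
    rw [e18] at he
    have c3 := sylow_elements h hc3 fun Q => IsPGroup.isMulCommutative_of_card_eq_prime_sq (p := 3) (hc3 Q)
    have c5 := sylow_elements h hc5 fun Q => by
      haveI : IsCyclic (Q : Subgroup G) := isCyclic_of_prime_card (p := 5) ((hc5 Q).trans (pow_one 5))
      exact IsCyclic.isMulCommutative
    have c7 := sylow_elements h hc7 fun Q => by
      haveI : IsCyclic (Q : Subgroup G) := isCyclic_of_prime_card (p := 7) ((hc7 Q).trans (pow_one 7))
      exact IsCyclic.isMulCommutative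
    rw [show Nat.card (Sylow 3 G) = 1120 by omega] at c3
    rw [s5 P5] at c5
    rw [(s7 P7).2] at c7
    have hdis : ∀ p q : ℕ, p.Prime → q.Prime → p ≠ q →
        Disjoint ((Finset.univ : Finset G).filter fun g => g ≠ 1 ∧ ∃ k, orderOf g = p ^ k)
          ((Finset.univ : Finset G).filter fun g => g ≠ 1 ∧ ∃ k, orderOf g = q ^ k) := fun p q hp hq hpq =>
      Finset.disjoint_left.2 fun g hg hg' => by
        simp only [Finset.mem_filter, Finset.mem_univ, true_and] at hg hg'
        obtain ⟨k, hk⟩ := hg.2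
        obtain ⟨l, hl⟩ := hg'.2
        have hk0 : k ≠ 0 := fun e => hg.1 (orderOf_eq_one_iff.1 (by rw [hk, e, pow_zero]))
        have hpd : p ∣ q ^ l := hl ▸ hk ▸ dvd_pow_self p hk0
        exact hpq ((Nat.prime_dvd_prime_iff_eq hp hq).1 (hp.dvd_of_dvd_pow hpd))
    have hle' := Finset.card_le_univ (((Finset.univ : Finset G).filter fun g => g ≠ 1 ∧ ∃ k, orderOf g = 3 ^ k) ∪
      ((Finset.univ : Finset G).filter fun g => g ≠ 1 ∧ ∃ k, orderOf g = 5 ^ k) ∪
      ((Finset.univ : Finset G).filter fun g => g ≠ 1 ∧ ∃ k, orderOf g = 7 ^ k))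
    rw [Finset.card_union_of_disjoint (Finset.disjoint_union_left.2 ⟨hdis 3 7 Nat.prime_three Fact.out (by norm_num),
      hdis 5 7 Fact.out Fact.out (by norm_num)⟩),
      Finset.card_union_of_disjoint (hdis 3 5 Nat.prime_three Fact.out (by norm_num)),
      ← Nat.card_eq_fintype_card, hc] at hle'
    omega
  generalize Nat.card (Subgroup.normalizer ((P : Subgroup G) : Set G)) = M at hd hu he h18 ⊢
  norm_num at hd hu
  have hle := Nat.le_of_dvd (by norm_num) hu
  interval_cases M <;> first | omega | norm_num at hu hd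

/-- No proper extension of the group of order 20160 has all orders prime powers. -/
theorem l34_top (h : ∀ g : G, g ≠ 1 → IsPrimePow (orderOf g)) {N : Subgroup G} [N.Normal]
    (hc : Nat.card N = 20160) : N = ⊤ := by
  haveI : Fact (Nat.Prime 3) := ⟨Nat.prime_three⟩
  haveI : Fact (Nat.Prime 7) := ⟨by norm_num⟩
  obtain ⟨h3, h7⟩ := l34_normalizers (ipp_subgroup h N) hc
  by_contra hne
  obtain ⟨r, hr, hrd⟩ := Nat.exists_prime_and_dvd (fun e => hne (Subgroup.index_eq_one.1 e))
  haveI := Fact.mk hr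
  by_cases hr3 : r = 3
  · subst hr3
    obtain ⟨P⟩ : Nonempty (Sylow 7 N) := inferInstance
    have hd : 3 ^ 2 ∣ Nat.card (Subgroup.normalizer (((P : Subgroup N).map N.subtype : Subgroup G) : Set G)) := by
      rw [frattini_card P, (h7 P).2, show 3 ^ 2 = 3 * 3 from rfl]
      exact mul_dvd_mul hrd (by norm_num)
    have := prime_pow_dvd_normalizer h (p := 7) (by norm_num) Nat.prime_three (by norm_num)
      (P.isPGroup'.map N.subtype) hd
    rw [Solv.card_map_subtype, (h7 P).1] at this
    norm_num at this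
  · obtain ⟨P⟩ : Nonempty (Sylow 3 N) := inferInstance
    have h72 : r ^ Nat.factorization 72 r ∣ 72 := Nat.ordProj_dvd 72 r
    have hd : r ^ (Nat.factorization 72 r + 1) ∣
        Nat.card (Subgroup.normalizer (((P : Subgroup N).map N.subtype : Subgroup G) : Set G)) := by
      rw [frattini_card P, (h3 P).2, pow_succ']
      exact mul_dvd_mul hrd h72
    have := prime_pow_dvd_normalizer h (p := 3) Nat.prime_three hr (Ne.symm hr3) (P.isPGroup'.map N.subtype) hd
    rw [Solv.card_map_subtype, (h3 P).1] at this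
    exact Nat.pow_succ_factorization_not_dvd (show (72 : ℕ) ≠ 0 by norm_num) hr (this.trans (by norm_num))

theorem SzSmall.card_eq (hS : SzSmall G) : Nat.card G = 29120 ∨ Nat.card G = 32537600 := by
  obtain ⟨F, iF, iFF, hS⟩ := hS
  rcases hS with ⟨hF, ⟨e⟩⟩ | ⟨hF, ⟨e⟩⟩
  · obtain ⟨e'⟩ := Lie.Suzuki.lie_sz_equiv (m := 1) (F := F) (by rw [hF]; norm_num) le_rfl
    have h1 : Nat.card (Cfsg.Sz F 1) = Nat.card (Cfsg.Lie.Sz F 4) := Nat.card_congr e'.toEquiv
    rw [Nat.card_congr e.toEquiv, ← h1, Lie.Suzuki.card_sz (m := 1) (by rw [hF]; norm_num) le_rfl, hF]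
    norm_num
  · obtain ⟨e'⟩ := Lie.Suzuki.lie_sz_equiv (m := 2) (F := F) (by rw [hF]; norm_num) one_le_two
    have h1 : Nat.card (Cfsg.Sz F 2) = Nat.card (Cfsg.Lie.Sz F 8) := Nat.card_congr e'.toEquiv
    rw [Nat.card_congr e.toEquiv, ← h1, Lie.Suzuki.card_sz (m := 2) (by rw [hF]; norm_num) one_le_two, hF]
    norm_num

theorem SzSmall.four (hS : SzSmall G) : (Nat.card G).primeFactors.card ≤ 4 := by
  rcases hS.card_eq with e | e <;> rw [e]
  · exact card_le_four (k := 6) Nat.prime_two (show Nat.Prime 5 by norm_num) (show Nat.Prime 7 by norm_num)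
      (show Nat.Prime 13 by norm_num) (by norm_num)
  · exact card_le_four (k := 10) Nat.prime_two (show Nat.Prime 5 by norm_num) (show Nat.Prime 31 by norm_num)
      (show Nat.Prime 41 by norm_num) (by norm_num)

theorem not_sz_three (hS : SzSmall G) (h3 : 3 ∣ Nat.card G) : False := by
  rcases hS.card_eq with e | e <;> rw [e] at h3 <;> norm_num at h3

theorem SzSmall.congr {H : Type u} [Group H] (hS : SzSmall G) (e : G ≃* H) : SzSmall H := by
  obtain ⟨F, iF, iFF, hS⟩ := hS
  refine ⟨F, iF, iFF, ?_⟩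
  rcases hS with ⟨hF, ⟨f⟩⟩ | ⟨hF, ⟨f⟩⟩
  · exact Or.inl ⟨hF, ⟨e.symm.trans f⟩⟩
  · exact Or.inr ⟨hF, ⟨e.symm.trans f⟩⟩

theorem simple_card (h : ∀ g : G, g ≠ 1 → IsPrimePow (orderOf g)) [IsSimpleGroup G] (hna : ∃ a b : G, a * b ≠ b * a) :
    Nat.card G ∈ ({60, 168, 360, 504, 2448} : Finset ℕ) ∨ (L34 G ∧ Nat.card G = 20160) ∨ SzSmall G := by
  rcases ipp_simple_cases h hna with ⟨-, hc⟩ | ⟨-, hc⟩ | ⟨F, iF, iFF, hF, ⟨e⟩⟩ | hS
  · exact Or.inl (by simp [hc])
  · simp only [Finset.mem_insert, Finset.mem_singleton] at hc ⊢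
    omega
  · exact Or.inr (Or.inl ⟨⟨F, iF, iFF, hF, ⟨e⟩⟩, by rw [Nat.card_congr e.toEquiv, Spor.PlaneAut.card_psl34 hF]⟩)
  · exact Or.inr (Or.inr hS)

/-- At most four primes divide the order. -/
theorem ipp_four_primes (h : ∀ g : G, g ≠ 1 → IsPrimePow (orderOf g)) :
    (Nat.card G).primeFactors.card ≤ 4 ∧ ((Nat.card G).primeFactors.card = 4 →
      L34 G ∨ ∃ (N : Subgroup G) (_ : N.Normal), IsPGroup 2 N ∧ SzSmall (G ⧸ N)) := by
  classical
  by_cases hsol : Group.IsSolvable G
  · have hle := EPPO.solvable_primes_le_two h (⊤ : Subgroup G) inferInstance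
    rw [Subgroup.card_top] at hle
    omega
  have hC := cit_of_ipp h
  have h2 := even_of_ipp h hsol
  set D := Cfsg.pCore 2 G with hD
  haveI := Solv.pCore_normal (G := G) 2
  by_cases hcore : D = ⊥
  swap
  · obtain ⟨hs, hna, n, T, hB⟩ := hC.top hsol hcore (below_all _)
    haveI := hs
    have hsub : ∀ s : Finset ℕ, (Nat.card (G ⧸ D)).primeFactors ⊆ s → 2 ∈ s → (Nat.card G).primeFactors ⊆ s := by
      intro s hs h2s r hr
      have hrp := Nat.prime_of_mem_primeFactors hr
      have hd : r ∣ Nat.card (G ⧸ D) * Nat.card D := by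
        rw [← D.card_eq_card_quotient_mul_card_subgroup]; exact Nat.dvd_of_mem_primeFactors hr
      rcases hrp.dvd_mul.1 hd with hd | hd
      · exact hs (Nat.mem_primeFactors.2 ⟨hrp, hd, Nat.card_pos.ne'⟩)
      · obtain ⟨k, hk⟩ := IsPGroup.iff_card.1 (Solv.pCore_isPGroup (G := G) 2)
        rw [← hD] at hk
        rw [(Nat.prime_dvd_prime_iff_eq hrp Nat.prime_two).1 (hrp.dvd_of_dvd_pow (hk ▸ hd))]
        exact h2s
    have hsub' := hsub _ subset_rfl (Nat.mem_primeFactors.2 ⟨Nat.prime_two,
      even_of_ipp (EPPO.quotient h D) (not_sol_of_simple hna), Nat.card_pos.ne'⟩)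
    have hle := Finset.card_le_card hsub'
    rcases simple_card (EPPO.quotient h D) hna with hc | ⟨-, hc⟩ | hS
    · have h3 := primes_three (G := G ⧸ D) (EPPO.quotient h D) (N := ⊤) (by rwa [Subgroup.card_top])
      omega
    · exfalso
      -- no such quotient below a core
      rcases hB.kind with ⟨hT, -, -⟩ | ⟨hT, hn, hn1, -⟩
      · have := hB.cardG
        rw [hc, hT] at this
        have hn2 := hB.two_le
        have : 2 ^ n ≤ 32 := by
          by_contra hgt
          have h64 : 64 ≤ 2 ^ n := by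
            have := Nat.pow_le_pow_right (show 0 < 2 by norm_num) (show 6 ≤ n by
              by_contra h5
              have := Nat.pow_le_pow_right (show 0 < 2 by norm_num) (show n ≤ 5 by omega)
              omega)
            omega
          have h65 : (64 + 1) * (64 * (64 - 1)) ≤ (2 ^ n + 1) * (2 ^ n * (2 ^ n - 1)) :=
            Nat.mul_le_mul (by omega) (Nat.mul_le_mul h64 (by omega))
          omega
        have hn5 : n ≤ 5 := (Nat.pow_le_pow_iff_right (by norm_num : 1 < 2)).1 (this.trans (by norm_num))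
        interval_cases n <;> norm_num at *
      · have := hB.cardG
        rw [hc, hT] at this
        have hn3 : n = 3 ∨ 5 ≤ n := by obtain ⟨k, rfl⟩ := hn; omega
        rcases hn3 with rfl | hn5
        · norm_num at this
        · have h32 := Nat.pow_le_pow_right (show 0 < 2 by norm_num) hn5
          have hsq : 32 * 32 ≤ (2 ^ n) ^ 2 := by rw [sq]; exact Nat.mul_le_mul h32 h32
          have h65 : (32 * 32 + 1) * (32 * 32 * (32 - 1)) ≤ ((2 ^ n) ^ 2 + 1) * ((2 ^ n) ^ 2 * (2 ^ n - 1)) :=
            Nat.mul_le_mul (by omega) (Nat.mul_le_mul hsq (by omega))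
          omega
    · have h4 := hS.four
      exact ⟨by omega, fun _ => Or.inr ⟨D, inferInstance, Solv.pCore_isPGroup 2, hS⟩⟩
  haveI : Nontrivial G := by
    by_contra hn
    rw [not_nontrivial_iff_subsingleton] at hn
    exact hsol inferInstance
  obtain ⟨N, hNn, hN1, hmin'⟩ := Solv.exists_minimal_normal (G := G)
  haveI := hNn
  obtain ⟨hs, hna, hN2, -⟩ := hC.minimal_simple hsol h2 hcore hN1
    (fun M hM hM1 hle => (hmin' M hM hle).resolve_left hM1)
  haveI := hs
  rcases simple_card (ipp_subgroup h N) hna with hc | ⟨hL, hc⟩ | hS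
  · have := primes_three h hc
    omega
  · have htop := l34_top h hc
    subst htop
    obtain ⟨F, iF, iFF, hF, ⟨e⟩⟩ := hL
    rw [Subgroup.card_top] at hc
    refine ⟨?_, fun _ => Or.inl ⟨F, iF, iFF, hF, ⟨Subgroup.topEquiv.symm.trans e⟩⟩⟩
    rw [hc]
    exact card_le_four (k := 6) Nat.prime_two Nat.prime_three (show Nat.Prime 5 by norm_num)
      (show Nat.Prime 7 by norm_num) (by norm_num)
  · rcases classify hna (hC.subgroup N) hN2 (below_all _) with hB | hL | ⟨-, F, i1, i2, hF, ⟨e⟩⟩
    · have htop := hC.eq_top_of_bor hB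
      subst htop
      have h4 := hS.four
      rw [Subgroup.card_top] at h4
      exact ⟨h4, fun _ => Or.inr ⟨⊥, inferInstance, IsPGroup.of_bot,
        hS.congr ((Subgroup.topEquiv).trans QuotientGroup.quotientBot.symm)⟩⟩
    all_goals exfalso
    · obtain ⟨F', j1, j2, hF', ⟨e'⟩⟩ := hL
      exact not_sz_three hS (by rw [Nat.card_congr e'.toEquiv, Spor.PlaneAut.card_psl34 hF']; norm_num)
    · have h4 := four_le_card hna e
      refine not_sz_three hS ?_
      have hc := Classical.Dickson.card_psl F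
      rw [← Nat.card_congr e.toEquiv] at hc
      have h3 : 3 ∣ Fintype.card F * (Fintype.card F ^ 2 - 1) := by
        by_cases h0 : 3 ∣ Fintype.card F
        · exact dvd_mul_of_dvd_left h0 _
        · refine dvd_mul_of_dvd_right ?_ _
          have h1 : Fintype.card F ^ 2 % 3 = 1 := by
            rw [Nat.pow_mod]
            rcases (show Fintype.card F % 3 = 1 ∨ Fintype.card F % 3 = 2 by omega) with e3 | e3 <;> rw [e3]
          omega
      rw [← hc] at h3
      refine (Nat.Coprime.dvd_mul_right ?_).1 h3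
      exact Nat.Coprime.coprime_dvd_right (Nat.gcd_dvd_left _ _) (by norm_num)

end Cfsg.Agent.Solv.CITGroups
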