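import Cfsg.Agent.Lib.Solv.CIT.Climb
import Cfsg.Agent.Lib.Solv.CIT.Frame
import Cfsg.Agent.Lib.Solv.CIT.PSLTwoData
import Cfsg.Agent.Lib.Lie.ZassenhausSuzuki.Main
import Cfsg.Agent.Lib.Lie.SuzukiUnique.Main
import Cfsg.Agent.Lib.Char.BSW.Recognise
import Cfsg.Agent.S1167

/-!
Groups in which all local subgroups are controlled: Borel data.
-/

set_option autoImplicit false
set_option linter.style.haveILetI false

namespace Cfsg.Agent.Solv.CITGroups

open Cfsg
open Cfsg.Agent.Fusion.SEPairs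
open Cfsg.Agent.Solv.EPPOSeven (cOf cS cS_ne_bot omegaCen omegaCen_le omegaCen_ne_bot normalizer_le_cOf)

universe u

/-- The data of a Borel subgroup of an even projective special linear group or a Suzuki group. -/
structure BorAt (G : Type u) [Group G] (n : ℕ) (T : Subgroup G) : Prop where
  two_le : 2 ≤ n
  T2 : IsPGroup 2 T
  cent : ∀ t ∈ T, orderOf t = 2 → Subgroup.centralizer ({t} : Set G) ≤ T
  cardN : Nat.card (Subgroup.normalizer (T : Set G)) = Nat.card T * (2 ^ n - 1)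
  cardG : Nat.card G = (Nat.card T + 1) * (Nat.card T * (2 ^ n - 1))
  gen : ∃ k ∈ Subgroup.normalizer (T : Set G), orderOf k = 2 ^ n - 1
  invert : ∀ k ∈ Subgroup.normalizer (T : Set G), Odd (orderOf k) →
    ∃ w, orderOf w = 2 ∧ w ∉ Subgroup.normalizer (T : Set G) ∧ w * k * w⁻¹ = k⁻¹
  kind : (Nat.card T = 2 ^ n ∧ (∀ t ∈ T, t * t = 1) ∧ ∀ w, orderOf w = 2 → w ∉ Subgroup.normalizer (T : Set G) →
      ∃ s ∈ T, s ≠ 1 ∧ w * s * w = s * w * s) ∨
    (Nat.card T = (2 ^ n) ^ 2 ∧ Odd n ∧ 1 < n ∧ ∃ a b : T, a * b ≠ b * a)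
  /-- In the nonabelian case the group is a Suzuki group. -/
  suz : (∃ a b : T, a * b ≠ b * a) → Cfsg.Lie.IsoSuzuki G

/-- Borel data exist. -/
def Bor (G : Type u) [Group G] : Prop := ∃ (n : ℕ) (T : Subgroup G), BorAt G n T

variable {G : Type u} [Group G] [Finite G]

/-- The involutions outside the core are excluded by fusion. -/
theorem frame_of_locals [IsSimpleGroup G] (hna : ∃ a b : G, a * b ≠ b * a) (hC : CIT G) (h : Locals G)
    (T : Sylow 2 G) (hne : (T : Subgroup G) ≠ ⊥) :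
    Frame (Subgroup.normalizer ((T : Subgroup G) : Set G)) (T : Subgroup G) ∧
      ∀ t, orderOf t = 2 → t ∈ Subgroup.normalizer ((T : Subgroup G) : Set G) → t ∈ omegaCen (T : Subgroup G) := by
  classical
  haveI : Fact (Nat.Prime 2) := ⟨Nat.prime_two⟩
  haveI : Nontrivial (T : Subgroup G) := (Subgroup.nontrivial_iff_ne_bot _).2 hne
  set C := cOf (T : Subgroup G) with hCdef
  have hCne : C ≠ ⊥ := fun e =>
    cS_ne_bot T.isPGroup' ((Subgroup.map_eq_bot_iff_of_injective _ (Subgroup.subtype_injective _)).1 e)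
  have hCp : IsPGroup 2 C := T.isPGroup'.to_le (Subgroup.map_subtype_le _)
  have htop : Subgroup.normalizer ((C : Subgroup G) : Set G) ≠ ⊤ := by
    intro e
    haveI : C.Normal := Subgroup.normalizer_eq_top_iff.1 e
    rcases IsSimpleGroup.eq_bot_or_eq_top_of_normal C inferInstance with h0 | h0
    · exact hCne h0
    · have htopT : (T : Subgroup G) = ⊤ := top_le_iff.1 (h0 ▸ Subgroup.map_subtype_le _)
      obtain ⟨k, hk⟩ := IsPGroup.iff_card.1 T.isPGroup'
      rw [htopT, Subgroup.card_top] at hk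
      exact Char.BSW.not_simple_of_solvable hna
        (Char.isSolvable_of_two_primes Nat.prime_two Nat.prime_two (Nat.card G) rfl fun p hp hd =>
          Or.inl ((Nat.prime_dvd_prime_iff_eq hp Nat.prime_two).1 (hp.dvd_of_dvd_pow (hk ▸ hd))))
  set M := Subgroup.normalizer ((C : Subgroup G) : Set G) with hM
  have hse : Cfsg.IsStronglyEmbedded M := h.stronglyEmbedded T hne htop
  have hTM : (T : Subgroup G) ≤ M := Subgroup.le_normalizer.trans (normalizer_le_cOf _)
  set TM : Sylow 2 M := T.subtype hTM with hTMdef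
  have hfus : ∀ a b : G, orderOf a = 2 → orderOf b = 2 → a ∈ M → b ∈ M → ∃ g ∈ M, g * a * g⁻¹ = b := by
    intro a b ha hb haM hbM
    obtain ⟨g, hg⟩ := isConj_iff.1 (involutions_conj hse ha hb)
    have hbx : b • ((1 : G) : G ⧸ M) = (1 : G) := smul_mk_eq_iff.2 (by simpa using hbM)
    have hbg : b • ((g : G) : G ⧸ M) = g := smul_mk_eq_iff.2 (by
      rw [← hg, show g⁻¹ * (g * a * g⁻¹) * g = a by group]; exact haM)
    refine ⟨g, ?_, hg⟩
    have e := fixed_unique hse hb hbx hbg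
    rw [QuotientGroup.eq] at e
    simpa using e
  have hTn : (TM : Subgroup M).Normal := by
    by_contra hn
    obtain ⟨i, hi, hiD⟩ := (hC.subgroup M).exists_invol_outside TM hn
    haveI : (C.subgroupOf M).Normal := ⟨fun n hn g => (Subgroup.mem_normalizer_iff.1 g.2 n).1 hn⟩
    have hle : C.subgroupOf M ≤ Cfsg.pCore 2 M := Solv.normal_le_pCore (hCp.comap_subtype (K := M))
    haveI := Solv.pCore_normal (G := M) 2
    obtain ⟨t, htC, ht⟩ := exists_invol_mem hCp hCne
    have htM : t ∈ M := Subgroup.le_normalizer htC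
    obtain ⟨g, hgM, hg⟩ := hfus t (i : G) ht (by rw [Subgroup.orderOf_coe, hi]) htM i.2
    refine hiD ?_
    have : i = (⟨g, hgM⟩ : M) * (⟨t, htM⟩ : M) * (⟨g, hgM⟩ : M)⁻¹ := Subtype.ext hg.symm
    rw [this]
    exact Subgroup.Normal.conj_mem inferInstance _ (hle htC) _
  have hMN : M = Subgroup.normalizer ((T : Subgroup G) : Set G) := by
    refine le_antisymm ?_ (normalizer_le_cOf _)
    have := Subgroup.le_normalizer_map (H := (TM : Subgroup M)) M.subtype
    rw [Subgroup.normalizer_eq_top, ← MonoidHom.range_eq_map, Subgroup.range_subtype] at this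
    rwa [show ((TM : Subgroup M).map M.subtype) = (T : Subgroup G) from
      Subgroup.map_subgroupOf_eq_of_le hTM] at this
  rw [← hMN]
  have htwo : ∀ g ∈ M, (∃ k, orderOf g = 2 ^ k) → g ∈ (T : Subgroup G) := by
    rintro g hg ⟨k, hk⟩
    haveI := hTn
    haveI := Sylow.unique_of_normal TM hTn
    obtain ⟨Q, hQ⟩ := (IsPGroup.of_card (n := k) (by rw [Nat.card_zpowers, Subgroup.orderOf_mk, hk]) :
      IsPGroup 2 (Subgroup.zpowers (⟨g, hg⟩ : M))).exists_le_sylow
    have h1 := hQ (Subgroup.mem_zpowers _)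
    rw [Subsingleton.elim Q TM] at h1
    exact h1
  obtain ⟨z, hz, hzo⟩ := exists_invol_mem (T.isPGroup'.to_le (omegaCen_le _)) (omegaCen_ne_bot T.isPGroup' hne)
  have hinv : ∀ t, orderOf t = 2 → t ∈ M → t ∈ omegaCen (T : Subgroup G) := by
    intro t ht htM
    obtain ⟨g, hgM, hg⟩ := hfus z t hzo ht (hTM hz.1) htM
    refine ⟨htwo t htM ⟨1, by rw [ht, pow_one]⟩, Subgroup.mem_centralizer_iff.2 fun d hd => ?_,
      (orderOf_two_iff.1 ht).1⟩
    have hgN : g ∈ Subgroup.normalizer ((T : Subgroup G) : Set G) := hMN ▸ hgM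
    have h1 := Subgroup.mem_centralizer_iff.1 hz.2.1 (g⁻¹ * d * g)
      ((Subgroup.mem_normalizer_iff.1 hgN _).2 (by rwa [show g * (g⁻¹ * d * g) * g⁻¹ = d by group]))
    rw [← hg]
    calc d * (g * z * g⁻¹) = g * (g⁻¹ * d * g * z) * g⁻¹ := by group
      _ = g * (z * (g⁻¹ * d * g)) * g⁻¹ := by rw [h1]
      _ = g * z * g⁻¹ * d := by group
  refine ⟨⟨hse, hTM, le_of_eq hMN, fun t ht hto => ?_, fun y hy => ?_, fun y hy d hd hd1 u hu huc => ?_⟩, hinv⟩
  · refine le_antisymm ?_ ?_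
    · rintro g ⟨hgM, hgc⟩
      exact htwo g hgM (hC.two_of_commute hto (Subgroup.mem_centralizer_singleton_iff.1 hgc))
    · exact fun d hd => ⟨hTM hd,
        Subgroup.mem_centralizer_singleton_iff.2 (Subgroup.mem_centralizer_iff.1 (hinv t hto ht).2.1 d hd)⟩
  · obtain ⟨g, rfl⟩ := QuotientGroup.mk_surjective y
    have hgM : g ∉ M := fun hg => hy (by rw [QuotientGroup.eq]; simpa using hg)
    refine (Subgroup.eq_bot_iff_forall _).2 fun d hd => ?_
    have hodd : Odd (orderOf d) := (hse.2.2 g hgM).of_dvd_nat (Subgroup.orderOf_dvd_natCard _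
      ⟨hd.1.1, g⁻¹ * d * g, smul_mk_eq_iff.1 hd.1.2, by
        show g * (g⁻¹ * d * g) * g⁻¹ = d
        group⟩)
    obtain ⟨k, hk⟩ := IsPGroup.iff_orderOf.1 T.isPGroup' ⟨d, hd.2⟩
    rw [Subgroup.orderOf_mk] at hk
    rcases k with _ | k
    · exact orderOf_eq_one_iff.1 (hk.trans (pow_zero 2))
    · exact absurd (hk ▸ hodd) (Nat.not_odd_iff_even.2 ((Nat.even_pow' k.succ_ne_zero).2 even_two))
  · obtain ⟨g, rfl⟩ := QuotientGroup.mk_surjective y
    have hgM : g ∉ M := fun hg => hy (by rw [QuotientGroup.eq]; simpa using hg)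
    have hodd : Odd (orderOf d) := (hse.2.2 g hgM).of_dvd_nat (Subgroup.orderOf_dvd_natCard _
      ⟨hd.1, g⁻¹ * d * g, smul_mk_eq_iff.1 hd.2, by
        show g * (g⁻¹ * d * g) * g⁻¹ = d
        group⟩)
    exact hC.fpf_mem hodd hd1 T.isPGroup' hu huc.symm

/-- Controlled locals give Borel data. -/
theorem bor_of_locals [IsSimpleGroup G] (hna : ∃ a b : G, a * b ≠ b * a) (hC : CIT G) (h2 : 2 ∣ Nat.card G)
    (h : Locals G) : Bor G := by
  classical
  haveI : Fact (Nat.Prime 2) := ⟨Nat.prime_two⟩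
  obtain ⟨T⟩ : Nonempty (Sylow 2 G) := inferInstance
  have hne : (T : Subgroup G) ≠ ⊥ := T.ne_bot_of_dvd_card h2
  obtain ⟨hF, hinv⟩ := frame_of_locals hna hC h T hne
  set M := Subgroup.normalizer ((T : Subgroup G) : Set G) with hM
  set V := omegaCen (T : Subgroup G) with hV
  obtain ⟨hZ, hreg⟩ := hF.zassenhaus
  haveI := Fintype.ofFinite (G ⧸ M)
  set a : G ⧸ M := ((1 : G) : G ⧸ M) with ha
  obtain ⟨b, hba⟩ := exists_ne hF.se a
  have hab : a ≠ b := hba.symm
  have hstab : MulAction.stabilizer G a = M := by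
    ext g
    exact MulAction.mem_stabilizer_iff.trans fix_iff
  have hle : (T : Subgroup G) ≤ MulAction.stabilizer G a := hstab.symm ▸ hF.UM
  obtain ⟨hcard, honly⟩ := Lie.ZassenhausSuzuki.kernel_of_regular ⟨b, hba⟩ (T : Subgroup G) hle hreg
  obtain ⟨n, hn⟩ := IsPGroup.iff_card.1 (T.isPGroup'.to_le (omegaCen_le (T : Subgroup G)))
  have hI : invCount M = 2 ^ n - 1 := by
    rw [← hn, ← EPPO.card_ne_one_eq, invCount]
    refine Nat.card_eq_of_bijective (fun t => (⟨⟨t.1, hinv t.1 t.2.1 (fix_iff.1 t.2.2)⟩, fun e => ?_⟩ :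
      {v : V // v ≠ 1})) ⟨fun s t e => Subtype.ext ?_, fun v => ?_⟩
    · have e' : t.1 = 1 := congrArg Subtype.val e
      have := t.2.1
      rw [e', orderOf_one] at this
      omega
    · exact congrArg (fun w => ((w.1 : V) : G)) e
    · exact ⟨⟨v.1, orderOf_two_iff.2 ⟨v.1.2.2.2, fun e => v.2 (Subtype.ext e)⟩,
        fix_iff.2 (hF.UM v.1.2.1)⟩, Subtype.ext (Subtype.ext rfl)⟩
  have he : Nat.card ↥(MulAction.stabilizer G a ⊓ MulAction.stabilizer G b) = 2 ^ n - 1 := by
    rw [hstab, hF.card_stab hba, hI]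
  have hn0 : n ≠ 0 := fun e => omegaCen_ne_bot T.isPGroup' hne (Subgroup.card_eq_one.1 (by rw [hn, e, pow_zero]))
  have hn2 : 2 ≤ n := by
    by_contra hlt
    have : n = 1 := by omega
    exact hF.invCount_ne_one (by rw [hI, this]; rfl)
  have hodd : Odd (2 ^ n - 1) := by
    refine Nat.Even.sub_odd Nat.one_le_two_pow ?_ odd_one
    exact (Nat.even_pow' hn0).2 even_two
  have hcM : Nat.card M = Nat.card (T : Subgroup G) * (2 ^ n - 1) := by
    rw [hF.card_M hba, hF.card_stab hba, hI, mul_comm]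
  have hΩ : Fintype.card (G ⧸ M) = Nat.card (T : Subgroup G) + 1 := hcard.symm
  obtain ⟨hFS, h2', h3, hfix, -⟩ := id hZ
  haveI := hFS
  obtain ⟨hcyc, -, -⟩ := Lie.ZassenhausOdd.cyclic_inverted h2' h3 hfix hab (he ▸ hodd)
    (Lie.ZassenhausOdd.no_complement h2' hab (he ▸ hodd))
  refine ⟨n, (T : Subgroup G), hn2, T.isPGroup', fun t ht hto => ?_, hcM, ?_, ?_, fun k hk hkodd => ?_, ?_,
    fun hnab => Lie.SuzukiUnique.iso_suzuki hZ hab (T : Subgroup G) hle hcard honly T.isPGroup' hnab⟩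
  · -- the centralizer lies in the point stabilizer
    intro g hg
    have htM : t ∈ M := hF.UM ht
    have hgM : g ∈ M := by
      have e1 : t • a = a := fix_iff.2 htM
      have e2 : t • ((g : G) : G ⧸ M) = g := smul_mk_eq_iff.2 (by
        rw [mul_assoc, show t * g = g * t from (Subgroup.mem_centralizer_singleton_iff.1 hg).symm,
          inv_mul_cancel_left]
        exact htM)
      have e := fixed_unique hF.se hto e1 e2
      rw [ha, QuotientGroup.eq] at e
      simpa using e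
    exact (hF.cent t htM hto).le ⟨hgM, hg⟩
  · have hi : M.index = Nat.card (T : Subgroup G) + 1 := by rw [← hΩ, Subgroup.index, Nat.card_eq_fintype_card]
    rw [← M.card_mul_index, hcM, hi, mul_comm]
  · obtain ⟨⟨k, hk⟩, hko⟩ := IsCyclic.exists_ofOrder_eq_natCard
      (α := ↥(MulAction.stabilizer G a ⊓ MulAction.stabilizer G b))
    rw [Subgroup.orderOf_mk, he] at hko
    exact ⟨k, hstab.le hk.1, hko⟩
  · -- elements of odd order lie in two-point stabilizers
    have hswap : ∀ y, y ≠ a → k ∈ M ⊓ MulAction.stabilizer G y →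
        ∃ w, orderOf w = 2 ∧ w ∉ M ∧ w * k * w⁻¹ = k⁻¹ := by
      intro y hy hky
      have hpos : 0 < Nat.card {i : G // orderOf i = 2 ∧ i • a = y} := by
        rw [card_swappers hF.se (Ne.symm hy)]
        change 0 < invCount M
        rw [← hF.card_stab hy]
        exact Nat.card_pos
      obtain ⟨⟨w, hw, hwy⟩⟩ := (Nat.card_pos_iff.1 hpos).1
      exact ⟨w, hw, fun hwM => hy (hwy.symm.trans (fix_iff.2 hwM)), hF.inverts_base hy hw hwy k hky⟩
    by_cases hk1 : k = 1
    · exact hswap b hba (hk1 ▸ one_mem _)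
    obtain ⟨r, hr, hrk⟩ := Nat.exists_prime_and_dvd (fun e => hk1 (orderOf_eq_one_iff.1 e))
    haveI := Fact.mk hr
    have hr2 : r ≠ 2 := fun e => Nat.not_even_iff_odd.2 hkodd (even_iff_two_dvd.2 (e ▸ hrk))
    set d := k ^ (orderOf k / r) with hd
    have hdo : orderOf d = r := orderOf_pow_orderOf_div (orderOf_pos k).ne' hrk
    have hd1 : d ≠ 1 := fun e => hr.ne_one (by rw [← hdo, e, orderOf_one])
    have hdM : d ∈ M := pow_mem hk _
    obtain ⟨y, hy, hdy⟩ : ∃ y, y ≠ a ∧ d • y = y := by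
      by_contra hno
      push Not at hno
      have hp : IsPGroup r (Subgroup.zpowers d) := IsPGroup.of_card (n := 1) (by rw [Nat.card_zpowers, hdo, pow_one])
      have hm := hp.card_modEq_card_fixedPoints (G ⧸ M)
      have hone : Nat.card (MulAction.fixedPoints (Subgroup.zpowers d) (G ⧸ M)) = 1 := by
        rw [Nat.card_eq_one_iff_unique]
        refine ⟨⟨fun v w => Subtype.ext ?_⟩, ⟨⟨a, fun g => fix_iff.2 (Subgroup.zpowers_le.2 hdM g.2)⟩⟩⟩
        have key : ∀ v : MulAction.fixedPoints (Subgroup.zpowers d) (G ⧸ M), (v : G ⧸ M) = a := fun v => by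
          by_contra hv
          exact hno _ hv (v.2 ⟨d, Subgroup.mem_zpowers d⟩)
        rw [key v, key w]
      rw [hone, Nat.card_eq_fintype_card, hΩ] at hm
      have h1 : r ∣ Nat.card (T : Subgroup G) := by
        have := (Nat.modEq_iff_dvd' (Nat.le_add_left 1 _)).1 hm.symm
        rwa [Nat.add_sub_cancel] at this
      obtain ⟨j, hj⟩ := IsPGroup.iff_card.1 T.isPGroup'
      exact hr2 ((Nat.prime_dvd_prime_iff_eq hr Nat.prime_two).1 (hr.dvd_of_dvd_pow (hj ▸ h1)))
    have hdk : d • (k • y) = k • y := by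
      rw [smul_smul, show d * k = k * d from (Commute.pow_self k _).eq, mul_smul, hdy]
    have hky : k • y ≠ a := fun e => hy (smul_left_cancel k (e.trans (fix_iff.2 hk).symm))
    have hst := hF.stab_eq hy hky hd1 ⟨hdM, hdy⟩ hdk
    exact hswap y hy ⟨hk, hF.two_fixed hy _ hky fun g hg => (hst.ge hg).2⟩
  · rcases Lie.Feit.feit_inequality hZ hab (h := Nat.card (T : Subgroup G)) hΩ he hodd hle hcard honly
      with hsmall | ⟨-, hnab, -⟩
    · left
      obtain ⟨j, hj⟩ := IsPGroup.iff_card.1 T.isPGroup'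
      have hVT : Nat.card V ≤ Nat.card (T : Subgroup G) :=
        Nat.card_le_card_of_injective _ (Subgroup.inclusion_injective (omegaCen_le _))
      have hlt : 2 ^ j < 2 ^ (n + 1) := by
        rw [← hj, pow_succ]
        have := Nat.one_le_two_pow (n := n)
        omega
      have hle' : 2 ^ n ≤ 2 ^ j := by rw [← hj, ← hn]; exact hVT
      have hjn : j = n := by
        have := (Nat.pow_lt_pow_iff_right (by norm_num : 1 < 2)).1 hlt
        have := (Nat.pow_le_pow_iff_right (by norm_num : 1 < 2)).1 hle'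
        omega
      subst hjn
      have hTV : V = (T : Subgroup G) := Subgroup.eq_of_le_of_card_ge (omegaCen_le _) (by rw [hj, hn])
      have hab' : ∀ u ∈ (T : Subgroup G), ∀ u' ∈ (T : Subgroup G), u * u' = u' * u := fun u hu u' hu' =>
        (Subgroup.mem_centralizer_iff.1 (hTV.ge hu').2.1 u hu)
      refine ⟨hj, fun t ht => (hTV.ge ht).2.2, fun w hw hwM => ?_⟩
      obtain ⟨s, ⟨hs, hs1, heq⟩, -⟩ := Cfsg.Agent.S1167.result hZ (a := a) (T : Subgroup G) hle
        (fun g hg u hu => (Subgroup.mem_normalizer_iff.1 (hstab.le hg) u).1 hu) hreg T.isPGroup' hab'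
        w (orderOf_two_iff.1 hw).2 (orderOf_two_iff.1 hw).1 (fun e => hwM (fix_iff.1 e))
      exact ⟨s, hs, hs1, heq⟩
    · right
      obtain ⟨m, hm, hm1, hmΩ, -, hme, -, -⟩ :=
        Lie.ZassenhausSuzuki.suzuki_data hZ hab (T : Subgroup G) hle hcard honly T.isPGroup' hnab
      rw [he] at hme
      have hpow : 2 ^ n = 2 ^ m := by
        have := Nat.one_le_two_pow (n := n)
        have := Nat.one_le_two_pow (n := m)
        omega
      obtain rfl := Nat.pow_right_injective le_rfl hpow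
      rw [Nat.card_eq_fintype_card, hΩ] at hmΩ
      refine ⟨?_, hm, hm1, hnab⟩
      rw [← pow_mul, mul_comm n 2]
      omega

/-- Borel data identify the group up to isomorphism. -/
theorem BorAt.ident_iso [IsSimpleGroup G] {n : ℕ} {T : Subgroup G} (hB : BorAt G n T) :
    (∃ (F : Type) (_ : Field F) (_ : Fintype F), Fintype.card F = 2 ^ n ∧
      Nonempty (G ≃* Matrix.ProjectiveSpecialLinearGroup (Fin 2) F)) ∨
      (Nat.card T = (2 ^ n) ^ 2 ∧ Odd n ∧ 1 < n ∧ Cfsg.Lie.IsoSuzuki G) := by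
  rcases hB.kind with ⟨hT, hsq, -⟩ | ⟨hT, hn, hn1, hnab⟩
  · left
    obtain ⟨k, hk, hko⟩ := hB.gen
    obtain ⟨w, -, -, hw⟩ := hB.invert k hk (by
      rw [hko]
      exact Nat.Even.sub_odd Nat.one_le_two_pow ((Nat.even_pow' (by have := hB.two_le; omega)).2 even_two) odd_one)
    refine iso_of_data hB.two_le
      { S := T, y := k, w := w, four_le := ?_, cardG := ?_, cardS := hT, sq := hsq, cent := ?_, cardN := ?_,
        ordy := hko, memy := hk, inv := hw }
    · calc 4 = 2 ^ 2 := by norm_num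
        _ ≤ 2 ^ n := Nat.pow_le_pow_right two_pos hB.two_le
    · rw [hB.cardG, hT]
    · exact fun s hs hs1 g hg => hB.cent s hs (orderOf_two_iff.2 ⟨hsq s hs, hs1⟩)
        (Subgroup.mem_centralizer_singleton_iff.2 hg)
    · rw [hB.cardN, hT]
  · exact Or.inr ⟨hT, hn, hn1, hB.suz hnab⟩

/-- Borel data identify the group. -/
theorem BorAt.ident [IsSimpleGroup G] {n : ℕ} {T : Subgroup G} (hB : BorAt G n T) :
    (∃ (F : Type) (_ : Field F) (_ : Fintype F), Fintype.card F = 2 ^ n ∧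
      Nonempty (G ≃* Matrix.ProjectiveSpecialLinearGroup (Fin 2) F)) ∨ Cfsg.IsSuzuki G := by
  rcases hB.ident_iso with h | ⟨hT, hn, hn1, -⟩
  · exact Or.inl h
  · right
    refine Lie.ZassenhausSuzuki.isSuzuki_of_data hn hn1 ?_
    rw [hB.cardG, hT]
    ring

end Cfsg.Agent.Solv.CITGroups
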