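import Cfsg.Agent.Lib.Solv.CIT.Invol
import Cfsg.Agent.Lib.Solv.Kulakoff

/-!
Subgroups of odd order act semiregularly on normalized 2-subgroups.
-/

set_option autoImplicit false
set_option linter.style.haveILetI false

namespace Cfsg.Agent.Solv.CITGroups

open Cfsg

universe u

variable {G : Type u} [Group G] [Finite G]

/-- A subgroup of odd order normalizing a 2-subgroup divides the number of its nontrivial elements. -/
theorem CIT.card_dvd_pred (hC : CIT G) {R W : Subgroup G} (hR : Odd (Nat.card R)) (hW : IsPGroup 2 W)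
    (hRW : R ≤ Subgroup.normalizer (W : Set G)) : Nat.card R ∣ Nat.card W - 1 := by
  classical
  rw [← EPPO.card_ne_one_eq]
  let σ : R → {w : W // w ≠ 1} → {w : W // w ≠ 1} := fun r w =>
    ⟨⟨r * (w.1 : G) * (r : G)⁻¹, (Subgroup.mem_normalizer_iff.1 (hRW r.2) _).1 w.1.2⟩, fun e => w.2 (Subtype.ext
      (conj_eq_one_iff.1 (congrArg Subtype.val e)))⟩
  let f : {w : W // w ≠ 1} → Set {w : W // w ≠ 1} := fun w => Set.range fun r => σ r w
  refine dvd_card_of_fibres f fun w => dvd_of_eq ?_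
  have hmem : ∀ r, f (σ r w) = f w := fun r => Set.ext fun v => by
    constructor
    · rintro ⟨s, rfl⟩
      refine ⟨s * r, Subtype.ext (Subtype.ext ?_)⟩
      show ((s * r : R) : G) * (w.1 : G) * ((s * r : R) : G)⁻¹ = (s : G) * (r * (w.1 : G) * (r : G)⁻¹) * (s : G)⁻¹
      push_cast; group
    · rintro ⟨s, rfl⟩
      refine ⟨s * r⁻¹, Subtype.ext (Subtype.ext ?_)⟩
      show ((s * r⁻¹ : R) : G) * (r * (w.1 : G) * (r : G)⁻¹) * ((s * r⁻¹ : R) : G)⁻¹ =
        (s : G) * (w.1 : G) * (s : G)⁻¹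
      push_cast; group
  refine Nat.card_eq_of_bijective (fun r => (⟨σ r w, hmem r⟩ : {v // f v = f w})) ⟨fun r s e => ?_, fun v => ?_⟩
  · have e' : (r : G) * (w.1 : G) * (r : G)⁻¹ = s * (w.1 : G) * (s : G)⁻¹ :=
      congrArg (fun v => ((v.1.1 : W) : G)) e
    have hc : Commute ((s : G)⁻¹ * r) (w.1 : G) := mul_inv_eq_iff_eq_mul.1 (by
      calc (s : G)⁻¹ * r * (w.1 : G) * ((s : G)⁻¹ * r)⁻¹ = (s : G)⁻¹ * ((r : G) * (w.1 : G) * (r : G)⁻¹) * s := by
            group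
        _ = (w.1 : G) := by rw [e']; group)
    by_contra hne
    exact w.2 (Subtype.ext (hC.fpf_mem (hR.of_dvd_nat (Subgroup.orderOf_dvd_natCard R (mul_mem (inv_mem s.2) r.2)))
      (fun e'' => hne (Subtype.ext (inv_mul_eq_one.1 e'').symm)) hW w.1.2 hc))
  · have hv : v.1 ∈ f v.1 := ⟨1, Subtype.ext (Subtype.ext (by simp [σ]))⟩
    rw [v.2] at hv
    obtain ⟨r, hr⟩ := hv
    exact ⟨r, Subtype.ext hr⟩

/-- The odd part of the order of the normalizer divides the number of nontrivial elements. -/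
theorem CIT.odd_dvd_pred (hC : CIT G) {W : Subgroup G} (hW : IsPGroup 2 W) {d : ℕ} (hd : Odd d)
    (hdN : d ∣ Nat.card (Subgroup.normalizer (W : Set G))) : d ∣ Nat.card W - 1 := by
  rw [Nat.dvd_iff_prime_pow_dvd_dvd]
  intro p k hp hpk
  rcases k with _ | k
  · exact one_dvd _
  haveI := Fact.mk hp
  have hp2 : p ≠ 2 := fun e =>
    Nat.not_even_iff_odd.2 hd (even_iff_two_dvd.2 (((dvd_pow_self p k.succ_ne_zero).trans hpk) |> (e ▸ ·)))
  set N := Subgroup.normalizer (W : Set G)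
  obtain ⟨R⟩ : Nonempty (Sylow p N) := inferInstance
  obtain ⟨j, hj⟩ := IsPGroup.iff_card.1 R.isPGroup'
  have h1 : p ^ (k + 1) ∣ Nat.card (R : Subgroup N) := R.pow_dvd_card_of_pow_dvd_card (hpk.trans hdN)
  refine h1.trans ?_
  rw [← Solv.card_map_subtype (R : Subgroup N)]
  refine hC.card_dvd_pred ?_ hW (Subgroup.map_subtype_le _)
  rw [Solv.card_map_subtype, hj]
  exact (hp.odd_of_ne_two hp2).pow

/-- `2 ^ a - 1` divides `2 ^ b - 1` only if `a` divides `b`. -/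
theorem dvd_of_two_pow_pred {a b : ℕ} (h : 2 ^ a - 1 ∣ 2 ^ b - 1) : a ∣ b := by
  have h1 := Nat.pow_sub_one_gcd_pow_sub_one 2 a b
  rw [Nat.gcd_eq_left h] at h1
  have := Nat.one_le_two_pow (n := a)
  have := Nat.one_le_two_pow (n := Nat.gcd a b)
  have h2 : a = Nat.gcd a b := Nat.pow_right_injective le_rfl (show (2 : ℕ) ^ a = 2 ^ Nat.gcd a b by omega)
  exact h2 ▸ Nat.gcd_dvd_right a b

/-- A divisor above the middle of `2 ^ (2 * a) - 1` forces `2 * a ∣ b`. -/
theorem two_mul_dvd_of_succ {a b : ℕ} (ha : a ≠ 0) (h : 2 ^ a + 1 ∣ 2 ^ b - 1) : 2 * a ∣ b := by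
  have h1 : 2 ^ a + 1 ∣ 2 ^ (2 * a) - 1 := ⟨2 ^ a - 1, by rw [← Nat.sq_sub_sq, ← pow_mul, mul_comm a 2, one_pow]⟩
  have h2 := Nat.dvd_gcd h1 h
  rw [Nat.pow_sub_one_gcd_pow_sub_one] at h2
  have hdl := Nat.gcd_dvd_left (2 * a) b
  have hdr := Nat.gcd_dvd_right (2 * a) b
  generalize Nat.gcd (2 * a) b = g at h2 hdl hdr
  obtain ⟨c, hc⟩ := hdl
  have hg0 : g ≠ 0 := fun e => by
    rw [e, zero_mul] at hc
    omega
  have hg : a < g := by
    by_contra hle
    have h3 := Nat.le_of_dvd (by have := Nat.one_lt_two_pow hg0; omega) h2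
    have h4 := Nat.pow_le_pow_right two_pos (not_lt.1 hle)
    have h5 := Nat.one_le_two_pow (n := g)
    omega
  have hc1 : c = 1 := by
    rcases c with _ | _ | c
    · omega
    · rfl
    · exfalso
      have : g * 2 ≤ g * (c + 1 + 1) := Nat.mul_le_mul_left _ (by omega)
      omega
  rw [hc1, mul_one] at hc
  exact hc.symm ▸ hdr

end Cfsg.Agent.Solv.CITGroups
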