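import Cfsg.Agent.Lib.Solv.CIT.Bor
import Cfsg.Agent.Lib.Solv.CIT.Semiregular

/-!
Consequences of Borel data.
-/

set_option autoImplicit false
set_option linter.style.haveILetI false

namespace Cfsg.Agent.Solv.CITGroups

open Cfsg
open Cfsg.Agent.Solv.EPPOSeven (omegaCen omegaCen_le omegaCen_ne_bot omegaCen_comm)

universe u v

variable {G : Type u} [Group G] [Finite G] {n : ℕ} {T : Subgroup G}

theorem BorAt.pred_odd (hB : BorAt G n T) : Odd (2 ^ n - 1) :=
  Nat.Even.sub_odd Nat.one_le_two_pow ((Nat.even_pow' (by have := hB.two_le; omega)).2 even_two) odd_one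

theorem BorAt.card_T_pow (hB : BorAt G n T) : ∃ j, Nat.card T = 2 ^ j ∧ n ≤ j ∧ 0 < j := by
  have := hB.two_le
  rcases hB.kind with ⟨h, -⟩ | ⟨h, -⟩
  · exact ⟨n, h, le_rfl, by omega⟩
  · exact ⟨2 * n, by rw [h, ← pow_mul, mul_comm n 2], by omega, by omega⟩

theorem BorAt.pow_dvd (hB : BorAt G n T) : 2 ^ n - 1 ∣ Nat.card G :=
  hB.cardG ▸ dvd_mul_of_dvd_right (dvd_mul_left _ _) _

theorem BorAt.succ_dvd (hB : BorAt G n T) : Nat.card T + 1 ∣ Nat.card G :=
  hB.cardG ▸ dvd_mul_right _ _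

theorem BorAt.succ_odd (hB : BorAt G n T) : Odd (Nat.card T + 1) := by
  obtain ⟨j, hj, -, hj0⟩ := hB.card_T_pow
  exact hj ▸ ((Nat.even_pow' hj0.ne').2 even_two).add_one

theorem BorAt.factorization_two (hB : BorAt G n T) {j : ℕ} (hj : Nat.card T = 2 ^ j) :
    (Nat.card G).factorization 2 = j := by
  have h1 : ¬ 2 ∣ Nat.card T + 1 := fun e => Nat.not_even_iff_odd.2 hB.succ_odd (even_iff_two_dvd.2 e)
  have h2 : ¬ 2 ∣ 2 ^ n - 1 := fun e => Nat.not_even_iff_odd.2 hB.pred_odd (even_iff_two_dvd.2 e)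
  have h0 : 2 ^ n - 1 ≠ 0 := fun e => h2 (by rw [e]; exact dvd_zero 2)
  rw [hB.cardG, hj, Nat.factorization_mul (by omega) (Nat.mul_ne_zero (pow_ne_zero _ two_ne_zero) h0),
    Nat.factorization_mul (pow_ne_zero _ two_ne_zero) h0,
    Finsupp.add_apply, Finsupp.add_apply, Nat.factorization_pow]
  rw [hj] at h1
  simp [Nat.prime_two.factorization_self, Nat.factorization_eq_zero_of_not_dvd h1,
    Nat.factorization_eq_zero_of_not_dvd h2]

/-- The 2-subgroups are no larger. -/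
theorem BorAt.two_le_T (hB : BorAt G n T) {P : Subgroup G} (hP : IsPGroup 2 P) : Nat.card P ≤ Nat.card T := by
  haveI : Fact (Nat.Prime 2) := ⟨Nat.prime_two⟩
  obtain ⟨S, hS⟩ := hP.exists_le_sylow
  obtain ⟨j, hj, -⟩ := hB.card_T_pow
  refine (Nat.card_le_card_of_injective _ (Subgroup.inclusion_injective hS)).trans (le_of_eq ?_)
  rw [S.card_eq_multiplicity, hB.factorization_two hj, hj]

/-- Abelian 2-subgroups are smaller in the Suzuki case. -/
theorem BorAt.abelian_lt (hB : BorAt G n T) (hna : ∃ a b : T, a * b ≠ b * a) {P : Subgroup G} [IsMulCommutative P]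
    (hP : IsPGroup 2 P) : Nat.card P < Nat.card T := by
  haveI : Fact (Nat.Prime 2) := ⟨Nat.prime_two⟩
  refine lt_of_le_of_ne (hB.two_le_T hP) fun e => ?_
  obtain ⟨j, hj, -⟩ := hB.card_T_pow
  let S : Sylow 2 G := Sylow.ofCard T (by rw [hB.factorization_two hj, hj])
  let S' : Sylow 2 G := Sylow.ofCard P (by rw [hB.factorization_two hj, e, hj])
  obtain ⟨g, hg⟩ := MulAction.exists_smul_eq G S' S
  obtain ⟨⟨a, ha⟩, ⟨b, hb⟩, hab⟩ := hna
  have key : ∀ x ∈ T, g⁻¹ * x * g ∈ P := fun x hx => by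
    have hx' : x ∈ ((g • S' : Sylow 2 G) : Subgroup G) := by rw [hg]; exact hx
    obtain ⟨y, hy, rfl⟩ := hx'
    show g⁻¹ * (g * y * g⁻¹) * g ∈ P
    rwa [show g⁻¹ * (g * y * g⁻¹) * g = y by group]
  have e' : (g⁻¹ * a * g) * (g⁻¹ * b * g) = (g⁻¹ * b * g) * (g⁻¹ * a * g) :=
    congrArg Subtype.val (mul_comm' (⟨_, key a ha⟩ : P) ⟨_, key b hb⟩)
  refine hab (Subtype.ext ?_)
  have := congrArg (fun z => g * z * g⁻¹) e'
  show a * b = b * a
  calc a * b = g * (g⁻¹ * a * g * (g⁻¹ * b * g)) * g⁻¹ := by group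
    _ = g * (g⁻¹ * b * g * (g⁻¹ * a * g)) * g⁻¹ := this
    _ = b * a := by group

/-- The elementary centre of the Borel kernel has `2 ^ n` elements. -/
theorem BorAt.card_omegaCen (hB : BorAt G n T) (hC : CIT G) : Nat.card (omegaCen T) = 2 ^ n := by
  haveI : Fact (Nat.Prime 2) := ⟨Nat.prime_two⟩
  obtain ⟨k, hk, hko⟩ := hB.gen
  obtain ⟨i, hi⟩ := IsPGroup.iff_card.1 (hB.T2.to_le (omegaCen_le T))
  obtain ⟨j, hj, hnj, hj0⟩ := hB.card_T_pow
  have hne : T ≠ ⊥ := fun e => by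
    rw [e, Subgroup.card_bot] at hj
    exact absurd hj.symm (Nat.one_lt_two_pow hj0.ne').ne'
  have hdvd : 2 ^ n - 1 ∣ 2 ^ i - 1 := by
    rw [← hi, ← hko, ← Nat.card_zpowers]
    refine hC.card_dvd_pred (by rw [Nat.card_zpowers, hko]; exact hB.pred_odd) (hB.T2.to_le (omegaCen_le T)) ?_
    rw [Subgroup.zpowers_le]
    refine Subgroup.mem_normalizer_iff.2 fun y => ⟨fun hy => ?_, fun hy => ?_⟩
    · refine ⟨(Subgroup.mem_normalizer_iff.1 hk y).1 hy.1, Subgroup.mem_centralizer_iff.2 fun d hd => ?_, ?_⟩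
      · have h1 := Subgroup.mem_centralizer_iff.1 hy.2.1 (k⁻¹ * d * k)
          ((Subgroup.mem_normalizer_iff.1 hk _).2 (by rwa [show k * (k⁻¹ * d * k) * k⁻¹ = d by group]))
        calc d * (k * y * k⁻¹) = k * (k⁻¹ * d * k * y) * k⁻¹ := by group
          _ = k * (y * (k⁻¹ * d * k)) * k⁻¹ := by rw [h1]
          _ = k * y * k⁻¹ * d := by group
      · rw [show k * y * k⁻¹ * (k * y * k⁻¹) = k * (y * y) * k⁻¹ by group, hy.2.2, mul_one, mul_inv_cancel]
    · refine ⟨(Subgroup.mem_normalizer_iff.1 hk y).2 hy.1, Subgroup.mem_centralizer_iff.2 fun d hd => ?_, ?_⟩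
      · have h1 := Subgroup.mem_centralizer_iff.1 hy.2.1 (k * d * k⁻¹)
          ((Subgroup.mem_normalizer_iff.1 hk _).1 hd)
        calc d * y = k⁻¹ * (k * d * k⁻¹ * (k * y * k⁻¹)) * k := by group
          _ = k⁻¹ * (k * y * k⁻¹ * (k * d * k⁻¹)) * k := by rw [h1]
          _ = y * d := by group
      · calc y * y = k⁻¹ * (k * y * k⁻¹ * (k * y * k⁻¹)) * k := by group
          _ = k⁻¹ * 1 * k := by rw [hy.2.2]
          _ = 1 := by group
  have hni := dvd_of_two_pow_pred hdvd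
  have hi0 : i ≠ 0 := fun e => omegaCen_ne_bot hB.T2 hne (Subgroup.card_eq_one.1 (by rw [hi, e, pow_zero]))
  obtain ⟨c, rfl⟩ := hni
  rw [hi]
  rcases hB.kind with ⟨hT, hsq, -⟩ | ⟨hT, -, -, a, b, hab⟩
  · have hle : Nat.card (omegaCen T) ≤ Nat.card T :=
      Nat.card_le_card_of_injective _ (Subgroup.inclusion_injective (omegaCen_le T))
    rw [hi, hT, Nat.pow_le_pow_iff_right (by norm_num : 1 < 2)] at hle
    rcases c with _ | _ | c
    · simp at hi0
    · rw [zero_add, mul_one]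
    · have : n * 2 ≤ n * (c + 1 + 1) := Nat.mul_le_mul_left _ (by omega)
      have := hB.two_le
      omega
  · have hlt : Nat.card (omegaCen T) < Nat.card T := by
      refine Solv.card_lt_of_lt (lt_of_le_of_ne (omegaCen_le T) fun e => hab (Subtype.ext ?_))
      exact Subgroup.mem_centralizer_iff.1 (e.ge b.2).2.1 a a.2
    rw [hi, hT, ← pow_mul, Nat.pow_lt_pow_iff_right (by norm_num : 1 < 2)] at hlt
    rcases c with _ | _ | c
    · simp at hi0
    · rw [zero_add, mul_one]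
    · have : n * 2 ≤ n * (c + 1 + 1) := Nat.mul_le_mul_left _ (by omega)
      omega

theorem BorAt.map {H : Type v} [Group H] (hB : BorAt G n T) (e : G ≃* H) : BorAt H n (T.map e.toMonoidHom) := by
  have hinj : Function.Injective e.toMonoidHom := e.injective
  have hmem : ∀ x, e x ∈ T.map e.toMonoidHom ↔ x ∈ T := fun x => Subgroup.mem_map_iff_mem hinj
  have hN : Subgroup.normalizer ((T.map e.toMonoidHom : Subgroup H) : Set H) =
      (Subgroup.normalizer (T : Set G)).map e.toMonoidHom :=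
    (Subgroup.map_normalizer_eq_of_bijective (f := e.toMonoidHom) T e.bijective).symm
  have hcT : Nat.card (T.map e.toMonoidHom) = Nat.card T := Subgroup.card_map_of_injective hinj
  have ho : ∀ x, orderOf (e x) = orderOf x := fun x => orderOf_injective e.toMonoidHom hinj x
  refine ⟨hB.two_le, hB.T2.map _, ?_, ?_, ?_, ?_, ?_, ?_, fun hab => ?_⟩
  · rintro _ ⟨t, ht, rfl⟩ hto g hg
    obtain ⟨g, rfl⟩ := e.surjective g
    rw [MulEquiv.coe_toMonoidHom, ho] at hto
    refine (hmem g).2 (hB.cent t ht hto (Subgroup.mem_centralizer_singleton_iff.2 (e.injective ?_)))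
    rw [map_mul, map_mul]
    exact Subgroup.mem_centralizer_singleton_iff.1 hg
  · rw [hN, Subgroup.card_map_of_injective hinj, hB.cardN, hcT]
  · rw [← Nat.card_congr e.toEquiv, hB.cardG, hcT]
  · obtain ⟨k, hk, hko⟩ := hB.gen
    exact ⟨e k, hN.ge ⟨k, hk, rfl⟩, (ho k).trans hko⟩
  · intro k hk hodd
    obtain ⟨k, hk', rfl⟩ := hN.le hk
    rw [MulEquiv.coe_toMonoidHom, ho] at hodd
    obtain ⟨w, hw, hwN, hwk⟩ := hB.invert k hk' hodd
    refine ⟨e w, (ho w).trans hw, fun hm => hwN ?_, ?_⟩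
    · rw [hN] at hm
      exact (Subgroup.mem_map_iff_mem hinj).1 hm
    · show e w * e k * (e w)⁻¹ = (e k)⁻¹
      rw [← map_inv, ← map_inv, ← map_mul, ← map_mul, hwk]
  · rcases hB.kind with ⟨hT, hsq, hstr⟩ | ⟨hT, hn, hn1, a, b, hab⟩
    · refine Or.inl ⟨hcT.trans hT, ?_, ?_⟩
      · rintro _ ⟨t, ht, rfl⟩
        show e t * e t = 1
        rw [← map_mul, hsq t ht, map_one]
      · intro w hw hwN
        obtain ⟨w, rfl⟩ := e.surjective w
        rw [ho] at hw
        obtain ⟨s, hs, hs1, heq⟩ := hstr w hw fun hm => hwN (hN.ge ⟨w, hm, rfl⟩)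
        refine ⟨e s, (hmem s).2 hs, fun h1 => hs1 (e.injective (h1.trans (map_one e).symm)), ?_⟩
        simp only [← map_mul, heq]
    · refine Or.inr ⟨hcT.trans hT, hn, hn1, ⟨e a, (hmem _).2 a.2⟩, ⟨e b, (hmem _).2 b.2⟩, fun h1 => hab ?_⟩
      refine Subtype.ext (e.injective ?_)
      show e ((a : G) * b) = e ((b : G) * a)
      rw [map_mul, map_mul]
      exact congrArg Subtype.val h1
  · obtain ⟨⟨_, x, hx, rfl⟩, ⟨_, y, hy, rfl⟩, hne⟩ := hab
    obtain ⟨F, i1, i2, m, hm, hF, ⟨f⟩⟩ := hB.suz ⟨⟨x, hx⟩, ⟨y, hy⟩, fun h1 => hne (Subtype.ext (by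
      show e x * e y = e y * e x
      rw [← map_mul, ← map_mul]
      exact congrArg e (congrArg Subtype.val h1)))⟩
    exact ⟨F, i1, i2, m, hm, hF, ⟨e.symm.trans f⟩⟩

end Cfsg.Agent.Solv.CITGroups
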