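import Cfsg.Agent.Lib.Solv.CIT.Bor
import Cfsg.Agent.Lib.Lie.SuzukiUnique.Main

/-!
Borel data with nonabelian kernel give a Suzuki group.
-/

set_option autoImplicit false
set_option linter.style.haveILetI false

namespace Cfsg.Agent.Solv.CITGroups

open Cfsg
open scoped Pointwise
open Cfsg.Agent.Solv.EPPOSeven (cOf)

universe u

variable {G : Type u} [Group G] [Finite G]

/-- The kernel is a Sylow subgroup. -/
theorem BorAt.exists_sylow {n : ℕ} {T : Subgroup G} (hB : BorAt G n T) :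
    ∃ S : Sylow 2 G, (S : Subgroup G) = T := by
  haveI : Fact (Nat.Prime 2) := ⟨Nat.prime_two⟩
  obtain ⟨S, hS⟩ := hB.T2.exists_le_sylow
  refine ⟨S, (Subgroup.eq_of_le_of_card_ge hS ?_).symm⟩
  obtain ⟨j, hj⟩ := IsPGroup.iff_card.1 S.isPGroup'
  have hd : Nat.card (S : Subgroup G) ∣ Nat.card G := Subgroup.card_subgroup_dvd_card _
  rw [hB.cardG, hj] at hd
  obtain ⟨i, hi⟩ := IsPGroup.iff_card.1 hB.T2
  have hn0 : n ≠ 0 := by have := hB.two_le; omega
  have hi0 : i ≠ 0 := by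
    intro e
    rcases hB.kind with ⟨h, -⟩ | ⟨h, -⟩ <;> rw [hi, e, pow_zero] at h
    · exact absurd h.symm (Nat.one_lt_two_pow hn0).ne'
    · exact absurd h.symm (Nat.one_lt_pow two_ne_zero (Nat.one_lt_two_pow hn0)).ne'
  rw [hi] at hd ⊢
  have hodd1 : Odd (2 ^ i + 1) := ((Nat.even_pow' hi0).2 even_two).add_one
  have hodd2 : Odd (2 ^ n - 1) :=
    Nat.Even.sub_odd Nat.one_le_two_pow ((Nat.even_pow' hn0).2 even_two) odd_one
  have hco : (2 ^ j).Coprime ((2 ^ i + 1) * (2 ^ n - 1)) :=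
    Nat.Coprime.pow_left _ (Nat.coprime_two_left.2 (hodd1.mul hodd2))
  rw [show (2 ^ i + 1) * (2 ^ i * (2 ^ n - 1)) = (2 ^ i + 1) * (2 ^ n - 1) * 2 ^ i by ring] at hd
  rw [hj]
  exact Nat.le_of_dvd (by positivity) (hco.dvd_of_dvd_mul_left hd)

/-- Borel data control the local subgroups. -/
theorem BorAt.locals {n : ℕ} {T : Subgroup G} (hB : BorAt G n T) : Locals G := by
  classical
  haveI : Fact (Nat.Prime 2) := ⟨Nat.prime_two⟩
  obtain ⟨S, hS⟩ := hB.exists_sylow
  have hcent : ∀ (P : Sylow 2 G), ∀ t ∈ (P : Subgroup G), orderOf t = 2 →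
      Subgroup.centralizer ({t} : Set G) ≤ (P : Subgroup G) := by
    intro P t ht hto
    obtain ⟨g, rfl⟩ := MulAction.exists_smul_eq G S P
    rw [Sylow.coe_subgroup_smul, hS] at ht ⊢
    obtain ⟨t', ht', e⟩ := Subgroup.mem_smul_pointwise_iff_exists _ _ _ |>.1 ht
    intro y hy
    refine Subgroup.mem_pointwise_smul_iff_inv_smul_mem.2 (hB.cent t' ht' ?_ ?_)
    · rw [← hto, ← e]
      exact (orderOf_injective (MulAut.conj g).toMonoidHom (MulAut.conj g).injective t').symm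
    · refine Subgroup.mem_centralizer_singleton_iff.2 ?_
      have h1 := congrArg (fun v => g⁻¹ * v * g) (Subgroup.mem_centralizer_singleton_iff.1 hy)
      simpa [← e, MulAut.smul_def, mul_assoc] using h1
  have hTI : ∀ P Q : Sylow 2 G, ∀ t ∈ (P : Subgroup G), t ∈ (Q : Subgroup G) → orderOf t = 2 → P = Q := by
    intro P Q t htP htQ hto
    have hP1 : (P : Subgroup G) ≠ ⊥ := fun e => by
      rw [e, Subgroup.mem_bot] at htP
      rw [htP, orderOf_one] at hto
      omega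
    haveI : Nontrivial (P : Subgroup G) := (Subgroup.nontrivial_iff_ne_bot _).2 hP1
    haveI := IsPGroup.center_nontrivial P.isPGroup'
    obtain ⟨z₀, hz₀⟩ := exists_prime_orderOf_dvd_card' (G := Subgroup.center (P : Subgroup G)) 2 (by
      obtain ⟨k, hk0, hk⟩ := (P.isPGroup'.to_subgroup (Subgroup.center (P : Subgroup G))).nontrivial_iff_card.1 inferInstance
      exact hk ▸ dvd_pow_self 2 hk0.ne')
    set z : G := ((z₀ : (P : Subgroup G)) : G)
    have hzo : orderOf z = 2 := by rw [Subgroup.orderOf_coe, Subgroup.orderOf_coe, hz₀]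
    have hzc : ∀ y ∈ (P : Subgroup G), y * z = z * y := fun y hy =>
      congrArg Subtype.val (Subgroup.mem_center_iff.1 z₀.2 ⟨y, hy⟩)
    have hzQ : z ∈ (Q : Subgroup G) :=
      hcent Q t htQ hto (Subgroup.mem_centralizer_singleton_iff.2 (hzc t htP).symm)
    have hle : (P : Subgroup G) ≤ (Q : Subgroup G) := fun y hy =>
      hcent Q z hzQ hzo (Subgroup.mem_centralizer_singleton_iff.2 (hzc y hy))
    exact Sylow.ext (P.is_maximal' Q.isPGroup' hle).symm
  intro X hX hX2 P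
  refine Or.inl ?_
  obtain ⟨t, htX, ht⟩ := exists_invol_mem hX2 hX
  revert P
  generalize hR : Subgroup.normalizer (X : Set G) = R
  intro P
  obtain ⟨P₀, hP₀⟩ := hX2.exists_le_sylow
  have hRP : R ≤ Subgroup.normalizer ((P₀ : Subgroup G) : Set G) := by
    intro g hg
    rw [← hR] at hg
    refine Sylow.smul_eq_iff_mem_normalizer.1 ?_
    refine hTI _ _ (g * t * g⁻¹) ?_ (hP₀ ((Subgroup.mem_normalizer_iff.1 hg t).1 htX))
      (by
        show orderOf (g * t * g⁻¹) = 2
        rw [← ht]; exact orderOf_injective (MulAut.conj g).toMonoidHom (MulAut.conj g).injective t)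
    rw [Sylow.coe_subgroup_smul]
    exact Subgroup.smul_mem_pointwise_smul _ (MulAut.conj g) _ (hP₀ htX)
  set W := (P : Subgroup R).map R.subtype with hW
  have hWle : W ≤ (P₀ : Subgroup G) := by
    have hWR : W ≤ R := Subgroup.map_subtype_le _
    have hp : IsPGroup 2 ↥(W ⊔ (P₀ : Subgroup G)) :=
      IsPGroup.to_sup_of_normal_right' (P.isPGroup'.map _) P₀.isPGroup' (hWR.trans hRP)
    exact le_sup_left.trans (P₀.is_maximal' hp le_sup_right).le
  have hWeq : W = R ⊓ (P₀ : Subgroup G) := by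
    refine le_antisymm (le_inf (Subgroup.map_subtype_le _) hWle) fun x hx => ?_
    have h1 := P.is_maximal' (Q := (P₀ : Subgroup G).comap R.subtype) (P₀.isPGroup'.comap_subtype)
      (fun y hy => hWle ⟨y, hy, rfl⟩)
    exact ⟨⟨x, hx.1⟩, h1.le hx.2, rfl⟩
  intro g hg
  rw [hWeq, Subgroup.mem_normalizer_iff]
  intro y
  constructor
  · exact fun hy => ⟨R.mul_mem (R.mul_mem hg hy.1) (R.inv_mem hg), (Subgroup.mem_normalizer_iff.1 (hRP hg) y).1 hy.2⟩
  · intro hy
    refine ⟨?_, (Subgroup.mem_normalizer_iff.1 (hRP hg) y).2 hy.2⟩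
    have h1 := R.mul_mem (R.mul_mem (R.inv_mem hg) hy.1) hg
    rwa [show g⁻¹ * (g * y * g⁻¹) * g = y by group] at h1

/-- Nonabelian Borel data give a Suzuki group. -/
theorem BorAt.isoSuzuki [IsSimpleGroup G] {n : ℕ} {T : Subgroup G} (hB : BorAt G n T) (hC : CIT G)
    (hna : ∃ a b : T, a * b ≠ b * a) : Cfsg.Lie.IsoSuzuki G := by
  classical
  obtain ⟨S, hS⟩ := hB.exists_sylow
  subst hS
  obtain ⟨a, b, hab⟩ := hna
  have hG : ∃ a b : G, a * b ≠ b * a := ⟨a, b, fun e => hab (Subtype.ext e)⟩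
  have hne : (S : Subgroup G) ≠ ⊥ := fun e => by
    have ha := a.2
    have hb := b.2
    simp only [e, Subgroup.mem_bot] at ha hb
    exact hab (Subtype.ext (by simp [ha, hb]))
  obtain ⟨hF, -⟩ := frame_of_locals hG hC hB.locals S hne
  obtain ⟨hZ, hreg⟩ := hF.zassenhaus
  haveI := Fintype.ofFinite (G ⧸ Subgroup.normalizer ((S : Subgroup G) : Set G))
  set M := Subgroup.normalizer ((S : Subgroup G) : Set G)
  obtain ⟨y, hy⟩ := Fusion.SEPairs.exists_ne hF.se ((1 : G) : G ⧸ M)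
  have hstab : MulAction.stabilizer G ((1 : G) : G ⧸ M) = M := by
    ext g
    exact MulAction.mem_stabilizer_iff.trans fix_iff
  have hle : (S : Subgroup G) ≤ MulAction.stabilizer G ((1 : G) : G ⧸ M) := hstab.symm ▸ hF.UM
  obtain ⟨hcard, honly⟩ := Lie.ZassenhausSuzuki.kernel_of_regular ⟨y, hy⟩ (S : Subgroup G) hle hreg
  haveI := hZ.1
  exact Lie.SuzukiUnique.iso_suzuki hZ (Ne.symm hy) (S : Subgroup G) hle hcard honly S.isPGroup' ⟨a, b, hab⟩

end Cfsg.Agent.Solv.CITGroups
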