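import Cfsg.Agent.Lib.Solv.CIT.Frame
import Cfsg.Agent.Lib.Solv.CIT.Basic
import Cfsg.Agent.Lib.Local.TypePBasic
import Cfsg.Agent.Lib.Fusion.AbelianHall
import Cfsg.Agent.S0346

/-!
In a simple group with nilpotent centralizers the centralizers of involutions are 2-groups.
-/

set_option autoImplicit false
set_option linter.style.haveILetI false
set_option linter.unusedSectionVars false

namespace Cfsg.Agent.Solv.CITGroups

open Cfsg
open Cfsg.Agent.Fusion.SEPairs

universe u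

variable {G : Type u} [Group G] [Finite G]

theorem nilpotent_odd_two {H : Subgroup G} (hH : Group.IsNilpotent H) {x y : G} (hx : x ∈ H) (hy : y ∈ H)
    (hxo : Odd (orderOf x)) {k : ℕ} (hyo : orderOf y = 2 ^ k) : Commute x y := by
  haveI := hH
  have h := TypePBasic.commute_of_coprime (F := H) (x := ⟨x, hx⟩) (y := ⟨y, hy⟩) (by
    rw [Subgroup.orderOf_mk, Subgroup.orderOf_mk, hyo]
    exact (Nat.coprime_two_right.2 hxo).pow_right k)
  exact congrArg Subtype.val h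

theorem nilpotent_odd_mul {H : Subgroup G} (hH : Group.IsNilpotent H) {x y : G} (hx : x ∈ H) (hy : y ∈ H)
    (hxo : Odd (orderOf x)) (hyo : Odd (orderOf y)) : Odd (orderOf (x * y)) := by
  haveI : Fact (Nat.Prime 2) := ⟨Nat.prime_two⟩
  haveI := hH
  obtain ⟨P, N, hN, hc⟩ := Fusion.hnpc_of_isNilpotent (G := H) (p := 2)
  haveI := hN
  have hNo : Odd (Nat.card N) := by
    rw [← Nat.not_even_iff_odd, even_iff_two_dvd]
    intro hd
    have e := hc.card_mul
    have e2 := (P : Subgroup H).card_mul_index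
    rw [← e, mul_comm (Nat.card N)] at e2
    rw [← Nat.eq_of_mul_eq_mul_left Nat.card_pos e2] at hd
    exact P.not_dvd_index hd
  have key : ∀ v : H, Odd (orderOf v) → v ∈ N := by
    intro v hv
    obtain ⟨i, hi⟩ := IsPGroup.iff_card.1 P.isPGroup'
    have h1 : orderOf (QuotientGroup.mk' N v) ∣ 2 ^ i := by
      rw [← hi, ← hc.symm.index_eq_card, Subgroup.index_eq_card]
      exact orderOf_dvd_natCard _
    have h2 : orderOf (QuotientGroup.mk' N v) ∣ orderOf v := orderOf_map_dvd _ _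
    exact (QuotientGroup.eq_one_iff v).1 (orderOf_eq_one_iff.1
      (Nat.eq_one_of_dvd_coprimes (Nat.Coprime.pow_left i (Nat.coprime_two_left.2 hv)) h1 h2))
  have h := Subgroup.orderOf_dvd_natCard N
    (mul_mem (key ⟨x, hx⟩ (by rwa [Subgroup.orderOf_mk])) (key ⟨y, hy⟩ (by rwa [Subgroup.orderOf_mk])))
  rw [← Subgroup.orderOf_coe] at h
  exact hNo.of_dvd_nat h

/-- Parts of an element. -/
theorem exists_parts (g : G) : ∃ (a b : G) (k : ℕ), g = a * b ∧ a ∈ Subgroup.zpowers g ∧ b ∈ Subgroup.zpowers g ∧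
    orderOf a = 2 ^ k ∧ Odd (orderOf b) := by
  obtain ⟨k, o, ho, hn⟩ := Nat.exists_eq_pow_mul_and_not_dvd (orderOf_pos g).ne' 2 (by norm_num)
  have hodd : Odd o := Nat.not_even_iff_odd.1 fun e => ho (even_iff_two_dvd.1 e)
  have hcop : Nat.Coprime (2 ^ k) o := Nat.Coprime.pow_left k (Nat.coprime_two_left.2 hodd)
  have hb := Nat.gcd_eq_gcd_ab (2 ^ k) o
  rw [hcop.gcd_eq_one] at hb
  set i := Nat.gcdA (2 ^ k) o
  set j := Nat.gcdB (2 ^ k) o
  have h1 : (g ^ ((o : ℤ) * j)) ^ (2 ^ k) = 1 := by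
    rw [← zpow_natCast, ← zpow_mul, show (o : ℤ) * j * ((2 ^ k : ℕ) : ℤ) = ((2 ^ k * o : ℕ) : ℤ) * j by
      push_cast; ring, zpow_mul, zpow_natCast, ← hn, pow_orderOf_eq_one, one_zpow]
  have h2 : (g ^ (((2 ^ k : ℕ) : ℤ) * i)) ^ o = 1 := by
    rw [← zpow_natCast, ← zpow_mul, show ((2 ^ k : ℕ) : ℤ) * i * (o : ℤ) = ((2 ^ k * o : ℕ) : ℤ) * i by
      push_cast; ring, zpow_mul, zpow_natCast, ← hn, pow_orderOf_eq_one, one_zpow]
  obtain ⟨m, -, hm⟩ := (Nat.dvd_prime_pow Nat.prime_two).1 (orderOf_dvd_of_pow_eq_one h1)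
  refine ⟨_, _, m, ?_, Subgroup.zpow_mem _ (Subgroup.mem_zpowers g) _, Subgroup.zpow_mem _ (Subgroup.mem_zpowers g) _,
    hm, hodd.of_dvd_nat (orderOf_dvd_of_pow_eq_one h2)⟩
  rw [← zpow_add, add_comm, ← hb, Nat.cast_one, zpow_one]

/-- Simple groups with nilpotent centralizers have 2-group centralizers of involutions. -/
theorem cit_of_cn [IsSimpleGroup G] (hna : ∃ a b : G, a * b ≠ b * a) (hCN : Cfsg.IsCNGroup G) : CIT G := by
  classical
  haveI : Fact (Nat.Prime 2) := ⟨Nat.prime_two⟩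
  intro t ht
  by_contra hnot
  have ht1 : t ≠ 1 := (orderOf_two_iff.1 ht).2
  have hnil : ∀ {s : G}, s ≠ 1 → Group.IsNilpotent (Subgroup.centralizer ({s} : Set G)) := fun hs => hCN _ hs
  have memC : ∀ {x s : G}, Commute x s → x ∈ Subgroup.centralizer ({s} : Set G) :=
    fun h => Subgroup.mem_centralizer_singleton_iff.2 h.eq
  -- the odd part of the centralizer
  let O : Subgroup G :=
    { carrier := {x | Commute x t ∧ Odd (orderOf x)}
      one_mem' := ⟨Commute.one_left t, by rw [orderOf_one]; exact odd_one⟩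
      mul_mem' := fun {x y} hx hy => ⟨hx.1.mul_left hy.1,
        nilpotent_odd_mul (hnil ht1) (memC hx.1) (memC hy.1) hx.2 hy.2⟩
      inv_mem' := fun {x} hx => ⟨hx.1.inv_left, by rw [orderOf_inv]; exact hx.2⟩ }
  obtain ⟨a₀, ha₀, ha₀1⟩ : ∃ a ∈ O, a ≠ 1 := by
    by_contra hno
    push Not at hno
    refine hnot (IsPGroup.iff_orderOf.2 fun g => ?_)
    obtain ⟨a, b, k, he, haz, hbz, hao, hbo⟩ := exists_parts (g : G)
    have hgt : Commute (g : G) t := Subgroup.mem_centralizer_singleton_iff.1 g.2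
    obtain ⟨i, hi⟩ := Subgroup.mem_zpowers_iff.1 hbz
    have hb1 := hno b ⟨hi ▸ hgt.zpow_left i, hbo⟩
    exact ⟨k, by rw [← Subgroup.orderOf_coe, he, hb1, mul_one, hao]⟩
  -- its centralizer
  set L := Subgroup.centralizer (O : Set G) with hL
  have hLnil : Group.IsNilpotent L := by
    have hle : L ≤ Subgroup.centralizer ({a₀} : Set G) := fun x hx =>
      memC (show Commute x a₀ from (Subgroup.mem_centralizer_iff.1 hx a₀ ha₀).symm)
    haveI := hnil ha₀1
    exact Group.nilpotent_of_mulEquiv (Subgroup.subgroupOfEquivOfLe hle)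
  obtain ⟨SL⟩ : Nonempty (Sylow 2 L) := inferInstance
  set T₁ := (SL : Subgroup L).map L.subtype with hT₁
  have hT₁2 : IsPGroup 2 T₁ := SL.isPGroup'.map _
  have hT₁L : T₁ ≤ L := Subgroup.map_subtype_le _
  have hinT : ∀ y ∈ L, ∀ k, orderOf y = 2 ^ k → y ∈ T₁ := by
    intro y hy k hk
    haveI := hLnil
    haveI hn : (SL : Subgroup L).Normal :=
      ((Group.isNilpotent_of_finite_tfae (G := L)).out 0 3
        (a := Group.IsNilpotent L)
        (b := ∀ (q : ℕ) (_ : Fact q.Prime) (R : Sylow q L), (R : Subgroup L).Normal)).1 ‹_› 2 ‹_› SL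
    haveI := Sylow.unique_of_normal SL hn
    obtain ⟨Q, hQ⟩ := (IsPGroup.of_card (n := k) (by rw [Nat.card_zpowers, Subgroup.orderOf_mk, hk]) :
      IsPGroup 2 (Subgroup.zpowers (⟨y, hy⟩ : L))).exists_le_sylow
    have h1 := hQ (Subgroup.mem_zpowers _)
    rw [Subsingleton.elim Q SL] at h1
    exact ⟨_, h1, rfl⟩
  have htT : t ∈ T₁ := hinT t (Subgroup.mem_centralizer_iff.2 fun x hx => hx.1.eq) 1 (by rw [ht, pow_one])
  have hOT : ∀ x ∈ O, ∀ s ∈ T₁, Commute x s := fun x hx s hs => Subgroup.mem_centralizer_iff.1 (hT₁L hs) x hx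
  have hT₁ord : ∀ s ∈ T₁, ∃ k, orderOf s = 2 ^ k := fun s hs => by
    obtain ⟨k, hk⟩ := IsPGroup.iff_orderOf.1 hT₁2 ⟨s, hs⟩
    exact ⟨k, by rwa [Subgroup.orderOf_mk] at hk⟩
  have htwoC : ∀ s ∈ T₁, s ≠ 1 → ∀ y, Commute y s → ∀ k, orderOf y = 2 ^ k → y ∈ T₁ := by
    intro s hs hs1 y hy k hk
    refine hinT y (Subgroup.mem_centralizer_iff.2 fun x hx => ?_) k hk
    exact nilpotent_odd_two (hnil hs1) (memC (hOT x hx s hs)) (memC hy) hx.2 hk
  obtain ⟨T, hT⟩ := hT₁2.exists_le_sylow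
  haveI : Nontrivial (T : Subgroup G) := ⟨⟨⟨t, hT htT⟩, 1, fun e => ht1 (congrArg Subtype.val e)⟩⟩
  haveI := T.isPGroup'.center_nontrivial
  obtain ⟨n, hn0, hn⟩ := (T.isPGroup'.to_subgroup (Subgroup.center (T : Subgroup G))).nontrivial_iff_card.1
    inferInstance
  obtain ⟨z₀, hz₀⟩ := exists_prime_orderOf_dvd_card' (G := Subgroup.center (T : Subgroup G)) 2
    (hn ▸ dvd_pow_self 2 hn0.ne')
  set z : G := ((z₀ : (T : Subgroup G)) : G) with hzdef
  have hzo : orderOf z = 2 := by rw [hzdef, Subgroup.orderOf_coe, Subgroup.orderOf_coe, hz₀]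
  have hz1 : z ≠ 1 := (orderOf_two_iff.1 hzo).2
  have hzT : ∀ s ∈ (T : Subgroup G), Commute s z := fun s hs =>
    congrArg Subtype.val (Subgroup.mem_center_iff.1 z₀.2 ⟨s, hs⟩)
  have hzT₁ : z ∈ T₁ := htwoC t htT ht1 z (hzT t (hT htT)).symm 1 (by rw [hzo, pow_one])
  have hTeq : (T : Subgroup G) = T₁ := le_antisymm (fun y hy => by
    obtain ⟨k, hk⟩ := IsPGroup.iff_orderOf.1 T.isPGroup' ⟨y, hy⟩
    rw [Subgroup.orderOf_mk] at hk
    exact htwoC z hzT₁ hz1 y (hzT y hy) k hk) hT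
  have hzz : ∀ s ∈ T₁, Commute s z := fun s hs => hzT s (hT hs)
  -- odd elements of centralizers
  have hodd : ∀ s ∈ T₁, s ≠ 1 → ∀ x, Commute x s → Odd (orderOf x) → x ∈ O := by
    intro s hs hs1 x hx hxo
    have h1 : Commute x z := nilpotent_odd_two (hnil hs1) (memC hx) (memC (hzz s hs).symm) hxo
      (k := 1) (by rw [hzo, pow_one])
    exact ⟨nilpotent_odd_two (hnil hz1) (memC h1) (memC (hzz t htT)) hxo (k := 1) (by rw [ht, pow_one]), hxo⟩
  -- the product
  let U : Subgroup G :=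
    { carrier := {g | ∃ s ∈ T₁, ∃ x ∈ O, s * x = g}
      one_mem' := ⟨1, one_mem _, 1, one_mem _, mul_one 1⟩
      mul_mem' := by
        rintro _ _ ⟨s, hs, x, hx, rfl⟩ ⟨s', hs', x', hx', rfl⟩
        exact ⟨s * s', mul_mem hs hs', x * x', mul_mem hx hx', by
          rw [show s * x * (s' * x') = s * (x * s') * x' by group, (hOT x hx s' hs').eq]; group⟩
      inv_mem' := by
        rintro _ ⟨s, hs, x, hx, rfl⟩
        exact ⟨s⁻¹, inv_mem hs, x⁻¹, inv_mem hx, by
          rw [mul_inv_rev, ((hOT x hx s hs).inv_inv).eq]⟩ }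
  have hCs : ∀ s ∈ T₁, s ≠ 1 → ∀ g, Commute g s → g ∈ U := by
    intro s hs hs1 g hg
    obtain ⟨a, b, k, he, haz, hbz, hao, hbo⟩ := exists_parts g
    obtain ⟨i, rfl⟩ := Subgroup.mem_zpowers_iff.1 haz
    obtain ⟨j, rfl⟩ := Subgroup.mem_zpowers_iff.1 hbz
    exact ⟨_, htwoC s hs hs1 _ (hg.zpow_left i) k hao, _, hodd s hs hs1 _ (hg.zpow_left j) hbo, he.symm⟩
  have hOU : O ≤ U := fun x hx => ⟨1, one_mem _, x, hx, one_mul x⟩
  have hTU : T₁ ≤ U := fun s hs => ⟨s, hs, 1, one_mem _, mul_one s⟩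
  have hUodd : ∀ g ∈ U, Odd (orderOf g) → g ∈ O := by
    rintro _ ⟨s, hs, x, hx, rfl⟩ ho
    obtain ⟨k, hk⟩ := hT₁ord s hs
    have hc : Commute s x := (hOT x hx s hs).symm
    have h1 := hc.orderOf_mul_eq_mul_orderOf_of_coprime (by
      rw [hk]; exact Nat.Coprime.pow_left k (Nat.coprime_two_left.2 hx.2))
    rw [h1, hk] at ho
    rcases k with _ | k
    · rw [pow_zero, orderOf_eq_one_iff] at hk
      rwa [hk, one_mul]
    · exact absurd ho (Nat.not_odd_iff_even.2 (((Nat.even_pow' k.succ_ne_zero).2 even_two).mul_right _))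
  set M := Subgroup.normalizer (T₁ : Set G) with hM
  have hconjo : ∀ g x : G, orderOf (g * x * g⁻¹) = orderOf x := fun g x => by
    rw [show g * x * g⁻¹ = (MulAut.conj g).toMonoidHom x by simp, orderOf_injective _ (MulAut.conj g).injective]
  have hconjc : ∀ g {x y : G}, Commute x y → Commute (g * x * g⁻¹) (g * y * g⁻¹) := fun g {x y} h => by
    show g * x * g⁻¹ * (g * y * g⁻¹) = g * y * g⁻¹ * (g * x * g⁻¹)
    rw [show g * x * g⁻¹ * (g * y * g⁻¹) = g * (x * y) * g⁻¹ by group, h.eq]; group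
  have hMO : ∀ g ∈ M, ∀ x ∈ O, g * x * g⁻¹ ∈ O := fun g hg x hx =>
    hodd (g * z * g⁻¹) ((Subgroup.mem_normalizer_iff.1 hg z).1 hzT₁) (fun e => hz1 (conj_eq_one_iff.1 e)) _
      (hconjc g (hOT x hx z hzT₁)) (by rw [hconjo]; exact hx.2)
  have hOM : O ≤ M := fun x hx => Subgroup.centralizer_le_normalizer _
    (Subgroup.mem_centralizer_iff.2 fun s hs => (hOT x hx s hs).eq.symm)
  have hTM : T₁ ≤ M := Subgroup.le_normalizer
  have hUM : U ≤ M := by
    rintro _ ⟨s, hs, x, hx, rfl⟩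
    exact mul_mem (hTM hs) (hOM hx)
  have hMU : M ≤ Subgroup.normalizer (U : Set G) := by
    have key : ∀ g ∈ M, ∀ u ∈ U, g * u * g⁻¹ ∈ U := by
      rintro g hg _ ⟨s, hs, x, hx, rfl⟩
      exact ⟨_, (Subgroup.mem_normalizer_iff.1 hg s).1 hs, _, hMO g hg x hx, by group⟩
    intro g hg
    refine Subgroup.mem_normalizer_iff.2 fun u => ⟨key g hg u, fun hu => ?_⟩
    have := key g⁻¹ (inv_mem hg) _ hu
    rwa [show g⁻¹ * (g * u * g⁻¹) * g⁻¹⁻¹ = u by group] at this
  have htwoM : ∀ g ∈ M, ∀ k, orderOf g = 2 ^ k → g ∈ T₁ := by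
    intro g hg k hk
    have h2 : IsPGroup 2 ↥(T₁ ⊔ Subgroup.zpowers g) := IsPGroup.to_sup_of_normal_left' hT₁2
      (IsPGroup.of_card (n := k) (by rw [Nat.card_zpowers, hk])) (Subgroup.zpowers_le.2 hg)
    have h3 := T.is_maximal' h2 (by rw [hTeq]; exact le_sup_left)
    rw [← hTeq, ← h3]
    exact (le_sup_right : Subgroup.zpowers g ≤ _) (Subgroup.mem_zpowers g)
  -- normalizing the odd part
  have hNO : ∀ g : G, (∀ x ∈ O, g * x * g⁻¹ ∈ O) → g ∈ M := by
    intro g hg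
    have hfwd : ∀ y ∈ T₁, g⁻¹ * y * g ∈ T₁ := by
      intro y hy
      obtain ⟨k, hk⟩ := hT₁ord y hy
      refine hinT _ (Subgroup.mem_centralizer_iff.2 fun x hx => ?_) k ?_
      · have := hconjc g⁻¹ (hOT _ (hg x hx) y hy)
        rwa [show g⁻¹ * (g * x * g⁻¹) * g⁻¹⁻¹ = x by group, inv_inv] at this
      · have := hconjo g⁻¹ y
        rwa [inv_inv, hk] at this
    have hinv : g⁻¹ ∈ M := by
      have hset : T₁.map (MulAut.conj g⁻¹).toMonoidHom = T₁ := by
        refine Subgroup.eq_of_le_of_card_ge ?_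
          (Subgroup.card_map_of_injective (f := (MulAut.conj g⁻¹).toMonoidHom) (MulAut.conj g⁻¹).injective).ge
        rintro _ ⟨y, hy, rfl⟩
        show g⁻¹ * y * g⁻¹⁻¹ ∈ T₁
        rw [inv_inv]
        exact hfwd y hy
      refine Subgroup.mem_normalizer_iff.2 fun y => ⟨fun hy => ?_, fun hy => ?_⟩
      · rw [inv_inv]; exact hfwd y hy
      · obtain ⟨w, hw, e⟩ := hset.ge hy
        exact (show w = y from mul_left_cancel (mul_right_cancel e)) ▸ hw
    simpa using inv_mem hinv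
  -- the strongly embedded subgroup
  have hse : Cfsg.IsStronglyEmbedded M := by
    refine ⟨fun e => ?_, even_iff_two_dvd.2 (ht ▸ Subgroup.orderOf_dvd_natCard M (hTM htT)), fun g hg => ?_⟩
    · haveI : T₁.Normal := Subgroup.normalizer_eq_top_iff.1 e
      rcases IsSimpleGroup.eq_bot_or_eq_top_of_normal T₁ inferInstance with h0 | h0
      · exact ht1 (Subgroup.mem_bot.1 (h0.le htT))
      · obtain ⟨k, hk⟩ := hT₁ord a₀ (h0.ge trivial)
        have h1 := ha₀.2
        rw [hk] at h1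
        rcases k with _ | k
        · rw [pow_zero, orderOf_eq_one_iff] at hk; exact ha₀1 hk
        · exact absurd h1 (Nat.not_odd_iff_even.2 ((Nat.even_pow' k.succ_ne_zero).2 even_two))
    by_contra hno
    rw [Nat.not_odd_iff_even, even_iff_two_dvd] at hno
    obtain ⟨⟨x, hxM, hx'⟩, hxo⟩ := exists_prime_orderOf_dvd_card' 2 hno
    rw [← Subgroup.orderOf_coe] at hxo
    change orderOf x = 2 at hxo
    obtain ⟨w, hw, e⟩ := hx'
    have e' : g * w * g⁻¹ = x := e
    have hxT := htwoM x hxM 1 (by rw [hxo, pow_one])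
    have hwo : orderOf w = 2 := by rw [← hxo, ← e', hconjo]
    have hwT := htwoM w hw 1 (by rw [hwo, pow_one])
    refine hg (hNO g fun v hv => hodd x hxT (orderOf_two_iff.1 hxo).2 _ ?_ (by rw [hconjo]; exact hv.2))
    rw [← e']
    exact hconjc g (hOT v hv w hwT)
  -- all involutions of the subgroup are central
  have hcen : ∀ s ∈ M, orderOf s = 2 → s ∈ T₁ ∧ ∀ v ∈ T₁, Commute v s := by
    intro s hsM hso
    refine ⟨htwoM s hsM 1 (by rw [hso, pow_one]), ?_⟩
    obtain ⟨g, hg⟩ := isConj_iff.1 (involutions_conj hse hzo hso)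
    have hgM : g ∈ M := by
      have hbx : s • ((1 : G) : G ⧸ M) = (1 : G) := smul_mk_eq_iff.2 (by simpa using hsM)
      have hbg : s • ((g : G) : G ⧸ M) = g := smul_mk_eq_iff.2 (by
        rw [← hg, show g⁻¹ * (g * z * g⁻¹) * g = z by group]; exact hTM hzT₁)
      have e := fixed_unique hse hso hbx hbg
      rw [QuotientGroup.eq] at e
      simpa using e
    intro v hv
    have := hconjc g (hzz _ ((Subgroup.mem_normalizer_iff.1 (inv_mem hgM) v).1 hv))
    rwa [hg, show g * (g⁻¹ * v * g⁻¹⁻¹) * g⁻¹ = v by group] at this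
  have hoddD : ∀ y : G ⧸ M, y ≠ ((1 : G) : G ⧸ M) → ∀ d ∈ M ⊓ MulAction.stabilizer G y, Odd (orderOf d) := by
    intro y hy d hd
    obtain ⟨g, rfl⟩ := QuotientGroup.mk_surjective y
    have hgM : g ∉ M := fun hg => hy (by rw [QuotientGroup.eq]; simpa using hg)
    exact (hse.2.2 g hgM).of_dvd_nat (Subgroup.orderOf_dvd_natCard _
      ⟨hd.1, g⁻¹ * d * g, smul_mk_eq_iff.1 hd.2, by show g * (g⁻¹ * d * g) * g⁻¹ = d; group⟩)
  have hcent : ∀ s ∈ M, orderOf s = 2 → M ⊓ Subgroup.centralizer ({s} : Set G) = U := by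
    intro s hsM hso
    obtain ⟨hsT, hsc⟩ := hcen s hsM hso
    refine le_antisymm (fun g hg => hCs s hsT (orderOf_two_iff.1 hso).2 g
      (Subgroup.mem_centralizer_singleton_iff.1 hg.2)) fun g hg => Subgroup.mem_inf.2 ⟨hUM hg, ?_⟩
    obtain ⟨v, hv, x, hx, rfl⟩ := hg
    exact memC ((hsc v hv).mul_left (hOT x hx s hsT))
  have hinf : ∀ y : G ⧸ M, y ≠ ((1 : G) : G ⧸ M) → M ⊓ MulAction.stabilizer G y ⊓ U = ⊥ := by
    intro y hy
    refine (Subgroup.eq_bot_iff_forall _).2 fun d hd => ?_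
    have hdO : d ∈ O := hUodd d hd.2 (hoddD y hy d hd.1)
    -- a swapper
    obtain ⟨t₁, ht₁, ht₁y⟩ : ∃ i : G, orderOf i = 2 ∧ i • ((1 : G) : G ⧸ M) = y := by
      have hpos : 0 < Nat.card {i : G // orderOf i = 2 ∧ i • ((1 : G) : G ⧸ M) = y} := by
        rw [card_swappers hse (Ne.symm hy)]
        exact Nat.card_pos_iff.2 ⟨⟨⟨t, ht, smul_mk_eq_iff.2 (by simpa using hTM htT)⟩⟩, inferInstance⟩
      obtain ⟨⟨i, hi⟩⟩ := (Nat.card_pos_iff.1 hpos).1
      exact ⟨i, hi⟩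
    have ht₁M : t₁ ∉ M := fun h => hy (by rw [← ht₁y, smul_mk_eq_iff]; simpa using h)
    have ht₁i : t₁⁻¹ = t₁ := inv_self ht₁
    have ht₁tt := sq_one ht₁
    have hback : t₁ • y = ((1 : G) : G ⧸ M) := by rw [← ht₁y, smul_smul, ht₁tt, one_smul]
    have hdy : t₁ * d * t₁⁻¹ ∈ M := by
      have e : (t₁ * d * t₁⁻¹) • ((1 : G) : G ⧸ M) = ((1 : G) : G ⧸ M) := by
        rw [ht₁i, mul_smul, mul_smul, ht₁y, show d • y = y from hd.1.2, hback]
      simpa using smul_mk_eq_iff.1 e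
    set d' := t₁ * d * t₁⁻¹ with hd'
    have hmeet : ∀ v ∈ O, t₁ * v * t₁⁻¹ ∈ O → v = 1 := by
      intro v hv hv'
      by_contra hv1
      refine ht₁M (hNO t₁ fun x hx => ?_)
      -- both Sylow subgroups sit in a nilpotent centralizer
      have hw : t₁ * z * t₁⁻¹ ∈ Subgroup.centralizer ({t₁ * v * t₁⁻¹} : Set G) :=
        memC (hconjc t₁ (hOT v hv z hzT₁).symm)
      have hv'1 : t₁ * v * t₁⁻¹ ≠ 1 := fun e => hv1 (conj_eq_one_iff.1 e)
      have hwT : t₁ * z * t₁⁻¹ ∈ T₁ := by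
        refine hinT _ (Subgroup.mem_centralizer_iff.2 fun o ho => ?_) 1 (by rw [hconjo, hzo, pow_one])
        have hoz : o ∈ Subgroup.centralizer ({z} : Set G) := memC (hOT o ho z hzT₁)
        have hzc : Commute z (t₁ * z * t₁⁻¹) := by
          haveI := hnil hv'1
          have hz' : z ∈ Subgroup.centralizer ({t₁ * v * t₁⁻¹} : Set G) := memC (hOT _ hv' z hzT₁).symm
          obtain ⟨Q⟩ : Nonempty (Sylow 2 (Subgroup.centralizer ({t₁ * v * t₁⁻¹} : Set G))) := inferInstance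
          haveI hn : (Q : Subgroup (Subgroup.centralizer ({t₁ * v * t₁⁻¹} : Set G))).Normal :=
            ((Group.isNilpotent_of_finite_tfae (G := Subgroup.centralizer ({t₁ * v * t₁⁻¹} : Set G))).out 0 3
              (a := Group.IsNilpotent (Subgroup.centralizer ({t₁ * v * t₁⁻¹} : Set G)))
              (b := ∀ (q : ℕ) (_ : Fact q.Prime) (R : Sylow q (Subgroup.centralizer ({t₁ * v * t₁⁻¹} : Set G))),
                (R : Subgroup (Subgroup.centralizer ({t₁ * v * t₁⁻¹} : Set G))).Normal)).1 ‹_› 2 ‹_› Q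
          haveI := Sylow.unique_of_normal Q hn
          obtain ⟨Q₁, hQ₁⟩ := (hT₁2.comap_subtype
            (K := Subgroup.centralizer ({t₁ * v * t₁⁻¹} : Set G))).exists_le_sylow
          have hwo : orderOf (⟨_, hw⟩ : Subgroup.centralizer ({t₁ * v * t₁⁻¹} : Set G)) = 2 := by
            rw [Subgroup.orderOf_mk, hconjo, hzo]
          obtain ⟨Q₂, hQ₂⟩ := (IsPGroup.of_card (n := 1) (by rw [Nat.card_zpowers, hwo, pow_one]) :
            IsPGroup 2 (Subgroup.zpowers (⟨_, hw⟩ : Subgroup.centralizer ({t₁ * v * t₁⁻¹} : Set G)))).exists_le_sylow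
          have e12 : Q₂ = Q₁ := Subsingleton.elim _ _
          have hle : T₁ ≤ Subgroup.centralizer ({t₁ * v * t₁⁻¹} : Set G) := fun s hs => memC (hOT _ hv' s hs).symm
          have e1 : (Q₁ : Subgroup _).map (Subgroup.centralizer ({t₁ * v * t₁⁻¹} : Set G)).subtype = T₁ := by
            have h3 := T.is_maximal' (Q₁.isPGroup'.map (Subgroup.centralizer ({t₁ * v * t₁⁻¹} : Set G)).subtype) (by
              rw [hTeq]
              exact (Subgroup.map_subgroupOf_eq_of_le hle).ge.trans (Subgroup.map_mono hQ₁))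
            exact h3.trans hTeq
          exact (hzz _ (e1.le ⟨_, (e12 ▸ hQ₂) (Subgroup.mem_zpowers _), rfl⟩)).symm
        exact nilpotent_odd_two (hnil hz1) hoz (memC hzc.symm) ho.2 (k := 1) (by rw [hconjo, hzo, pow_one])
      exact hodd _ hwT (fun e => hz1 (conj_eq_one_iff.1 e)) _ (hconjc t₁ (hOT x hx z hzT₁))
        (by rw [hconjo]; exact hx.2)
    have hdM : d ∈ M := hd.1.1
    have hcomm : Commute d d' := by
      set c := d * d' * d⁻¹ * d'⁻¹ with hc
      have hcO : c ∈ O := by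
        rw [hc, show d * d' * d⁻¹ * d'⁻¹ = d * (d' * d⁻¹ * d'⁻¹) by group]
        exact O.mul_mem hdO (hMO d' hdy d⁻¹ (O.inv_mem hdO))
      have hcO' : t₁ * c * t₁⁻¹ ∈ O := by
        rw [hc, hd', show t₁ * (d * (t₁ * d * t₁⁻¹) * d⁻¹ * (t₁ * d * t₁⁻¹)⁻¹) * t₁⁻¹ =
          t₁ * d * t₁⁻¹ * ((t₁ * t₁) * d * (t₁ * t₁)⁻¹) * (t₁ * d * t₁⁻¹)⁻¹ * ((t₁ * t₁) * d * (t₁ * t₁)⁻¹)⁻¹ by group,
          ht₁tt]
        simp only [one_mul, inv_one, mul_one]
        exact O.mul_mem (hMO _ hdy d hdO) (O.inv_mem hdO)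
      exact mul_inv_eq_iff_eq_mul.1 (mul_inv_eq_one.1 (hc ▸ hmeet c hcO hcO'))
    by_contra hd1
    have hd'O : d' ∈ O := by
      refine hodd z hzT₁ hz1 d' ?_ (by rw [hd', hconjo]; exact hdO.2)
      exact nilpotent_odd_two (hnil hd1) (memC hcomm.symm) (memC (hOT d hdO z hzT₁).symm)
        (by rw [hd', hconjo]; exact hdO.2) (k := 1) (by rw [hzo, pow_one])
    exact hd1 (hmeet d hdO hd'O)
  have hF : Frame M U := by
    refine ⟨hse, hUM, hMU, hcent, hinf, fun y hy d hd hd1 u hu huc => ?_⟩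
    by_contra hu1
    have hdU : d ∈ U → False := fun h => hd1 (Subgroup.mem_bot.1 ((hinf y hy).le ⟨hd, h⟩))
    obtain ⟨s, hs, x, hx, rfl⟩ := hu
    obtain ⟨k, hk⟩ := hT₁ord s hs
    by_cases hs1 : s = 1
    · subst hs1
      rw [one_mul] at huc hu1
      -- an odd element centralized by `d`
      have hdc : Commute d z := nilpotent_odd_two (hnil hu1) (memC huc.symm) (memC (hOT x hx z hzT₁).symm)
        (hoddD y hy d hd) (k := 1) (by rw [hzo, pow_one])
      exact hdU (hOU (hodd z hzT₁ hz1 d hdc (hoddD y hy d hd)))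
    · have hne : s * x ∉ O := fun hsx => hs1 (by
        have hsO : s ∈ O := by simpa using mul_mem hsx (inv_mem hx)
        have h1 := hsO.2
        rw [hk] at h1
        rcases k with _ | k
        · exact orderOf_eq_one_iff.1 (hk.trans (pow_zero 2))
        · exact absurd h1 (Nat.not_odd_iff_even.2 ((Nat.even_pow' k.succ_ne_zero).2 even_two)))
      have hpow : Commute d s := by
        -- the 2-part is a power of the product
        have hc : Commute s x := (hOT x hx s hs).symm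
        have hcop : Nat.Coprime (orderOf x) (orderOf s) := by
          rw [hk]; exact (Nat.coprime_two_right.2 hx.2).pow_right k
        have e : (s * x) ^ orderOf x = s ^ orderOf x := by rw [hc.mul_pow, pow_orderOf_eq_one, mul_one]
        obtain ⟨i, hi⟩ := exists_pow_eq_self_of_coprime hcop
        rw [← hi, ← e]
        exact (huc.symm.pow_right _).pow_right i
      exact hdU (hCs s hs hs1 d hpow)
  obtain ⟨hZ, hreg⟩ := hF.zassenhaus
  haveI := Fintype.ofFinite (G ⧸ M)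
  have hpp := S0346.result hZ
  have hUc : Nat.card U = Fintype.card (G ⧸ M) - 1 := by
    obtain ⟨y, hy⟩ : ∃ y : G ⧸ M, y ≠ ((1 : G) : G ⧸ M) := by
      by_contra hno
      push Not at hno
      exact hse.1 (top_le_iff.1 fun g _ => by
        have e := hno (g : G ⧸ M)
        rw [QuotientGroup.eq] at e
        simpa using e)
    let f : U → {w : G ⧸ M // w ≠ ((1 : G) : G ⧸ M)} := fun u => ⟨(u : G) • y, fun e => hy (by
      rw [← inv_smul_smul (u : G) y, e, smul_mk_eq_iff]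
      simpa using hUM u.2)⟩
    rw [Nat.card_eq_of_bijective f ⟨fun u v e => ?_, fun w => ?_⟩, Nat.card_eq_fintype_card,
      Fintype.card_subtype_compl, Fintype.card_subtype_eq]
    · have hne : (u : G) • y ≠ ((1 : G) : G ⧸ M) := (f u).2
      exact (hreg y ((u : G) • y) hy hne).unique rfl (congrArg Subtype.val e).symm
    · obtain ⟨u, hu, -⟩ := hreg y w.1 hy w.2
      exact ⟨u, Subtype.ext hu⟩
  rw [← hUc] at hpp
  obtain ⟨p, m, hp, -, hpm⟩ := (isPrimePow_def _).1 hpp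
  have hp' := Nat.prime_iff.2 hp
  have h2 : 2 ∣ Nat.card U := ht ▸ Subgroup.orderOf_dvd_natCard U (hTU htT)
  have hp2 : p = 2 := ((Nat.prime_dvd_prime_iff_eq Nat.prime_two hp').1 (Nat.prime_two.dvd_of_dvd_pow (hpm ▸ h2))).symm
  subst hp2
  have h3 := Subgroup.orderOf_dvd_natCard U (hOU ha₀)
  rw [← hpm] at h3
  exact ha₀1 (orderOf_eq_one_iff.1
    (Nat.eq_one_of_dvd_coprimes (Nat.Coprime.pow_left m (Nat.coprime_two_left.2 ha₀.2)) h3 dvd_rfl))

end Cfsg.Agent.Solv.CITGroups
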