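import Cfsg.Agent.Lib.Solv.CIT.Invol
import Cfsg.Agent.Lib.Solv.EPPOSeven.Climb

/-!
The climbing argument for groups whose local subgroups are 2-closed or have a normal chosen subgroup.
-/

set_option autoImplicit false
set_option linter.style.haveILetI false
set_option linter.unusedSectionVars false

namespace Cfsg.Agent.Solv.CITGroups

open Cfsg
open Cfsg.Agent.Solv.EPPOSeven (cOf cS cS_ne_bot normalizer_le_of_char normalizer_le_cOf exists_gt_normalizing conjS
  mem_conjS card_conjS mem_normalizer_conjS normal_le_sylow)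

universe u

variable {G : Type u} [Group G] [Finite G]

/-- Every local subgroup normalizes its Sylow 2-subgroup or the chosen subgroup of it. -/
def Locals (G : Type u) [Group G] [Finite G] : Prop :=
  ∀ X : Subgroup G, X ≠ ⊥ → IsPGroup 2 X → ∀ P : Sylow 2 (Subgroup.normalizer (X : Set G)),
    Subgroup.normalizer (X : Set G) ≤ Subgroup.normalizer
      ((((P : Subgroup _).map (Subgroup.normalizer (X : Set G)).subtype : Subgroup G)) : Set G) ∨
    Subgroup.normalizer (X : Set G) ≤ Subgroup.normalizer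
      ((cOf ((P : Subgroup _).map (Subgroup.normalizer (X : Set G)).subtype) : Subgroup G) : Set G)

variable (h : Locals G)
include h

/-- Every normalizer of a nontrivial 2-subgroup of `M` lies in `M`. -/
theorem Locals.normalizer_le (T : Sylow 2 G) :
    ∀ X : Subgroup G, X ≠ ⊥ → IsPGroup 2 X → X ≤ Subgroup.normalizer ((cOf (T : Subgroup G) : Subgroup G) : Set G) →
      Subgroup.normalizer (X : Set G) ≤ Subgroup.normalizer ((cOf (T : Subgroup G) : Subgroup G) : Set G) := by
  classical
  haveI : Fact (Nat.Prime 2) := ⟨Nat.prime_two⟩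
  set M := Subgroup.normalizer ((cOf (T : Subgroup G) : Subgroup G) : Set G) with hM
  have hTM : (T : Subgroup G) ≤ M := Subgroup.le_normalizer.trans (normalizer_le_cOf _)
  have hTmax : ∀ Q : Subgroup G, IsPGroup 2 Q → Nat.card Q ≤ Nat.card (T : Subgroup G) := fun Q hQ => by
    obtain ⟨S, hS⟩ := hQ.exists_le_sylow
    calc Nat.card Q ≤ Nat.card (S : Subgroup G) :=
          Nat.card_le_card_of_injective _ (Subgroup.inclusion_injective hS)
      _ = Nat.card (T : Subgroup G) := by rw [S.card_eq_multiplicity, T.card_eq_multiplicity]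
  suffices ∀ k : ℕ, ∀ X : Subgroup G, X ≠ ⊥ → IsPGroup 2 X → X ≤ M →
      ∀ P : Subgroup G, P ≤ Subgroup.normalizer (X : Set G) ⊓ M → IsPGroup 2 P →
        Nat.card (T : Subgroup G) - Nat.card P ≤ k → Subgroup.normalizer (X : Set G) ≤ M from
    fun X hX hX2 hXM => this _ X hX hX2 hXM X (le_inf Subgroup.le_normalizer hXM) hX2 le_rfl
  intro k
  induction k using Nat.strong_induction_on with
  | _ k ih =>
  intro X hX hX2 hXM P₀ hP₀ hP₀2 hk
  set W := Subgroup.normalizer (X : Set G) ⊓ M with hW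
  obtain ⟨PW, hPW⟩ := (hP₀2.comap_subtype (K := W)).exists_le_sylow
  set P := (PW : Subgroup W).map W.subtype with hP
  have hPp : IsPGroup 2 P := PW.isPGroup'.map _
  have hPW' : P ≤ W := Subgroup.map_subtype_le _
  have hP₀P : P₀ ≤ P := by
    rw [← Subgroup.map_subgroupOf_eq_of_le hP₀]
    exact Subgroup.map_mono hPW
  haveI : (X.subgroupOf W).Normal := ⟨fun n hn g => (Subgroup.mem_normalizer_iff.1 g.2.1 n).1 hn⟩
  have hXP : X ≤ P := by
    rw [← Subgroup.map_subgroupOf_eq_of_le (le_inf Subgroup.le_normalizer hXM : X ≤ W)]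
    exact Subgroup.map_mono (normal_le_sylow (N := X.subgroupOf W) (hX2.comap_subtype (K := W)) PW)
  have hPne : P ≠ ⊥ := fun e => hX (le_bot_iff.1 (hXP.trans e.le))
  have hPmax : ∀ Q : Subgroup G, IsPGroup 2 Q → Q ≤ W → P ≤ Q → Q = P := fun Q hQ hQW hPQ => by
    have h1 : Q.subgroupOf W = (PW : Subgroup W) := PW.is_maximal' (hQ.comap_subtype (K := W)) (fun w hw =>
      hPQ ⟨w, hw, rfl⟩)
    rw [hP, ← h1, Subgroup.map_subgroupOf_eq_of_le hQW]
  have hk' : Nat.card (T : Subgroup G) - Nat.card P ≤ k :=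
    le_trans (Nat.sub_le_sub_left (Nat.card_le_card_of_injective _ (Subgroup.inclusion_injective hP₀P)) _) hk
  rcases lt_or_eq_of_le (hTmax P hPp) with hlt | heq
  · -- climb
    obtain ⟨T₁, hT₁⟩ := (hPp.comap_subtype (K := M)).exists_le_sylow
    set T' := (T₁ : Subgroup M).map M.subtype with hT'
    have hT'p : IsPGroup 2 T' := T₁.isPGroup'.map _
    have hT'c : Nat.card T' = Nat.card (T : Subgroup G) := by
      rw [hT', card_map_subtype, T₁.card_eq_multiplicity]
      let TM : Sylow 2 M := T.subtype hTM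
      rw [← TM.card_eq_multiplicity]
      exact Nat.card_congr (Subgroup.subgroupOfEquivOfLe hTM).toEquiv
    have hPT' : P < T' := by
      refine lt_of_le_of_ne ?_ fun e => by rw [e, hT'c] at hlt; exact lt_irrefl _ hlt
      rw [← Subgroup.map_subgroupOf_eq_of_le (hPW'.trans inf_le_right)]
      exact Subgroup.map_mono hT₁
    set Q := T' ⊓ Subgroup.normalizer (P : Set G) with hQ
    have hPQ : P < Q := exists_gt_normalizing hT'p hPT'
    have hQp : IsPGroup 2 Q := hT'p.to_le inf_le_left
    have hcardlt : Nat.card P < Nat.card Q :=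
      lt_of_le_of_ne (Nat.card_le_card_of_injective _ (Subgroup.inclusion_injective hPQ.le))
        fun e => hPQ.ne (Subgroup.eq_of_le_of_card_ge hPQ.le e.ge)
    have hQT : Nat.card Q ≤ Nat.card (T : Subgroup G) := hTmax Q hQp
    have hchar : ∀ C : Subgroup P, C.Characteristic → C ≠ ⊥ →
        Subgroup.normalizer ((C.map P.subtype : Subgroup G) : Set G) ≤ M := by
      intro C hC hne
      haveI := hC
      have hle : C.map P.subtype ≤ P := Subgroup.map_subtype_le _
      refine ih (Nat.card (T : Subgroup G) - Nat.card Q) (by omega) _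
        (fun e => hne ((Subgroup.map_eq_bot_iff_of_injective _ P.subtype_injective).1 e)) (hPp.to_le hle)
        (hle.trans (hPW'.trans inf_le_right)) Q
        (le_inf (inf_le_right.trans (normalizer_le_of_char C)) (inf_le_left.trans (Subgroup.map_subtype_le _)))
        hQp le_rfl
    haveI : Nontrivial P := (Subgroup.nontrivial_iff_ne_bot P).2 hPne
    have hNP : Subgroup.normalizer (P : Set G) ≤ M := by
      have := hchar ⊤ inferInstance top_ne_bot
      rwa [← MonoidHom.range_eq_map, Subgroup.range_subtype] at this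
    set N := Subgroup.normalizer (X : Set G) with hN
    obtain ⟨PN, hPN⟩ := (hPp.comap_subtype (K := N)).exists_le_sylow
    have hPeq : (PN : Subgroup N).map N.subtype = P := by
      by_contra hne
      have hge : P ≤ (PN : Subgroup N).map N.subtype := by
        rw [← Subgroup.map_subgroupOf_eq_of_le (hPW'.trans inf_le_left)]
        exact Subgroup.map_mono hPN
      have hgt := exists_gt_normalizing (PN.isPGroup'.map N.subtype) (lt_of_le_of_ne hge (Ne.symm hne))
      exact hgt.ne (hPmax _ ((PN.isPGroup'.map _).to_le inf_le_left)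
        (le_inf (inf_le_left.trans (Subgroup.map_subtype_le _)) (inf_le_right.trans hNP)) hgt.le).symm
    rcases h X hX hX2 PN with h1 | h1 <;> rw [hPeq] at h1
    · exact h1.trans hNP
    · exact h1.trans (hchar (cS P) inferInstance (cS_ne_bot hPp))
  · -- a full Sylow subgroup
    let P₁ : Sylow 2 M := Sylow.ofCard (P.subgroupOf M) (by
      rw [Nat.card_congr (Subgroup.subgroupOfEquivOfLe (hPW'.trans inf_le_right)).toEquiv, heq]
      let TM : Sylow 2 M := T.subtype hTM
      rw [← TM.card_eq_multiplicity]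
      exact (Nat.card_congr (Subgroup.subgroupOfEquivOfLe hTM).toEquiv).symm)
    obtain ⟨⟨m, hm⟩, hmP⟩ := MulAction.exists_smul_eq M P₁ (T.subtype hTM)
    have hPT : conjS m P = (T : Subgroup G) := by
      refine Subgroup.eq_of_le_of_card_ge ?_ (by rw [card_conjS, heq])
      rintro _ ⟨p, hp, rfl⟩
      have : (⟨m, hm⟩ : M) * ⟨p, (hPW'.trans inf_le_right) hp⟩ * (⟨m, hm⟩ : M)⁻¹ ∈
          ((T.subtype hTM : Sylow 2 M) : Subgroup M) := by
        rw [← hmP]
        exact ⟨⟨p, (hPW'.trans inf_le_right) hp⟩, hp, rfl⟩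
      exact this
    set X' := conjS m X with hX'
    have hX'ne : X' ≠ ⊥ := fun e => hX (by
      rw [← Subgroup.card_eq_one, ← card_conjS m X, ← hX', e, Subgroup.card_bot])
    have hX'2 : IsPGroup 2 X' := hX2.map _
    set N' := Subgroup.normalizer (X' : Set G) with hN'
    have hTN : (T : Subgroup G) ≤ N' := by
      rw [← hPT]
      intro t ht
      exact mem_normalizer_conjS.2 ((hPW'.trans inf_le_left) (mem_conjS.1 ht))
    have hle : N' ≤ M := by
      rcases h X' hX'ne hX'2 (T.subtype hTN) with h1 | h1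
      all_goals
        have e : ((T.subtype hTN : Sylow 2 N') : Subgroup N').map N'.subtype = (T : Subgroup G) :=
          Subgroup.map_subgroupOf_eq_of_le hTN
        rw [e] at h1
      · exact h1.trans (normalizer_le_cOf _)
      · exact h1
    intro x hx
    have : m * x * m⁻¹ ∈ N' := mem_normalizer_conjS.2 (by
      rwa [show m⁻¹ * (m * x * m⁻¹) * m = x by group])
    have := mul_mem (mul_mem (inv_mem hm) (hle this)) hm
    rwa [show m⁻¹ * (m * x * m⁻¹) * m = x by group] at this

/-- The subgroup is strongly embedded. -/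
theorem Locals.stronglyEmbedded (T : Sylow 2 G) (hne : (T : Subgroup G) ≠ ⊥)
    (htop : Subgroup.normalizer ((cOf (T : Subgroup G) : Subgroup G) : Set G) ≠ ⊤) :
    Cfsg.IsStronglyEmbedded (Subgroup.normalizer ((cOf (T : Subgroup G) : Subgroup G) : Set G)) := by
  classical
  haveI : Fact (Nat.Prime 2) := ⟨Nat.prime_two⟩
  set M := Subgroup.normalizer ((cOf (T : Subgroup G) : Subgroup G) : Set G) with hM
  have hTM : (T : Subgroup G) ≤ M := Subgroup.le_normalizer.trans (normalizer_le_cOf _)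
  obtain ⟨k, hk⟩ := IsPGroup.iff_card.1 T.isPGroup'
  have hk0 : k ≠ 0 := fun e => hne (Subgroup.card_eq_one.1 (by rw [hk, e, pow_zero]))
  refine ⟨htop, even_iff_two_dvd.2 ((dvd_pow_self 2 hk0).trans (hk ▸ Subgroup.card_dvd_of_le hTM)), fun g hg => ?_⟩
  by_contra hodd
  rw [Nat.not_odd_iff_even, even_iff_two_dvd] at hodd
  set I := M ⊓ conjS g M
  obtain ⟨WI⟩ : Nonempty (Sylow 2 I) := inferInstance
  set W := (WI : Subgroup I).map I.subtype with hW
  have hWp : IsPGroup 2 W := WI.isPGroup'.map _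
  have hWI : W ≤ I := Subgroup.map_subtype_le _
  have hWne : W ≠ ⊥ := fun e => WI.ne_bot_of_dvd_card hodd
    ((Subgroup.map_eq_bot_iff_of_injective _ I.subtype_injective).1 e)
  have h1 : Subgroup.normalizer (W : Set G) ≤ M := h.normalizer_le T W hWne hWp (hWI.trans inf_le_left)
  set W' := conjS g⁻¹ W
  have hW'M : W' ≤ M := fun x hx => by
    have := mem_conjS.1 (hWI (mem_conjS.1 hx)).2
    rwa [show g⁻¹ * (g⁻¹⁻¹ * x * g⁻¹) * g = x by group] at this
  have hW'ne : W' ≠ ⊥ := fun e => hWne (by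
    rw [← Subgroup.card_eq_one, ← card_conjS g⁻¹ W]
    show Nat.card W' = 1
    rw [e, Subgroup.card_bot])
  have h2 : Subgroup.normalizer (W : Set G) ≤ conjS g M := fun x hx => by
    rw [mem_conjS]
    refine h.normalizer_le T W' hW'ne (hWp.map _) hW'M ?_
    exact mem_normalizer_conjS.2 (by rwa [show g⁻¹⁻¹ * (g⁻¹ * x * g) * g⁻¹ = x by group])
  -- `W` is a Sylow subgroup
  have hWT : Nat.card W = Nat.card (T : Subgroup G) := by
    obtain ⟨S, hS⟩ := hWp.exists_le_sylow
    have hcS : Nat.card (S : Subgroup G) = Nat.card (T : Subgroup G) := by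
      rw [S.card_eq_multiplicity, T.card_eq_multiplicity]
    rcases lt_or_eq_of_le hS with hlt | e
    swap
    · rw [e, hcS]
    exfalso
    have hgt := exists_gt_normalizing S.isPGroup' hlt
    have hQI : (S : Subgroup G) ⊓ Subgroup.normalizer (W : Set G) ≤ I :=
      inf_le_right.trans (le_inf h1 h2)
    have hQ2 : IsPGroup 2 ↥((S : Subgroup G) ⊓ Subgroup.normalizer (W : Set G)) :=
      S.isPGroup'.to_le inf_le_left
    have h3 := WI.is_maximal' (hQ2.comap_subtype (K := I)) (fun w hw => hgt.le ⟨w, hw, rfl⟩)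
    have h4 : ((S : Subgroup G) ⊓ Subgroup.normalizer (W : Set G)) = W := by
      rw [hW, ← Subgroup.map_subgroupOf_eq_of_le hQI]
      exact congrArg (Subgroup.map I.subtype) h3
    exact hgt.ne h4.symm
  have hmax : Nat.card (T : Subgroup G) = 2 ^ (Nat.card M).factorization 2 := by
    let TM : Sylow 2 M := T.subtype hTM
    rw [← TM.card_eq_multiplicity]
    exact (Nat.card_congr (Subgroup.subgroupOfEquivOfLe hTM).toEquiv).symm
  have hWM : W ≤ M := hWI.trans inf_le_left
  let A : Sylow 2 M := Sylow.ofCard (W.subgroupOf M) (by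
    rw [Nat.card_congr (Subgroup.subgroupOfEquivOfLe hWM).toEquiv, hWT, hmax])
  let B : Sylow 2 M := Sylow.ofCard (W'.subgroupOf M) (by
    rw [Nat.card_congr (Subgroup.subgroupOfEquivOfLe hW'M).toEquiv, card_conjS, hWT, hmax])
  obtain ⟨⟨m, hm⟩, hmB⟩ := MulAction.exists_smul_eq M B A
  have hconj : conjS (m * g⁻¹) W = W := by
    refine Subgroup.eq_of_le_of_card_ge ?_ (card_conjS _ W).ge
    rintro _ ⟨w, hw, rfl⟩
    have hwM : g⁻¹ * w * g⁻¹⁻¹ ∈ W' := ⟨w, hw, rfl⟩
    have : (⟨m, hm⟩ : M) * ⟨_, hW'M hwM⟩ * (⟨m, hm⟩ : M)⁻¹ ∈ (A : Subgroup M) := by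
      rw [← hmB]
      exact ⟨⟨_, hW'M hwM⟩, hwM, rfl⟩
    show m * g⁻¹ * w * (m * g⁻¹)⁻¹ ∈ W
    have h5 : m * (g⁻¹ * w * g⁻¹⁻¹) * m⁻¹ ∈ W := this
    rwa [show m * g⁻¹ * w * (m * g⁻¹)⁻¹ = m * (g⁻¹ * w * g⁻¹⁻¹) * m⁻¹ by group]
  have hn : m * g⁻¹ ∈ Subgroup.normalizer (W : Set G) := Subgroup.mem_normalizer_iff.2 fun y => by
    conv_rhs => rw [← hconj]
    rw [mem_conjS, show (m * g⁻¹)⁻¹ * (m * g⁻¹ * y * (m * g⁻¹)⁻¹) * (m * g⁻¹) = y by group]
  refine hg ?_
  have := mul_mem (inv_mem hm) (h1 hn)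
  rw [inv_mul_cancel_left] at this
  simpa using inv_mem this

end Cfsg.Agent.Solv.CITGroups
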