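import Mathlib
import Mathlib.RingTheory.ZMod.UnitsCyclic

/-!
Arithmetic of prime powers next to powers of two.
-/

set_option autoImplicit false

namespace Cfsg.Agent.Solv.EPPOArith

theorem eq_pow_of_dvd {x p : ℕ} (hp : p.Prime) (hx : IsPrimePow x) (hd : p ∣ x) : ∃ a, 0 < a ∧ x = p ^ a := by
  obtain ⟨r, k, hr, hk, rfl⟩ := (isPrimePow_nat_iff x).1 hx
  exact ⟨k, hk, by rw [(Nat.prime_dvd_prime_iff_eq hp hr).1 (hp.dvd_of_dvd_pow hd)]⟩

theorem three_pow_mod (a : ℕ) : 3 ^ a % 8 = if Even a then 1 else 3 := by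
  induction a with
  | zero => simp
  | succ a ih =>
    rw [pow_succ, Nat.mul_mod, ih]
    by_cases h : Even a <;> simp [h, Nat.even_add_one]

/-- A power of two exceeds a power of three by one only below eight. -/
theorem two_pow_eq_succ {k a : ℕ} (h : 2 ^ k = 3 ^ a + 1) : k ≤ 2 := by
  by_contra hk
  have h8 : 8 ∣ 2 ^ k := Nat.pow_dvd_pow (n := k) 2 (show 3 ≤ k by omega)
  have := three_pow_mod a
  split_ifs at this <;> omega

/-- A power of three exceeds a power of two by one only for three and nine. -/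
theorem three_pow_eq_succ {k b : ℕ} (h : 2 ^ k + 1 = 3 ^ b) : k = 1 ∨ k = 3 := by
  rcases lt_or_ge k 3 with hk | hk
  · have : k ≠ 0 := fun e => by
      subst e
      have h3 : 3 ^ b % 2 = 1 := by rw [Nat.pow_mod]; norm_num
      omega
    have : k ≠ 2 := fun e => by
      subst e
      have h5 := three_pow_mod b
      split_ifs at h5 <;> omega
    omega
  · have h8 : 8 ∣ 2 ^ k := Nat.pow_dvd_pow (n := k) 2 hk
    have hb := three_pow_mod b
    obtain ⟨c, rfl⟩ : Even b := by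
      by_contra hodd
      rw [if_neg hodd] at hb
      omega
    have hc1 : 1 ≤ 3 ^ c := Nat.one_le_pow _ _ (by norm_num)
    have hprod : (3 ^ c - 1) * (3 ^ c + 1) = 2 ^ k := by
      have h1 := Nat.sq_sub_sq (3 ^ c) 1
      rw [one_pow, sq, ← pow_add, ← h, Nat.add_sub_cancel] at h1
      rw [h1, mul_comm]
    obtain ⟨i, -, hi⟩ := (Nat.dvd_prime_pow Nat.prime_two).1 ⟨_, hprod.symm⟩
    obtain ⟨j, -, hj⟩ := (Nat.dvd_prime_pow Nat.prime_two).1 (Dvd.intro_left _ hprod)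
    have hi1 : i = 1 := by
      by_contra hne
      rcases i with _ | _ | i
      · have h3 : 3 ^ c % 2 = 1 := by rw [Nat.pow_mod]; norm_num
        omega
      · exact hne rfl
      · have hj2 : 2 ≤ j := by
          by_contra hj2
          have hpos := Nat.pow_le_pow_right (show 0 < 2 by norm_num) (show 2 ≤ i + 1 + 1 by omega)
          have hj' := Nat.pow_le_pow_right (show 0 < 2 by norm_num) (show j ≤ 1 by omega)
          omega
        have h4i : 4 ∣ 2 ^ (i + 1 + 1) := Nat.pow_dvd_pow 2 (show 2 ≤ i + 1 + 1 by omega)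
        have h4j : 4 ∣ 2 ^ j := Nat.pow_dvd_pow 2 hj2
        omega
    subst hi1
    have h3c : 3 ^ c = 3 := by omega
    have : c = 1 := Nat.pow_right_injective (show 2 ≤ 3 by norm_num) (h3c.trans (pow_one 3).symm)
    subst this
    norm_num at hprod
    right
    exact (Nat.pow_right_injective (le_refl 2) (show 2 ^ 3 = 2 ^ k by omega)).symm

theorem dvd_of_five {a n : ℕ} (h : 2 ^ (n + 3) ∣ 5 ^ a - 1) : 2 ^ (n + 1) ∣ a := by
  rw [← ZMod.orderOf_five (n + 1), orderOf_dvd_iff_pow_eq_one]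
  have h1 := (ZMod.natCast_eq_zero_iff (5 ^ a - 1) (2 ^ (n + 3))).2 h
  rw [Nat.cast_sub (Nat.one_le_pow _ _ (by norm_num)), sub_eq_zero, Nat.cast_pow, Nat.cast_one] at h1
  exact_mod_cast h1

/-- The Suzuki orders with a power of five. -/
theorem five_pow {m a : ℕ} (ha : 0 < a) (h : 2 ^ (m + 1) ∣ 5 ^ a - 1) (hle : 5 ^ a ≤ 2 ^ (2 * m + 2)) : m ≤ 2 := by
  by_contra hm
  obtain ⟨n, rfl⟩ : ∃ n, m = n + 2 := ⟨m - 2, by omega⟩
  have hd := Nat.le_of_dvd ha (dvd_of_five (a := a) (n := n) h)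
  have h1 : 4 ^ 2 ^ (n + 1) < 5 ^ a :=
    lt_of_le_of_lt (Nat.pow_le_pow_right (by norm_num) hd) (Nat.pow_lt_pow_left (by norm_num) ha.ne')
  have h2 : 2 * (n + 2) + 2 ≤ 2 * 2 ^ (n + 1) := by
    have := Nat.lt_two_pow_self (n := n)
    rw [pow_succ]
    omega
  have h3 : 2 ^ (2 * (n + 2) + 2) ≤ 4 ^ 2 ^ (n + 1) := by
    rw [show (4 : ℕ) = 2 ^ 2 from rfl, ← pow_mul]
    exact Nat.pow_le_pow_right (by norm_num) h2
  omega

theorem five_dvd_sq {m : ℕ} : 5 ∣ (2 ^ (2 * m + 1)) ^ 2 + 1 := by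
  induction m with
  | zero => norm_num
  | succ m ih =>
    have : (2 ^ (2 * (m + 1) + 1)) ^ 2 + 1 = 16 * ((2 ^ (2 * m + 1)) ^ 2 + 1) - 15 := by
      rw [show 2 * (m + 1) + 1 = 2 * m + 1 + 2 by ring, pow_add, mul_pow]
      omega
    omega

theorem primeFactors_sub {n a b c d k : ℕ} (ha : a.Prime) (hb : b.Prime) (hc : c.Prime) (hd : d.Prime)
    (h : n ∣ (a * b * c * d) ^ k) : n.primeFactors ⊆ {a, b, c, d} := fun p hp => by
  have hpp := Nat.prime_of_mem_primeFactors hp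
  have h1 := hpp.dvd_of_dvd_pow ((Nat.dvd_of_mem_primeFactors hp).trans h)
  rcases hpp.dvd_mul.1 h1 with h2 | h2
  · rcases hpp.dvd_mul.1 h2 with h3 | h3
    · rcases hpp.dvd_mul.1 h3 with h4 | h4
      · simp [(Nat.prime_dvd_prime_iff_eq hpp ha).1 h4]
      · simp [(Nat.prime_dvd_prime_iff_eq hpp hb).1 h4]
    · simp [(Nat.prime_dvd_prime_iff_eq hpp hc).1 h3]
  · simp [(Nat.prime_dvd_prime_iff_eq hpp hd).1 h2]

theorem card_le_four {n a b c d k : ℕ} (ha : a.Prime) (hb : b.Prime) (hc : c.Prime) (hd : d.Prime)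
    (h : n ∣ (a * b * c * d) ^ k) : n.primeFactors.card ≤ 4 :=
  (Finset.card_le_card (primeFactors_sub ha hb hc hd h)).trans Finset.card_le_four

theorem card_le_three {n a b c k : ℕ} (ha : a.Prime) (hb : b.Prime) (hc : c.Prime)
    (h : n ∣ (a * b * c) ^ k) : n.primeFactors.card ≤ 3 := by
  refine le_trans (Finset.card_le_card (t := {a, b, c}) ?_) Finset.card_le_three
  refine (primeFactors_sub (k := k) ha hb hc hc (h.trans ⟨c ^ k, by rw [mul_pow _ c k]⟩)).trans ?_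
  intro p hp
  simp only [Finset.mem_insert, Finset.mem_singleton] at hp ⊢
  tauto

end Cfsg.Agent.Solv.EPPOArith
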