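import Cfsg.Agent.Lib.Solv.CIT.Top
import Cfsg.Agent.Lib.Solv.CIT.AbelianCore

/-!
Nonsolvable groups with an offender: the core is the natural module.
-/

set_option autoImplicit false
set_option linter.style.haveILetI false
set_option linter.unusedSectionVars false

namespace Cfsg.Agent.Solv.CITGroups

open Cfsg
open Cfsg.Agent.Solv.EPPOSeven (omegaCen omegaCen_comm omegaCen_normal omegaCen_le omegaCen_ne_bot)

universe u

variable {H : Type u} [Group H] [Finite H]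

/-- The exceptional shape: the natural module over a linear group in dimension two. -/
structure ExcCore (n : ℕ) (D : Subgroup H) [D.Normal] : Prop where
  two : IsPGroup 2 D
  card_D : Nat.card D = 2 ^ n * 2 ^ n
  sq : ∀ d ∈ D, d * d = 1
  cent : Subgroup.centralizer (D : Set H) ≤ D
  simple : IsSimpleGroup (H ⧸ D)
  nab : ∃ a b : H ⧸ D, a * b ≠ b * a
  bor : ∃ T : Subgroup (H ⧸ D), BorAt (H ⧸ D) n T ∧ Nat.card T = 2 ^ n
  common : ∃ P : Subgroup H, IsPGroup 2 P ∧ Nat.card P = 2 ^ n * 2 ^ n * 2 ^ n ∧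
    ∀ x ∈ P, ∀ y ∈ P, x ∉ D → y ∉ D → D ⊓ Subgroup.centralizer ({x} : Set H) = D ⊓ Subgroup.centralizer ({y} : Set H)

theorem pCore_simple_eq_bot {Q : Type u} [Group Q] [Finite Q] [IsSimpleGroup Q] (hna : ∃ a b : Q, a * b ≠ b * a) :
    Cfsg.pCore 2 Q = ⊥ := by
  haveI : Fact (Nat.Prime 2) := ⟨Nat.prime_two⟩
  haveI := Solv.pCore_normal (G := Q) 2
  refine (IsSimpleGroup.eq_bot_or_eq_top_of_normal _ inferInstance).resolve_right fun e => ?_
  have hp : IsPGroup 2 (⊤ : Subgroup Q) := e ▸ Solv.pCore_isPGroup 2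
  haveI := hp.isNilpotent
  haveI : Group.IsSolvable Q := Group.isSolvable_of_surjective (f := (⊤ : Subgroup Q).subtype) fun q => ⟨⟨q, trivial⟩, rfl⟩
  obtain ⟨a, b, hab⟩ := hna
  exact hab (IsSimpleGroup.comm_iff_isSolvable.2 inferInstance a b)

/-- Elements of the same coset of an abelian normal subgroup have the same centralizer there. -/
theorem cent_coset {D W : Subgroup H} [D.Normal] (hDW : ∀ d ∈ D, ∀ w ∈ W, d * w = w * d) {g g' : H}
    (e : QuotientGroup.mk' D g = QuotientGroup.mk' D g') :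
    W ⊓ Subgroup.centralizer ({g} : Set H) = W ⊓ Subgroup.centralizer ({g'} : Set H) := by
  have key : ∀ a b : H, a⁻¹ * b ∈ D →
      W ⊓ Subgroup.centralizer ({a} : Set H) ≤ W ⊓ Subgroup.centralizer ({b} : Set H) := by
    intro a b hab v hv
    refine Subgroup.mem_inf.2 ⟨hv.1, Subgroup.mem_centralizer_singleton_iff.2 ?_⟩
    calc v * b = v * a * (a⁻¹ * b) := by group
      _ = a * v * (a⁻¹ * b) := by rw [Subgroup.mem_centralizer_singleton_iff.1 hv.2]
      _ = a * (v * (a⁻¹ * b)) := by group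
      _ = a * (a⁻¹ * b * v) := by rw [hDW _ hab v hv.1]
      _ = b * v := by group
  exact le_antisymm (key _ _ (QuotientGroup.eq.1 e)) (key _ _ (QuotientGroup.eq.1 e.symm))

/-- An involution of the top fixes a square root of a normal abelian subgroup of the core. -/
theorem CIT.half_top (hC : CIT H) {D W : Subgroup H} [D.Normal] [W.Normal] [IsMulCommutative W] (hWD : W ≤ D)
    (hD2 : IsPGroup 2 D) (hDW : ∀ d ∈ D, ∀ w ∈ W, d * w = w * d) [IsSimpleGroup (H ⧸ D)]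
    (hna : ∃ a b : H ⧸ D, a * b ≠ b * a) {i : H} (hi : orderOf (QuotientGroup.mk' D i) = 2) :
    Nat.card W = Nat.card ↥(W ⊓ Subgroup.centralizer ({i} : Set H)) *
      Nat.card ↥(W ⊓ Subgroup.centralizer ({i} : Set H)) := by
  obtain ⟨r, x, t, hr, hr2, hxo, ht, hπ, htx⟩ := hC.exists_inverting_lift hD2 hi (by
    rw [pCore_simple_eq_bot hna, Subgroup.mem_bot]
    intro e
    rw [e, orderOf_one] at hi
    omega)
  rw [← cent_coset hDW hπ]
  have hodd : Odd (orderOf (x * x)) :=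
    (hxo ▸ hr.odd_of_ne_two hr2 : Odd (orderOf x)).of_dvd_nat (by rw [← pow_two]; exact orderOf_pow_dvd 2)
  have hxx : x * x ≠ 1 := fun e => hr2 ((Nat.prime_dvd_prime_iff_eq hr Nat.prime_two).1
    (hxo ▸ orderOf_dvd_of_pow_eq_one (by rw [pow_two]; exact e)))
  exact half_fixed ht htx (fun v hv => Subgroup.Normal.conj_mem inferInstance v hv x)
    (fun v hv => Subgroup.Normal.conj_mem inferInstance v hv t) fun v hv hc => hC.fpf_mem hodd hxx hD2 (hWD hv) hc

theorem mul_dvd_of_succ {a b : ℕ} (ha : a ≠ 0) (h : 2 ^ a + 1 ∣ 2 ^ b * 2 ^ b - 1) : a ∣ b := by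
  rw [← pow_add, ← two_mul] at h
  obtain ⟨c, hc⟩ := two_mul_dvd_of_succ ha h
  exact ⟨c, by linarith⟩

/-- An offender in a nonsolvable group forces the exceptional shape. -/
theorem CIT.exc_of_offender (hC : CIT H) [(Cfsg.pCore 2 H).Normal] (hns : ¬ Group.IsSolvable H)
    (hcore : Cfsg.pCore 2 H ≠ ⊥) (hb : Below.{u} (Nat.card H)) {P : Sylow 2 H} {A : Subgroup H}
    [IsMulCommutative A] (hAP : A ≤ (P : Subgroup H)) (hAD : ¬ A ≤ Cfsg.pCore 2 H)
    (hmax : ∀ B : Subgroup H, B ≤ (P : Subgroup H) → IsMulCommutative B → Nat.card B ≤ Nat.card A) :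
    ∃ n, ExcCore n (Cfsg.pCore 2 H) := by
  classical
  haveI : Fact (Nat.Prime 2) := ⟨Nat.prime_two⟩
  obtain ⟨hs, hna, n, T, hT⟩ := hC.top hns hcore hb
  haveI := hs
  set D := Cfsg.pCore 2 H with hD
  have hD2 : IsPGroup 2 D := Solv.pCore_isPGroup 2
  set π := QuotientGroup.mk' D with hπ
  set V := omegaCen D with hV
  haveI : IsMulCommutative V := omegaCen_comm D
  haveI : V.Normal := omegaCen_normal D
  have hVD : V ≤ D := omegaCen_le D
  have hDV : ∀ d ∈ D, ∀ w ∈ V, d * w = w * d := fun d hd w hw => Subgroup.mem_centralizer_iff.1 hw.2.1 d hd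
  have hbound := offender_le (P := P) (A := A) hVD hAP hmax fun a _ ha w hw => hDV a ha w hw
  set Ab := A.map π with hAb
  have hA2 : IsPGroup 2 A := P.isPGroup'.to_le hAP
  have hAb2 : IsPGroup 2 Ab := hA2.map π
  haveI : IsMulCommutative Ab := Subgroup.map_isMulCommutative A π
  obtain ⟨i, hiA, hi⟩ : ∃ i ∈ A, orderOf (π i) = 2 := by
    have hne : Ab ≠ ⊥ := by
      rw [Ne, hAb, Subgroup.map_eq_bot_iff, hπ, QuotientGroup.ker_mk']
      exact hAD
    obtain ⟨_, ⟨i, hi, rfl⟩, ho⟩ := exists_invol_mem hAb2 hne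
    exact ⟨i, hi, ho⟩
  have hAc : ∀ W : Subgroup H, A ⊓ W ≤ W ⊓ Subgroup.centralizer ({i} : Set H) := fun W v hv =>
    Subgroup.mem_inf.2 ⟨hv.2, Subgroup.mem_centralizer_singleton_iff.2
      (congrArg Subtype.val (mul_comm' (⟨v, hv.1⟩ : A) ⟨i, hiA⟩))⟩
  have hhalf := hC.half_top hVD hD2 hDV hna hi
  obtain ⟨m, hm⟩ := IsPGroup.iff_card.1 ((hD2.to_le hVD).to_le
    (inf_le_left : V ⊓ Subgroup.centralizer ({i} : Set H) ≤ V))
  rw [hm] at hhalf
  have hm0 : m ≠ 0 := fun e => omegaCen_ne_bot hD2 hcore (Subgroup.card_eq_one.1 (by rw [hhalf, e]; rfl))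
  have hAV : Nat.card ↥(A ⊓ V) ≤ 2 ^ m :=
    hm ▸ Nat.card_le_card_of_injective _ (Subgroup.inclusion_injective (hAc V))
  have hmA : 2 ^ m ≤ Nat.card Ab := by
    have : 2 ^ m * 2 ^ m ≤ Nat.card Ab * 2 ^ m := hhalf ▸ hbound.trans (Nat.mul_le_mul_left _ hAV)
    exact Nat.le_of_mul_le_mul_right this (pow_pos two_pos m)
  have hdvd : Nat.card T + 1 ∣ 2 ^ m * 2 ^ m - 1 := by
    rw [← hhalf]
    refine hC.odd_dvd_pred (hD2.to_le hVD) hT.succ_odd ?_
    rw [Subgroup.normalizer_eq_top, Subgroup.card_top]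
    exact hT.succ_dvd.trans (Subgroup.card_quotient_dvd_card D)
  have hn2 := hT.two_le
  rcases hT.kind with ⟨hTc, hTsq, -⟩ | ⟨hTc, -, -, hnaT⟩
  swap
  · exfalso
    rw [hTc, ← pow_mul, mul_comm n 2] at hdvd
    have h1 := Nat.le_of_dvd (Nat.pos_of_ne_zero hm0) (mul_dvd_of_succ (by omega) hdvd)
    have h2 := hT.abelian_lt hnaT (P := Ab) hAb2
    rw [hTc, ← pow_mul, mul_comm n 2] at h2
    have := (Nat.pow_lt_pow_iff_right (by norm_num : 1 < 2)).1 (hmA.trans_lt h2)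
    omega
  rw [hTc] at hdvd
  have hmn : m = n := by
    have h1 := Nat.le_of_dvd (Nat.pos_of_ne_zero hm0) (mul_dvd_of_succ (by omega) hdvd)
    have h2 := hmA.trans (hTc ▸ hT.two_le_T hAb2)
    have := (Nat.pow_le_pow_iff_right (by norm_num : 1 < 2)).1 h2
    omega
  subst hmn
  have hAbc : Nat.card Ab = 2 ^ m := le_antisymm (hTc ▸ hT.two_le_T hAb2) hmA
  -- the core is abelian
  have h3 : 3 ∣ Nat.card (H ⧸ D) := by
    rw [hT.cardG, hTc]
    have h4 : 3 ∣ (2 ^ m + 1) * (2 ^ m - 1) := by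
      rw [← Nat.sq_sub_sq, one_pow, ← pow_mul, mul_comm m 2, pow_mul]
      have := Nat.sub_dvd_pow_sub_pow 4 1 m
      rwa [one_pow] at this
    exact h4.trans (mul_dvd_mul_left _ (dvd_mul_left _ _))
  haveI : IsMulCommutative D := CIT.normal_two_abelian _ H rfl hC D hD2 hs hna h3
  have hDc : ∀ d ∈ D, ∀ w ∈ D, d * w = w * d := fun d hd w hw =>
    congrArg Subtype.val (mul_comm' (⟨d, hd⟩ : D) ⟨w, hw⟩)
  have hhalfD := hC.half_top le_rfl hD2 hDc hna hi
  set c := Nat.card ↥(D ⊓ Subgroup.centralizer ({i} : Set H)) with hc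
  have hboundD := offender_le (P := P) (A := A) le_rfl hAP hmax fun a _ ha w hw => hDc a ha w hw
  have hAD' : Nat.card ↥(A ⊓ D) ≤ c := Nat.card_le_card_of_injective _ (Subgroup.inclusion_injective (hAc D))
  rw [← hAb, hAbc, hhalfD] at hboundD
  have hc1 : 2 ^ m ≤ c := hm ▸ Nat.card_le_card_of_injective _
    (Subgroup.inclusion_injective (inf_le_inf_right _ hVD))
  have hcq : c = 2 ^ m := by
    refine le_antisymm (Nat.le_of_mul_le_mul_right ?_ (Nat.card_pos (α := ↥(D ⊓ Subgroup.centralizer ({i} : Set H))))) hc1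
    exact hboundD.trans (Nat.mul_le_mul_left _ hAD')
  have hAD2 : 2 ^ m ≤ Nat.card ↥(A ⊓ D) := by
    rw [hcq] at hboundD
    exact Nat.le_of_mul_le_mul_left hboundD (pow_pos two_pos m)
  have hDcard : Nat.card D = 2 ^ m * 2 ^ m := by rw [hhalfD, hcq]
  have hVeq : V = D := Subgroup.eq_of_le_of_card_ge hVD (by rw [hDcard, hhalf])
  have hsq : ∀ d ∈ D, d * d = 1 := fun d hd => (hVeq.ge hd).2.2
  -- the common centralizer
  set P' := A ⊔ D with hP'
  have hDP : D ≤ (P : Subgroup H) := core_le_sylow P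
  have hP'2 : IsPGroup 2 P' := P.isPGroup'.to_le (sup_le hAP hDP)
  have hPπ : P'.map π = Ab := by
    rw [hP', Subgroup.map_sup, show D.map π = ⊥ by rw [Subgroup.map_eq_bot_iff, hπ, QuotientGroup.ker_mk'], sup_bot_eq]
  have hP'c : Nat.card P' = 2 ^ m * 2 ^ m * 2 ^ m := by
    rw [← Solv.card_map_mk'_mul_card_inf D P', ← hπ, hPπ, hAbc, inf_eq_left.2 le_sup_right, hDcard]
    ring
  refine ⟨m, hD2, hDcard, hsq, hC.centralizer_le_core hD2 hcore, hs, hna, ⟨T, hT, hTc⟩, P', hP'2, hP'c, ?_⟩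
  have key : ∀ x ∈ P', x ∉ D → D ⊓ Subgroup.centralizer ({x} : Set H) = A ⊓ D := by
    intro x hx hxD
    obtain ⟨a, ha, hax⟩ := hPπ.le ⟨x, hx, rfl⟩
    rw [← cent_coset hDc hax]
    have hao : orderOf (π a) = 2 := by
      refine orderOf_two_iff.2 ⟨?_, fun e => hxD ((QuotientGroup.eq_one_iff x).1 (hax.symm.trans e))⟩
      let TS : Sylow 2 (H ⧸ D) := Sylow.ofCard T (by rw [hT.factorization_two hTc, hTc])
      let AS : Sylow 2 (H ⧸ D) := Sylow.ofCard Ab (by rw [hT.factorization_two hTc, hAbc])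
      obtain ⟨g, hg⟩ := MulAction.exists_smul_eq (H ⧸ D) AS TS
      have hmem : g * π a * g⁻¹ ∈ T := by
        have : g * π a * g⁻¹ ∈ ((g • AS : Sylow 2 (H ⧸ D)) : Subgroup (H ⧸ D)) := ⟨π a, ⟨a, ha, rfl⟩, rfl⟩
        rwa [hg] at this
      have := hTsq _ hmem
      rw [show g * π a * g⁻¹ * (g * π a * g⁻¹) = g * (π a * π a) * g⁻¹ by group, conj_eq_one_iff] at this
      exact this
    have hle : A ⊓ D ≤ D ⊓ Subgroup.centralizer ({a} : Set H) := fun v hv => Subgroup.mem_inf.2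
      ⟨hv.2, Subgroup.mem_centralizer_singleton_iff.2 (congrArg Subtype.val (mul_comm' (⟨v, hv.1⟩ : A) ⟨a, ha⟩))⟩
    refine (Subgroup.eq_of_le_of_card_ge hle (le_trans (le_of_eq ?_) hAD2)).symm
    have h := hC.half_top le_rfl hD2 hDc hna hao
    rw [hDcard] at h
    exact Nat.mul_self_inj.1 h.symm
  intro x hx y hy hxD hyD
  rw [key x hx hxD, key y hy hyD]

end Cfsg.Agent.Solv.CITGroups
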