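import Cfsg.Agent.Lib.Solv.CIT.ExcPair

/-!
An exceptional subgroup shares a Sylow 2-subgroup of its normalizer with a second one.
-/

set_option autoImplicit false
set_option linter.style.haveILetI false
set_option linter.unusedSectionVars false

namespace Cfsg.Agent.Solv.CITGroups

open Cfsg
open Cfsg.Agent.Solv.EPPOSeven (conjS mem_conjS card_conjS mem_normalizer_conjS omegaCen exists_gt_normalizing)

universe u

variable {G : Type u} [Group G] [Finite G] {n : ℕ} {D : Subgroup G}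

/-- An element of a second elementary subgroup is moved by what lies outside it. -/
theorem ExcIn.cent_other (h : ExcIn n D) {P Z A : Subgroup G} (hP : ExcIn.Syl n D P) (hZD : Z ≤ D)
    (hZc : Nat.card Z = 2 ^ n) (hZ : ∀ x ∈ P, x ∉ D → D ⊓ Subgroup.centralizer ({x} : Set G) = Z)
    (hAP : A ≤ P) (hAsq : ∀ a ∈ A, a * a = 1) (hAc : Nat.card A = 2 ^ n * 2 ^ n) (hne : A ≠ D) {x : G}
    (hx : x ∈ P) (hxA : x ∉ A) : A ⊓ Subgroup.centralizer ({x} : Set G) = Z := by
  obtain ⟨hAD, hcov, -⟩ := h.other hP hZD hZc hZ hAP hAsq hAc hne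
  refine le_antisymm (fun a ha => ?_) fun z hz => Subgroup.mem_inf.2
    ⟨(hAD.ge hz).1, Subgroup.mem_centralizer_singleton_iff.2 (h.fix_central hP hZD hZ hz hx)⟩
  obtain ⟨b, hb, hd⟩ := hcov x hx
  by_contra haZ
  have haD : a ∉ D := fun haD => haZ (hAD.le ⟨ha.1, haD⟩)
  have hab : b * a = a * b := by
    have e := hAsq _ (mul_mem hb ha.1)
    rwa [mul_eq_one_iff_eq_inv, mul_inv_rev, inv_eq_of_mul_eq_one_right (hAsq b hb),
      inv_eq_of_mul_eq_one_right (hAsq a ha.1)] at e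
  have hc : b⁻¹ * x ∈ Z := (hZ a (hAP ha.1) haD).le (Subgroup.mem_inf.2 ⟨hd, Subgroup.mem_centralizer_singleton_iff.2 (by
    calc b⁻¹ * x * a = b⁻¹ * (x * a) := by group
      _ = b⁻¹ * (a * x) := by rw [Subgroup.mem_centralizer_singleton_iff.1 ha.2]
      _ = b⁻¹ * (a * b) * (b⁻¹ * x) := by group
      _ = b⁻¹ * (b * a) * (b⁻¹ * x) := by rw [hab]
      _ = a * (b⁻¹ * x) := by group)⟩)
  have := mul_mem hb (hAD.ge hc).1
  rw [mul_inv_cancel_left] at this
  exact hxA this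

theorem ExcIn.exists_second [IsSimpleGroup G] (h : ExcIn n D) (hC : CIT G) (hb : Below.{u} (Nat.card G)) :
    ∃ E P : Subgroup G, ExcIn n E ∧ E ≠ D ∧ ExcIn.Syl n D P ∧ ExcIn.Syl n E P := by
  classical
  haveI : Fact (Nat.Prime 2) := ⟨Nat.prime_two⟩
  have hn := h.two_le
  obtain ⟨z₁, hz₁, hz₁1⟩ := D.bot_or_exists_ne_one.resolve_left h.ne_bot
  obtain ⟨hP, -⟩ := h.cent_syl hC hz₁ hz₁1
  set P := Subgroup.normalizer (D : Set G) ⊓ Subgroup.centralizer ({z₁} : Set G)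
  clear_value P
  clear hz₁ hz₁1 z₁
  obtain ⟨T, hPT⟩ := hP.two.exists_le_sylow
  by_cases hlt : P < (T : Subgroup G)
  · obtain ⟨g, hg, hgP⟩ := SetLike.exists_of_lt (exists_gt_normalizing T.isPGroup' hlt)
    have hgD : g ∉ Subgroup.normalizer (D : Set G) := fun hgD => by
      have hle : P ⊔ Subgroup.zpowers g ≤ Subgroup.normalizer (D : Set G) := sup_le hP.le (Subgroup.zpowers_le.2 hgD)
      have h2 : IsPGroup 2 ↥(P ⊔ Subgroup.zpowers g) :=
        T.isPGroup'.to_le (sup_le hPT (Subgroup.zpowers_le.2 hg.1))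
      have heq := Subgroup.eq_of_le_of_card_ge (le_sup_left : P ≤ P ⊔ Subgroup.zpowers g)
        ((h.card_le h2 hle).trans hP.card.ge)
      exact hgP (heq.ge ((le_sup_right : Subgroup.zpowers g ≤ _) (Subgroup.mem_zpowers g)))
    refine ⟨conjS g D, P, h.conj g, fun e => hgD ?_, hP, ?_⟩
    · refine Subgroup.mem_normalizer_iff.2 fun d => ⟨fun hd => e.le ⟨d, hd, rfl⟩, fun hd => ?_⟩
      have := mem_conjS.1 (e.ge hd)
      rwa [show g⁻¹ * (g * d * g⁻¹) * g = d by group] at this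
    · have e : conjS g P = P := by
        refine Subgroup.eq_of_le_of_card_ge ?_ (card_conjS g P).ge
        rintro _ ⟨x, hx, rfl⟩
        exact (Subgroup.mem_normalizer_iff.1 hg.2 x).1 hx
      exact e ▸ hP.conj g
  have hPeq : P = (T : Subgroup G) := (eq_or_lt_of_le hPT).resolve_right hlt
  have hmax : ∀ Q : Subgroup G, IsPGroup 2 Q → Nat.card Q ≤ 2 ^ n * 2 ^ n * 2 ^ n := fun Q hQ => by
    obtain ⟨S, hS⟩ := hQ.exists_le_sylow
    calc Nat.card Q ≤ Nat.card (S : Subgroup G) :=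
          Nat.card_le_card_of_injective _ (Subgroup.inclusion_injective hS)
      _ = Nat.card (T : Subgroup G) := by rw [S.card_eq_multiplicity, T.card_eq_multiplicity]
      _ = 2 ^ n * 2 ^ n * 2 ^ n := by rw [← hPeq, hP.card]
  have hDP := h.le_syl hP
  obtain ⟨Z, hZD, hZc, hZ⟩ := h.fix hC hP
  have hone : 1 < 2 ^ n := Nat.one_lt_two_pow (by omega)
  obtain ⟨z₀, hz₀, hz₀1⟩ : ∃ z ∈ Z, z ≠ 1 := by
    refine Z.bot_or_exists_ne_one.resolve_left fun e => ?_
    rw [e, Subgroup.card_bot] at hZc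
    omega
  have hCz : ∀ z ∈ Z, z ≠ 1 → Subgroup.centralizer ({z} : Set G) = P := fun z hz hz1 =>
    (Subgroup.eq_of_le_of_card_ge (fun x hx => Subgroup.mem_centralizer_singleton_iff.2
        (h.fix_central hP hZD hZ hz hx).symm)
      ((hmax _ (hC z (orderOf_two_iff.2 ⟨h.sq (hZD hz), hz1⟩))).trans hP.card.ge)).symm
  -- a conjugate outside
  by_cases ha : ∃ g : G, g * z₀ * g⁻¹ ∈ P ∧ g * z₀ * g⁻¹ ∉ D
  swap
  · exfalso
    push Not at ha
    let K : Set G := {x | ∃ g, g * z₀ * g⁻¹ = x}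
    have hKconj : ∀ x ∈ K, ∀ g : G, g * x * g⁻¹ ∈ K := by
      rintro _ ⟨a, rfl⟩ g
      exact ⟨g * a, by group⟩
    have hKP : ∀ x ∈ K, x ∈ P → x ∈ D := by
      rintro _ ⟨g, rfl⟩ hx
      exact ha g hx
    have hKD : ∀ d ∈ D, d ≠ 1 → d ∈ K := fun d hd hd1 => by
      obtain ⟨g, -, hg⟩ := (h.cent_syl hC (hZD hz₀) hz₀1).2 d hd hd1
      exact ⟨g, hg⟩
    have hKinv : ∀ x ∈ K, orderOf x = 2 := by
      rintro _ ⟨g, rfl⟩
      refine orderOf_two_iff.2 ⟨?_, fun e => hz₀1 (conj_eq_one_iff.1 e)⟩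
      rw [show g * z₀ * g⁻¹ * (g * z₀ * g⁻¹) = g * (z₀ * z₀) * g⁻¹ by group, h.sq (hZD hz₀), mul_one, mul_inv_cancel]
    have hsyl : ∀ t : G, orderOf t = 2 → ∃ g : G, Subgroup.centralizer ({t} : Set G) ≤ conjS g P := fun t ht => by
      obtain ⟨S, hS⟩ := (hC t ht).exists_le_sylow
      obtain ⟨g, hg⟩ := MulAction.exists_smul_eq G T S
      exact ⟨g, hS.trans (le_of_eq (by rw [hPeq, ← hg]; rfl))⟩
    obtain ⟨v₀, hv₀P, hv₀D, hv₀⟩ := h.exists_invol_out hC hP
    have hv₀K : v₀ ∉ K := fun hK => hv₀D (hKP _ hK hv₀P)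
    obtain ⟨v, hv, hvP, hvD, hvK, hCv⟩ : ∃ v : G, orderOf v = 2 ∧ v ∈ P ∧ v ∉ D ∧ v ∉ K ∧
        Subgroup.centralizer ({v} : Set G) ≤ P := by
      obtain ⟨g, hg⟩ := hsyl v₀ hv₀
      have hmem : v₀ ∈ Subgroup.centralizer ({v₀} : Set G) := Subgroup.mem_centralizer_singleton_iff.2 rfl
      have hK : g⁻¹ * v₀ * g ∉ K := fun hK => hv₀K (by
        have := hKconj _ hK g
        rwa [show g * (g⁻¹ * v₀ * g) * g⁻¹ = v₀ by group] at this)
      have ho : orderOf (g⁻¹ * v₀ * g) = 2 := by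
        have := orderOf_injective (MulAut.conj g⁻¹).toMonoidHom (MulAut.conj g⁻¹).injective v₀
        rwa [hv₀, show (MulAut.conj g⁻¹).toMonoidHom v₀ = g⁻¹ * v₀ * g by simp] at this
      refine ⟨g⁻¹ * v₀ * g, ho, mem_conjS.1 (hg hmem), fun hD => hK (hKD _ hD (orderOf_two_iff.1 ho).2), hK,
        fun y hy => ?_⟩
      have hy' : g * y * g⁻¹ ∈ Subgroup.centralizer ({v₀} : Set G) := Subgroup.mem_centralizer_singleton_iff.2 (by
        calc g * y * g⁻¹ * v₀ = g * (y * (g⁻¹ * v₀ * g)) * g⁻¹ := by group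
          _ = g * (g⁻¹ * v₀ * g * y) * g⁻¹ := by rw [Subgroup.mem_centralizer_singleton_iff.1 hy]
          _ = v₀ * (g * y * g⁻¹) := by group)
      have := mem_conjS.1 (hg hy')
      rwa [show g⁻¹ * (g * y * g⁻¹) * g = y by group] at this
    -- every conjugate lies in `D`
    have hsub : ∀ u ∈ K, u ∈ D := by
      intro u hu
      refine hKP u hu ?_
      rcases Fusion.SEPairs.odd_or_common (hKinv u hu) hv with hodd | ⟨w, hw, hwu, hwv⟩
      · exfalso
        obtain ⟨i, -, hi, -⟩ := Fusion.SEPairs.exists_middle (hKinv u hu) hv hodd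
        exact hvK (hi ▸ hKconj u hu i)
      have hwP : w ∈ P := hCv (Subgroup.mem_centralizer_singleton_iff.2 hwv)
      by_cases hwD : w ∈ D
      · have hwZ : w ∈ Z := (hZ v hvP hvD).le
          (Subgroup.mem_inf.2 ⟨hwD, Subgroup.mem_centralizer_singleton_iff.2 hwv⟩)
        rw [← hCz w hwZ (orderOf_two_iff.1 hw).2]
        exact Subgroup.mem_centralizer_singleton_iff.2 hwu.symm
      have hwK : w ∉ K := fun hK => hwD (hKP w hK hwP)
      obtain ⟨g, hg⟩ := hsyl w hw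
      have hkey : ∀ g₁ : G, w ∈ conjS g₁ P → conjS g₁ P = conjS g P := by
        intro g₁ hg₁
        have hz' : g₁ * z₀ * g₁⁻¹ ∈ Subgroup.centralizer ({w} : Set G) := by
          refine Subgroup.mem_centralizer_singleton_iff.2 ?_
          have := h.fix_central hP hZD hZ hz₀ (mem_conjS.1 hg₁)
          calc g₁ * z₀ * g₁⁻¹ * w = g₁ * (z₀ * (g₁⁻¹ * w * g₁)) * g₁⁻¹ := by group
            _ = g₁ * (g₁⁻¹ * w * g₁ * z₀) * g₁⁻¹ := by rw [this]
            _ = w * (g₁ * z₀ * g₁⁻¹) := by group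
        set y := g⁻¹ * (g₁ * z₀ * g₁⁻¹) * g with hy
        have hyP : y ∈ P := mem_conjS.1 (hg hz')
        have hyK : y ∈ K := ⟨g⁻¹ * g₁, by rw [hy]; group⟩
        have hwg : g⁻¹ * w * g ∈ P := mem_conjS.1 (hg (Subgroup.mem_centralizer_singleton_iff.2 rfl))
        have hwgD : g⁻¹ * w * g ∉ D := fun hD => hwK (by
          have := hKconj _ (hKD _ hD fun e => (orderOf_two_iff.1 hw).2 (by
            have e' := congrArg (fun x => g * x * g⁻¹) e
            simpa [mul_assoc] using e')) g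
          rwa [show g * (g⁻¹ * w * g) * g⁻¹ = w by group] at this)
        have hyZ : y ∈ Z := (hZ _ hwg hwgD).le (Subgroup.mem_inf.2 ⟨hKP y hyK hyP,
          Subgroup.mem_centralizer_singleton_iff.2 (by
            calc y * (g⁻¹ * w * g) = g⁻¹ * (g₁ * z₀ * g₁⁻¹ * w) * g := by rw [hy]; group
              _ = g⁻¹ * (w * (g₁ * z₀ * g₁⁻¹)) * g := by rw [Subgroup.mem_centralizer_singleton_iff.1 hz']
              _ = g⁻¹ * w * g * y := by rw [hy]; group)⟩)
        have e2 := hCz y hyZ (orderOf_two_iff.1 (hKinv y hyK)).2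
        refine Subgroup.eq_of_le_of_card_ge (fun x hx => mem_conjS.2 (e2.le ?_)) (by rw [card_conjS, card_conjS])
        refine Subgroup.mem_centralizer_singleton_iff.2 ?_
        have := h.fix_central hP hZD hZ hz₀ (mem_conjS.1 hx)
        calc g⁻¹ * x * g * y = g⁻¹ * g₁ * (g₁⁻¹ * x * g₁ * z₀) * g₁⁻¹ * g := by rw [hy]; group
          _ = g⁻¹ * g₁ * (z₀ * (g₁⁻¹ * x * g₁)) * g₁⁻¹ * g := by rw [this]
          _ = y * (g⁻¹ * x * g) := by rw [hy]; group
      have h1 : conjS (1 : G) P = P := by ext x; rw [mem_conjS]; simp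
      have e := hkey 1 (h1.ge hwP)
      rw [h1] at e
      exact e.ge (hg (Subgroup.mem_centralizer_singleton_iff.2 hwu.symm))
    haveI hKn : (Subgroup.closure K).Normal := by
      refine ⟨fun x hx g => ?_⟩
      induction hx using Subgroup.closure_induction with
      | mem y hy => exact Subgroup.subset_closure (hKconj y hy g)
      | one => rw [mul_one, mul_inv_cancel]; exact one_mem _
      | mul y y' _ _ hy hy' =>
        rw [show g * (y * y') * g⁻¹ = g * y * g⁻¹ * (g * y' * g⁻¹) by group]; exact mul_mem hy hy'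
      | inv y _ hy => rw [show g * y⁻¹ * g⁻¹ = (g * y * g⁻¹)⁻¹ by group]; exact inv_mem hy
    have hle : Subgroup.closure K ≤ D := (Subgroup.closure_le D).2 hsub
    rcases IsSimpleGroup.eq_bot_or_eq_top_of_normal _ hKn with e | e
    · exact hz₀1 (Subgroup.mem_bot.1 (e.le (Subgroup.subset_closure ⟨1, by group⟩)))
    · exact hv₀D (hle (e.ge trivial))
  obtain ⟨g, heP, heD⟩ := ha
  set e := g * z₀ * g⁻¹ with hedef
  set Z' := conjS g Z with hZ'
  set P' := conjS g P with hP'def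
  have hP' : ExcIn.Syl n (conjS g D) P' := hP.conj g
  have hZ'D : Z' ≤ conjS g D := Subgroup.map_mono hZD
  have hZ'c : Nat.card Z' = 2 ^ n := (card_conjS g Z).trans hZc
  have hZ'fix : ∀ x ∈ P', x ∉ conjS g D → conjS g D ⊓ Subgroup.centralizer ({x} : Set G) = Z' := by
    rintro _ ⟨x, hx, rfl⟩ hxD
    have hxD' : x ∉ D := fun hd => hxD ⟨x, hd, rfl⟩
    ext v
    show v ∈ conjS g D ⊓ Subgroup.centralizer ({g * x * g⁻¹} : Set G) ↔ v ∈ Z'
    rw [Subgroup.mem_inf, hZ', mem_conjS, mem_conjS, Subgroup.mem_centralizer_singleton_iff]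
    rw [← hZ x hx hxD', Subgroup.mem_inf, Subgroup.mem_centralizer_singleton_iff]
    refine and_congr_right fun _ => ⟨fun hv => ?_, fun hv => ?_⟩
    · calc g⁻¹ * v * g * x = g⁻¹ * (v * (g * x * g⁻¹)) * g := by group
        _ = g⁻¹ * (g * x * g⁻¹ * v) * g := by rw [hv]
        _ = x * (g⁻¹ * v * g) := by group
    · calc v * (g * x * g⁻¹) = g * (g⁻¹ * v * g * x) * g⁻¹ := by group
        _ = g * (x * (g⁻¹ * v * g)) * g⁻¹ := by rw [hv]
        _ = g * x * g⁻¹ * v := by group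
  have heZ' : e ∈ Z' := ⟨z₀, hz₀, rfl⟩
  have he1 : e ≠ 1 := fun e0 => hz₀1 (conj_eq_one_iff.1 e0)
  have hCe : Subgroup.centralizer ({e} : Set G) = P' := by
    ext x
    rw [hP'def, mem_conjS, ← hCz z₀ hz₀ hz₀1, Subgroup.mem_centralizer_singleton_iff,
      Subgroup.mem_centralizer_singleton_iff]
    refine ⟨fun hx => ?_, fun hx => ?_⟩
    · calc g⁻¹ * x * g * z₀ = g⁻¹ * (x * e) * g := by rw [hedef]; group
        _ = g⁻¹ * (e * x) * g := by rw [hx]
        _ = z₀ * (g⁻¹ * x * g) := by rw [hedef]; group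
    · calc x * e = g * (g⁻¹ * x * g * z₀) * g⁻¹ := by rw [hedef]; group
        _ = g * (z₀ * (g⁻¹ * x * g)) * g⁻¹ := by rw [hx]
        _ = e * x := by rw [hedef]; group
  have hZP : Z ≤ P := hZD.trans hDP
  have hZP' : Z ≤ P' := fun z hz => by
    rw [← hCe]
    exact Subgroup.mem_centralizer_singleton_iff.2 (h.fix_central hP hZD hZ hz heP)
  have hZ'P' : Z' ≤ P' := Subgroup.map_mono hZP
  have hcen' : ∀ z ∈ Z', ∀ x ∈ P', z * x = x * z := fun z hz x hx =>
    (h.conj g).fix_central hP' hZ'D hZ'fix hz hx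
  have hZ'P : Z' ≤ P := fun z hz => by
    rw [← hCz z₀ hz₀ hz₀1]
    exact Subgroup.mem_centralizer_singleton_iff.2 (hcen' z hz z₀ (hZP' hz₀))
  have hPP' : P ≠ P' := fun e0 => heD (by
    have hd : ∀ d ∈ D, d ∈ Subgroup.centralizer ({e} : Set G) := fun d hd => by rw [hCe, ← e0]; exact hDP hd
    have hle : D ≤ Z := fun d hd' => (hZ e heP heD).le (Subgroup.mem_inf.2 ⟨hd', hd d hd'⟩)
    have h1 := Nat.card_le_card_of_injective _ (Subgroup.inclusion_injective hle)
    rw [h.card_D, hZc] at h1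
    nlinarith)
  have hdis : ∀ z ∈ Z, z ∈ Z' → z = 1 := fun z hz hz' => by
    by_contra hz1
    refine hPP' (le_antisymm (fun x hx => ?_) fun x hx => ?_)
    · obtain ⟨z', hz', rfl⟩ := hz'
      have hz'1 : z' ≠ 1 := fun e0 => hz1 (by rw [e0]; simp)
      have : x ∈ Subgroup.centralizer ({g * z' * g⁻¹} : Set G) :=
        Subgroup.mem_centralizer_singleton_iff.2 (h.fix_central hP hZD hZ hz hx).symm
      rw [hP'def, mem_conjS, ← hCz z' hz' hz'1, Subgroup.mem_centralizer_singleton_iff]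
      calc g⁻¹ * x * g * z' = g⁻¹ * (x * (g * z' * g⁻¹)) * g := by group
        _ = g⁻¹ * (g * z' * g⁻¹ * x) * g := by rw [Subgroup.mem_centralizer_singleton_iff.1 this]
        _ = z' * (g⁻¹ * x * g) := by group
    · rw [← hCz z hz hz1]
      exact Subgroup.mem_centralizer_singleton_iff.2 (hcen' z hz' x hx).symm
  -- the product of the two fixed subgroups
  set E := Z ⊔ Z' with hE
  have hEP : E ≤ P := sup_le hZP hZ'P
  have hEP' : E ≤ P' := sup_le hZP' hZ'P'
  have hprod : ∀ x ∈ E, ∃ a ∈ Z, ∃ b ∈ Z', a * b = x := by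
    intro x hx
    have hn' : Z' ≤ Subgroup.normalizer (Z : Set G) := fun b hb => by
      refine Subgroup.mem_normalizer_iff.2 fun y => ⟨fun hy => ?_, fun hy => ?_⟩
      · rwa [hcen' b hb y (hZP' hy), mul_inv_cancel_right]
      · have h2 := hcen' b hb _ (hZP' hy)
        have : y = b * y * b⁻¹ := by
          calc y = b⁻¹ * (b * y * b⁻¹ * b) := by group
            _ = b⁻¹ * (b * (b * y * b⁻¹)) := by rw [h2]
            _ = b * y * b⁻¹ := by group
        rwa [← this] at hy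
    have := (Subgroup.coe_mul_of_right_le_normalizer_left Z Z' hn').le hx
    obtain ⟨a, ha, b, hb, rfl⟩ := this
    exact ⟨a, ha, b, hb, rfl⟩
  have hEsq : ∀ x ∈ E, x * x = 1 := by
    intro x hx
    obtain ⟨a, ha, b, hb, rfl⟩ := hprod x hx
    rw [show a * b * (a * b) = a * (b * a) * b by group, hcen' b hb a (hZP' ha),
      show a * (a * b) * b = a * a * (b * b) by group, h.sq (hZD ha), (h.conj g).sq (hZ'D hb), one_mul]
  have hEc : Nat.card E = 2 ^ n * 2 ^ n := by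
    rw [← congrArg₂ (· * ·) hZc hZ'c, ← Nat.card_prod]
    refine (Nat.card_congr (Equiv.ofBijective (fun p : Z × Z' => (⟨p.1 * p.2,
      mul_mem ((le_sup_left : Z ≤ E) p.1.2) ((le_sup_right : Z' ≤ E) p.2.2)⟩ : E)) ⟨?_, ?_⟩)).symm
    · rintro ⟨a, b⟩ ⟨a', b'⟩ e0
      have e1 : (a : G) * b = a' * b' := congrArg Subtype.val e0
      have e2 : (a' : G)⁻¹ * a = b' * (b : G)⁻¹ := by
        calc (a' : G)⁻¹ * a = (a' : G)⁻¹ * (a * b) * (b : G)⁻¹ := by group
          _ = (a' : G)⁻¹ * (a' * b') * (b : G)⁻¹ := by rw [e1]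
          _ = b' * (b : G)⁻¹ := by group
      have h1 := hdis _ (mul_mem (inv_mem a'.2) a.2) (e2 ▸ mul_mem b'.2 (inv_mem b.2))
      refine Prod.ext (Subtype.ext (inv_mul_eq_one.1 h1).symm) (Subtype.ext ?_)
      rw [e2, mul_inv_eq_one] at h1
      exact h1.symm
    · rintro ⟨x, hx⟩
      obtain ⟨a, ha, b, hb, rfl⟩ := hprod x hx
      exact ⟨(⟨a, ha⟩, ⟨b, hb⟩), rfl⟩
  have hED : E ≠ D := fun e0 => heD (e0.le ((le_sup_right : Z' ≤ E) heZ'))
  have hPnE : P ≤ Subgroup.normalizer (E : Set G) := fun x hx =>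
    h.other_normalized hC hP hEP hEsq hEc hED (hP.le hx) (Subgroup.le_normalizer hx)
  by_cases hEg : E = conjS g D
  · exact ⟨conjS g D, P, h.conj g, hEg ▸ hED, hP, ⟨hEg ▸ hPnE, hP.two, hP.card⟩⟩
  have hP'nE : P' ≤ Subgroup.normalizer (E : Set G) := fun x hx =>
    (h.conj g).other_normalized hC hP' hEP' hEsq hEc hEg (hP'.le hx) (Subgroup.le_normalizer hx)
  obtain ⟨hEDZ, hcov, -⟩ := h.other hP hZD hZc hZ hEP hEsq hEc hED
  have hCE : Subgroup.centralizer (E : Set G) = E := by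
    refine le_antisymm (fun x hx => ?_) fun x hx => Subgroup.mem_centralizer_iff.2 fun y hy => ?_
    · have hxz : x ∈ P := by
        rw [← hCz z₀ hz₀ hz₀1]
        exact Subgroup.mem_centralizer_singleton_iff.2 (Subgroup.mem_centralizer_iff.1 hx z₀ ((le_sup_left : Z ≤ E) hz₀)).symm
      by_contra hxE
      have heE : e ∈ E := (le_sup_right : Z' ≤ E) heZ'
      exact heD (hZD ((h.cent_other hP hZD hZc hZ hEP hEsq hEc hED hxz hxE).le (Subgroup.mem_inf.2
        ⟨heE, Subgroup.mem_centralizer_singleton_iff.2 (Subgroup.mem_centralizer_iff.1 hx e heE)⟩)))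
    · have e1 := hEsq _ (mul_mem hy hx)
      rwa [mul_eq_one_iff_eq_inv, mul_inv_rev, inv_eq_of_mul_eq_one_right (hEsq y hy),
        inv_eq_of_mul_eq_one_right (hEsq x hx)] at e1
  set H := Subgroup.normalizer (E : Set G) with hH
  have hEH : E ≤ H := Subgroup.le_normalizer
  haveI : (E.subgroupOf H).Normal := ⟨fun v hv y => (Subgroup.mem_normalizer_iff.1 y.2 v).1 hv⟩
  have hE2 : IsPGroup 2 E := IsPGroup.of_card (n := n + n) (by rw [hEc, pow_add])
  have hsylH : ∀ Q : Subgroup G, Q ≤ H → IsPGroup 2 Q → Nat.card Q = 2 ^ n * 2 ^ n * 2 ^ n →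
      ∃ S : Sylow 2 H, (S : Subgroup H) = Q.subgroupOf H := fun Q hQH hQ2 hQc => by
    obtain ⟨S, hS⟩ := (hQ2.comap_subtype (K := H)).exists_le_sylow
    refine ⟨S, (Subgroup.eq_of_le_of_card_ge hS ?_).symm⟩
    show Nat.card (S : Subgroup H) ≤ Nat.card (Q.subgroupOf H)
    rw [Nat.card_congr (Subgroup.subgroupOfEquivOfLe hQH).toEquiv, hQc, ← Solv.card_map_subtype (S : Subgroup H)]
    exact hmax _ (S.isPGroup'.map _)
  obtain ⟨S, hS⟩ := hsylH P hPnE hP.two hP.card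
  obtain ⟨S', hS'⟩ := hsylH P' hP'nE hP'.two hP'.card
  haveI := Solv.pCore_normal (G := H) 2
  have hO : Cfsg.pCore 2 H = E.subgroupOf H := by
    refine le_antisymm (fun x hx => ?_) (Solv.normal_le_pCore hE2.comap_subtype)
    by_contra hxE
    have h1 : (x : G) ∈ P := hS.le (core_le_sylow S hx)
    have h2 : (x : G) ∈ P' := hS'.le (core_le_sylow S' hx)
    have e1 := h.cent_other hP hZD hZc hZ hEP hEsq hEc hED h1 hxE
    have e2 := (h.conj g).cent_other hP' hZ'D hZ'c hZ'fix hEP' hEsq hEc hEg h2 hxE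
    exact he1 (hdis e (e1.symm.trans e2 |>.ge heZ') heZ')
  set A := D.subgroupOf H with hA
  haveI : IsMulCommutative A := ⟨⟨fun a b => Subtype.ext (Subtype.ext (h.comm a.2 b.2))⟩⟩
  have hDH : D ≤ H := hDP.trans hPnE
  have hAS : A ≤ (S : Subgroup H) := hS ▸ Subgroup.comap_mono hDP
  have hAD : ¬ A ≤ Cfsg.pCore 2 H := fun hle => hED (Subgroup.eq_of_le_of_card_ge (fun d hd =>
    (hO ▸ hle) (x := ⟨d, hDH hd⟩) hd) (hEc.trans h.card_D.symm).le).symm
  have hAmax : ∀ B : Subgroup H, B ≤ (S : Subgroup H) → IsMulCommutative B → Nat.card B ≤ Nat.card A := by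
    intro B hB hBc
    rw [hA, Nat.card_congr (Subgroup.subgroupOfEquivOfLe hDH).toEquiv, h.card_D, ← Solv.card_map_subtype B]
    set B' := B.map H.subtype with hB'
    have hB'P : B' ≤ P := by rintro _ ⟨b, hb, rfl⟩; exact hS.le (hB hb)
    by_cases hBD : B' ≤ D
    · exact h.card_D ▸ Nat.card_le_card_of_injective _ (Subgroup.inclusion_injective hBD)
    obtain ⟨x, hx, hxD⟩ := SetLike.not_le_iff_exists.1 hBD
    have hinf : B' ⊓ D ≤ Z := by
      rw [← hZ x (hB'P hx) hxD]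
      intro v hv
      refine Subgroup.mem_inf.2 ⟨hv.2, Subgroup.mem_centralizer_singleton_iff.2 ?_⟩
      obtain ⟨v, hv', rfl⟩ := hv.1
      obtain ⟨x, hx', rfl⟩ := hx
      exact congrArg Subtype.val (congrArg Subtype.val (mul_comm' (⟨v, hv'⟩ : B) ⟨x, hx'⟩))
    haveI : (D.subgroupOf P).Normal := ⟨fun v hv y => h.conj_mem hP y.2 hv⟩
    set f : B' →* P ⧸ D.subgroupOf P := (QuotientGroup.mk' (D.subgroupOf P)).comp (Subgroup.inclusion hB'P) with hf
    have hQ : Nat.card (P ⧸ D.subgroupOf P) = 2 ^ n := by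
      have e0 := (D.subgroupOf P).card_eq_card_quotient_mul_card_subgroup
      rw [Nat.card_congr (Subgroup.subgroupOfEquivOfLe hDP).toEquiv, h.card_D, hP.card] at e0
      exact (Nat.eq_of_mul_eq_mul_right (Nat.mul_pos (pow_pos two_pos n) (pow_pos two_pos n))
        (by linarith)).symm
    have hker : Nat.card f.ker = Nat.card ↥(B' ⊓ D) := by
      refine Nat.card_congr ⟨fun a => ⟨a.1, a.1.2, ?_⟩, fun v => ⟨⟨v, v.2.1⟩, ?_⟩, fun a => rfl, fun v => rfl⟩
      · exact (QuotientGroup.eq_one_iff (N := D.subgroupOf P) ⟨a.1.1, hB'P a.1.2⟩).1 a.2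
      · exact (QuotientGroup.eq_one_iff (N := D.subgroupOf P) ⟨v.1, hB'P v.2.1⟩).2 v.2.2
    calc Nat.card B' = Nat.card f.range * Nat.card ↥(B' ⊓ D) := by
          rw [← hker, ← Subgroup.index_ker f, mul_comm, Subgroup.card_mul_index]
      _ ≤ 2 ^ n * 2 ^ n := Nat.mul_le_mul (hQ ▸ Subgroup.card_le_card_group f.range)
          (hZc ▸ Nat.card_le_card_of_injective _ (Subgroup.inclusion_injective hinf))
  have hne : E ≠ ⊥ := fun e0 => he1 (Subgroup.mem_bot.1 (e0.le ((le_sup_right : Z' ≤ E) heZ')))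
  have hcore : Cfsg.pCore 2 H ≠ ⊥ := fun e0 =>
    hne ((Subgroup.subgroupOf_eq_bot.1 (hO.symm.trans e0)).eq_bot_of_le hEH)
  have hcc : Nat.card (Cfsg.pCore 2 H) = 2 ^ n * 2 ^ n := by
    rw [hO, Nat.card_congr (Subgroup.subgroupOfEquivOfLe hEH).toEquiv, hEc]
  by_cases hsolv : Group.IsSolvable H
  · exfalso
    have hnn : ∀ Q : Sylow 2 H, ¬ (Q : Subgroup H).Normal := fun Q hQ => by
      haveI := hQ
      have hle : (Q : Subgroup H) ≤ Cfsg.pCore 2 H := Solv.normal_le_pCore Q.isPGroup'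
      haveI := Sylow.unique_of_normal Q hQ
      exact hAD ((hAS.trans (le_of_eq (by rw [Subsingleton.elim S Q]))).trans hle)
    obtain ⟨r, x, hr, hr2, hxo, hx, hxn, hcodd⟩ := (hC.subgroup H).exists_data hsolv hcore hnn
    haveI := Fact.mk hr
    haveI := Solv.EPPOSeven.omegaCen_comm (Cfsg.pCore 2 H)
    haveI := Solv.EPPOSeven.omegaCen_normal (Cfsg.pCore 2 H)
    obtain ⟨h4, -⟩ := (hC.subgroup H).solvable_offender hr2 hxo hx hxn hcodd hcore (S.isPGroup'.to_le hAS) hAD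
      (offender_le (Solv.EPPOSeven.omegaCen_le _) hAS hAmax
        fun a _ ha w hw => Subgroup.mem_centralizer_iff.1 hw.2.1 a ha)
    have hom : omegaCen (Cfsg.pCore 2 H) = Cfsg.pCore 2 H := by
      refine le_antisymm (Solv.EPPOSeven.omegaCen_le _) fun d hd => ⟨hd, Subgroup.mem_centralizer_iff.2 fun c hc => ?_, ?_⟩
      · have hd' : (d : G) ∈ E := hO.le hd
        have hc' : (c : G) ∈ E := hO.le hc
        exact Subtype.ext (Subgroup.mem_centralizer_iff.1 (hCE.ge hd') _ hc')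
      · exact Subtype.ext (hEsq _ (hO.le hd))
    rw [hom, hcc] at h4
    have : 4 ≤ 2 ^ n := le_trans (by norm_num) (Nat.pow_le_pow_right two_pos hn)
    nlinarith
  · have hbH : Below.{u} (Nat.card H) := fun K _ _ hK => hb K (hK.trans_le (Subgroup.card_le_card_group H))
    obtain ⟨m, hm⟩ := (hC.subgroup H).exc_of_offender hsolv hcore hbH hAS hAD hAmax
    have hmn : m = n := by
      have e0 := hm.card_D
      rw [hcc, ← pow_add, ← pow_add] at e0
      have := Nat.pow_right_injective le_rfl e0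
      omega
    subst hmn
    refine ⟨E, P, ⟨?_, hCE⟩, hED, hP, hPnE, hP.two, hP.card⟩
    refine hm.map (MulEquiv.refl H) ?_
    show (Cfsg.pCore 2 H).map (MonoidHom.id H) = _
    rw [Subgroup.map_id, hO]

end Cfsg.Agent.Solv.CITGroups
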