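import Cfsg.Agent.Lib.Solv.CIT.ExcPair

/-!
Two exceptional subgroups sharing a Sylow 2-subgroup: the field has four elements.
-/

set_option autoImplicit false
set_option linter.style.haveILetI false
set_option linter.unusedSectionVars false

namespace Cfsg.Agent.Solv.CITGroups

open Cfsg

universe u

variable {G : Type u} [Group G] [Finite G]

theorem conj_swap_pow {D : Subgroup G} (hcomm : ∀ a ∈ D, ∀ b ∈ D, a * b = b * a) {w k : G}
    (hw : w ∈ Subgroup.normalizer (D : Set G)) (hk : k ∈ Subgroup.normalizer (D : Set G))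
    (h : w * k * w⁻¹ * k ∈ D) (j : ℕ) : ∀ z ∈ D,
      w * (k ^ j * z * (k ^ j)⁻¹) * w⁻¹ = (k ^ j)⁻¹ * (w * z * w⁻¹) * k ^ j := by
  have h1 : ∀ z ∈ D, w * (k * z * k⁻¹) * w⁻¹ = k⁻¹ * (w * z * w⁻¹) * k := by
    intro z hz
    have hwz := (Subgroup.mem_normalizer_iff.1 hw z).1 hz
    have hv := (Subgroup.mem_normalizer_iff.1 (inv_mem hk) _).1 hwz
    calc w * (k * z * k⁻¹) * w⁻¹
        = (w * k * w⁻¹ * k) * (k⁻¹ * (w * z * w⁻¹) * k⁻¹⁻¹) * (w * k * w⁻¹ * k)⁻¹ := by group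
      _ = k⁻¹ * (w * z * w⁻¹) * k⁻¹⁻¹ := by rw [hcomm _ h _ hv, mul_inv_cancel_right]
      _ = k⁻¹ * (w * z * w⁻¹) * k := by rw [inv_inv]
  induction j with
  | zero => intro z _; simp
  | succ j ih =>
    intro z hz
    have hkz := (Subgroup.mem_normalizer_iff.1 hk z).1 hz
    rw [show k ^ (j + 1) * z * (k ^ (j + 1))⁻¹ = k ^ j * (k * z * k⁻¹) * (k ^ j)⁻¹ by rw [pow_succ]; group,
      ih _ hkz, h1 z hz]
    rw [pow_succ']
    group

theorem ExcIn.weight {n : ℕ} {D E P : Subgroup G} (h : ExcIn n D) (h' : ExcIn n E) (hC : CIT G)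
    (hP : ExcIn.Syl n D P) (hP' : ExcIn.Syl n E P) (hne : E ≠ D) : n = 2 := by
  classical
  obtain ⟨Z, hZD, hZc, hZ⟩ := h.fix hC hP
  obtain ⟨Z₂, hZ₂E, hZ₂c, hZ₂⟩ := h'.fix hC hP'
  have hEP : E ≤ P := h'.le_syl hP'
  have hEsq : ∀ a ∈ E, a * a = 1 := fun a ha => h'.sq ha
  obtain ⟨hED, -, -⟩ := h.other hP hZD hZc hZ hEP hEsq h'.card_D hne
  have hcen : ∀ z ∈ Z, P ≤ Subgroup.centralizer ({z} : Set G) := fun z hz x hx =>
    Subgroup.mem_centralizer_singleton_iff.2 (h.fix_central hP hZD hZ hz hx).symm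
  obtain ⟨k, hkD, hkP, hkodd, hkord, -⟩ := h.gen hP
  have hkE := h.other_normalized hC hP hEP hEsq h'.card_D hne hkD hkP
  obtain ⟨w, hwN, hwk, -, hwne, s, hsP, hsD, hs⟩ := h.triple hC hP hkD hkP hkodd
  obtain ⟨w₂, hw₂N, hw₂k, -, hw₂ne, -⟩ := h'.triple hC hP' hkE hkP hkodd
  have hZE : Z ≤ E := fun z hz => (hED.ge hz).1
  have hZk : ∀ (j : ℕ), ∀ z ∈ Z, k ^ j * z * (k ^ j)⁻¹ ∈ Z := fun j z hz => hED.le
    ⟨(Subgroup.mem_normalizer_iff.1 (pow_mem hkE j) z).1 (hZE hz),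
      (Subgroup.mem_normalizer_iff.1 (pow_mem hkD j) z).1 (hZD hz)⟩
  have hq : 2 ≤ n := h.two_le
  have hfix : ∀ (j : ℕ), ∀ z ∈ Z, z ≠ 1 → k ^ j * z * (k ^ j)⁻¹ = z → k ^ j = 1 := fun j z hz hz1 e =>
    hC.eq_one_of_commute (orderOf_two_iff.2 ⟨h.sq (hZD hz), hz1⟩)
      (hkodd.of_dvd_nat (orderOf_pow_dvd j)) (mul_inv_eq_iff_eq_mul.1 e)
  obtain ⟨z₀, hz₀, hz₀1⟩ : ∃ z ∈ Z, z ≠ 1 := by
    refine Z.bot_or_exists_ne_one.resolve_left fun e => ?_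
    rw [e, Subgroup.card_bot] at hZc
    exact (Nat.one_lt_two_pow (show n ≠ 0 by omega)).ne hZc
  -- the twisted commutator
  let f : G → G → G := fun x z => x * (w * z * w⁻¹) * x⁻¹ * (w * z * w⁻¹)
  have hwD : ∀ z ∈ Z, w * z * w⁻¹ ∈ D := fun z hz => (Subgroup.mem_normalizer_iff.1 hwN z).1 (hZD hz)
  have hfD : ∀ x ∈ D, ∀ z ∈ Z, f x z = 1 := fun x hx z hz => by
    show x * (w * z * w⁻¹) * x⁻¹ * (w * z * w⁻¹) = 1
    rw [h.comm hx (hwD z hz), mul_inv_cancel_right, h.sq (hwD z hz)]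
  have hfZ : ∀ x ∈ P, ∀ z ∈ Z, f x z ∈ Z := by
    intro x hx z hz
    have hd := hwD z hz
    have hxd := h.conj_mem hP hx hd
    by_cases hxD : x ∈ D
    · rw [hfD x hxD z hz]; exact one_mem Z
    refine (hZ x hx hxD).le (Subgroup.mem_inf.2 ⟨mul_mem hxd hd, Subgroup.mem_centralizer_singleton_iff.2 ?_⟩)
    have hxx := h.square_mem hP hx
    have e1 : x * f x z * x⁻¹ = f x z := by
      calc x * f x z * x⁻¹ = x * x * (w * z * w⁻¹) * (x * x)⁻¹ * (x * (w * z * w⁻¹) * x⁻¹) := by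
            show x * (x * (w * z * w⁻¹) * x⁻¹ * (w * z * w⁻¹)) * x⁻¹ = _
            group
        _ = w * z * w⁻¹ * (x * (w * z * w⁻¹) * x⁻¹) := by rw [h.comm hxx hd, mul_inv_cancel_right]
        _ = f x z := h.comm hd hxd
    exact (mul_inv_eq_iff_eq_mul.1 e1).symm
  have hfmul : ∀ x ∈ P, ∀ y ∈ P, ∀ z ∈ Z, f (x * y) z = f x z * f y z := by
    intro x hx y hy z hz
    have hv := hfZ y hy z hz
    have h2 := h.sq (hwD z hz)
    calc f (x * y) z = x * (y * (w * z * w⁻¹) * y⁻¹ * (w * z * w⁻¹)) * (w * z * w⁻¹)⁻¹ * x⁻¹ * (w * z * w⁻¹) := by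
          show x * y * (w * z * w⁻¹) * (x * y)⁻¹ * (w * z * w⁻¹) = _
          group
      _ = x * (f y z * (w * z * w⁻¹)) * x⁻¹ * (w * z * w⁻¹) := by rw [h.eq_inv (hwD z hz)]; simp only [f, mul_assoc]
      _ = f y z * (x * (w * z * w⁻¹) * x⁻¹ * (w * z * w⁻¹)) := by
          rw [← mul_assoc x, ← h.fix_central hP hZD hZ hv hx]
          group
      _ = f x z * f y z := h.comm (hZD hv) (hZD (hfZ x hx z hz))
  have hflin : ∀ x ∈ P, ∀ a ∈ Z, ∀ b ∈ Z, f x (a * b) = f x a * f x b := by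
    intro x hx a ha b hb
    have h1 := h.conj_mem hP hx (hwD b hb)
    calc f x (a * b) = x * (w * a * w⁻¹) * x⁻¹ * (x * (w * b * w⁻¹) * x⁻¹ * (w * a * w⁻¹)) * (w * b * w⁻¹) := by
          show x * (w * (a * b) * w⁻¹) * x⁻¹ * (w * (a * b) * w⁻¹) = _
          group
      _ = x * (w * a * w⁻¹) * x⁻¹ * (w * a * w⁻¹ * (x * (w * b * w⁻¹) * x⁻¹)) * (w * b * w⁻¹) := by
          rw [h.comm h1 (hwD a ha)]
      _ = f x a * f x b := by
          show _ = x * (w * a * w⁻¹) * x⁻¹ * (w * a * w⁻¹) * (x * (w * b * w⁻¹) * x⁻¹ * (w * b * w⁻¹))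
          group
  have hfs : ∀ z ∈ Z, f s z = z := fun z hz => by
    show s * (w * z * w⁻¹) * s⁻¹ * (w * z * w⁻¹) = z
    rw [hs z (hZD hz) (h.fix_central hP hZD hZ hz hsP).symm, mul_assoc, h.sq (hwD z hz), mul_one]
  have hfconj : ∀ (j : ℕ), ∀ x ∈ P, ∀ z ∈ Z,
      f (k ^ j * x * (k ^ j)⁻¹) z = k ^ j * f x (k ^ j * z * (k ^ j)⁻¹) * (k ^ j)⁻¹ := by
    intro j x _ z hz
    show _ = k ^ j * (x * (w * (k ^ j * z * (k ^ j)⁻¹) * w⁻¹) * x⁻¹ * (w * (k ^ j * z * (k ^ j)⁻¹) * w⁻¹)) * (k ^ j)⁻¹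
    rw [conj_swap_pow (fun a ha b hb => h.comm ha hb) hwN hkD hwk j z (hZD hz)]
    show k ^ j * x * (k ^ j)⁻¹ * (w * z * w⁻¹) * (k ^ j * x * (k ^ j)⁻¹)⁻¹ * (w * z * w⁻¹) = _
    group
  have hPk : ∀ (j : ℕ), ∀ x ∈ P, k ^ j * x * (k ^ j)⁻¹ ∈ P := fun j x hx =>
    (Subgroup.mem_normalizer_iff.1 (pow_mem hkP j) x).1 hx
  have hsj : ∀ (j : ℕ), ∀ z ∈ Z, f (k ^ j * s * (k ^ j)⁻¹) z = k ^ (j + j) * z * (k ^ (j + j))⁻¹ := fun j z hz => by
    rw [hfconj j s hsP z hz, hfs _ (hZk j z hz), pow_add]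
    group
  have horb : ∀ v ∈ Z, v ≠ 1 → ∃ i : ℕ, v = k ^ i * z₀ * (k ^ i)⁻¹ := by
    let g : Fin (2 ^ n - 1) → {v : Z // v ≠ 1} := fun i =>
      ⟨⟨_, hZk i z₀ hz₀⟩, fun e => hz₀1 (conj_eq_one_iff.1 (congrArg Subtype.val e))⟩
    have key : ∀ i j : ℕ, i ≤ j → j < 2 ^ n - 1 →
        k ^ i * z₀ * (k ^ i)⁻¹ = k ^ j * z₀ * (k ^ j)⁻¹ → i = j := by
      intro i j hij hj e
      have h1 := hfix (j - i) z₀ hz₀ hz₀1 (by
        have e' : k ^ j = k ^ i * k ^ (j - i) := by rw [← pow_add, Nat.add_sub_cancel' hij]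
        rw [e'] at e
        calc k ^ (j - i) * z₀ * (k ^ (j - i))⁻¹
            = (k ^ i)⁻¹ * (k ^ i * k ^ (j - i) * z₀ * (k ^ i * k ^ (j - i))⁻¹) * k ^ i := by group
          _ = (k ^ i)⁻¹ * (k ^ i * z₀ * (k ^ i)⁻¹) * k ^ i := by rw [e]
          _ = z₀ := by group)
      have := orderOf_dvd_of_pow_eq_one h1
      rw [hkord] at this
      have := Nat.eq_zero_of_dvd_of_lt this (by omega)
      omega
    have hg : Function.Injective g := fun i j e => by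
      have e' : k ^ (i : ℕ) * z₀ * (k ^ (i : ℕ))⁻¹ = k ^ (j : ℕ) * z₀ * (k ^ (j : ℕ))⁻¹ :=
        congrArg (fun v => ((v.1 : Z) : G)) e
      rcases le_total (i : ℕ) j with hle | hle
      · exact Fin.ext (key _ _ hle j.2 e')
      · exact Fin.ext (key _ _ hle i.2 e'.symm).symm
    have hbij := hg.bijective_of_nat_card_le (by rw [EPPO.card_ne_one_eq, hZc, Nat.card_fin])
    intro v hv hv1
    obtain ⟨i, hi⟩ := hbij.2 ⟨⟨v, hv⟩, fun e => hv1 (congrArg Subtype.val e)⟩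
    exact ⟨i, (congrArg (fun v => ((v.1 : Z) : G)) hi).symm⟩
  have hfne : ∀ x ∈ P, x ∉ D → ∀ z ∈ Z, z ≠ 1 → f x z ≠ 1 := by
    intro x hx hxD z hz hz1 e
    have e' : x * (w * z * w⁻¹) * x⁻¹ = w * z * w⁻¹ :=
      (eq_inv_of_mul_eq_one_left e).trans (h.eq_inv (hwD z hz))
    exact hwne z (hZD hz) hz1 (hcen z hz) (hcen _ ((hZ x hx hxD).le (Subgroup.mem_inf.2
      ⟨hwD z hz, Subgroup.mem_centralizer_singleton_iff.2 (mul_inv_eq_iff_eq_mul.1 e').symm⟩)))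
  have hrep : ∀ x ∈ P, x ∉ D → ∃ i : ℕ, ∀ z ∈ Z, f x z = k ^ i * z * (k ^ i)⁻¹ := by
    intro x hx hxD
    obtain ⟨i, hi⟩ := horb _ (hfZ x hx z₀ hz₀) (hfne x hx hxD z₀ hz₀ hz₀1)
    -- halve the exponent
    set j := i * 2 ^ (n - 1) with hj
    have hjj : k ^ (j + j) = k ^ i := by
      have h1 : j + j = i + (2 ^ n - 1) * i := by
        have h2 : 2 ^ (n - 1) + 2 ^ (n - 1) = 2 ^ n := by rw [← two_mul, ← pow_succ']; congr 1; omega
        have h3 := Nat.one_le_two_pow (n := n)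
        rw [hj, ← Nat.mul_add, h2, Nat.sub_mul, Nat.mul_comm (2 ^ n) i, one_mul,
          Nat.add_sub_cancel' (Nat.le_mul_of_pos_right i h3)]
      rw [h1, pow_add, ← hkord, pow_mul, pow_orderOf_eq_one, one_pow, mul_one]
    set y := k ^ j * s * (k ^ j)⁻¹ with hy
    have hyP : y ∈ P := hPk j s hsP
    have hfy : ∀ z ∈ Z, f y z = k ^ i * z * (k ^ i)⁻¹ := fun z hz => by rw [hy, hsj j z hz, hjj]
    have hxy : x * y ∈ D := by
      by_contra hxyD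
      refine hfne _ (mul_mem hx hyP) hxyD z₀ hz₀ hz₀1 ?_
      rw [hfmul x hx y hyP z₀ hz₀, hfy z₀ hz₀, hi]
      exact h.sq (hZD (hZk i z₀ hz₀))
    refine ⟨i, fun z hz => ?_⟩
    have e := hfmul x hx y hyP z hz
    rw [hfD _ hxy z hz, hfy z hz] at e
    exact (eq_inv_of_mul_eq_one_left e.symm).trans (h.eq_inv (hZD (hZk i z hz)))
  -- the images of the second representation
  have hx₂ : ∀ z ∈ Z, w₂ * z * w₂⁻¹ ∈ P := fun z hz =>
    hEP ((Subgroup.mem_normalizer_iff.1 hw₂N z).1 (hZE hz))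
  have hx₂D : ∀ z ∈ Z, z ≠ 1 → w₂ * z * w₂⁻¹ ∉ D := fun z hz hz1 hD => hw₂ne z (hZE hz) hz1 (hcen z hz)
    (hcen _ (hED.le ⟨(Subgroup.mem_normalizer_iff.1 hw₂N z).1 (hZE hz), hD⟩))
  have hshift : ∀ (l : ℕ), ∀ z ∈ Z, ∀ v ∈ Z, f (w₂ * z * w₂⁻¹) v =
      k ^ l * f (w₂ * (k ^ l * z * (k ^ l)⁻¹) * w₂⁻¹) (k ^ l * v * (k ^ l)⁻¹) * (k ^ l)⁻¹ := by
    intro l z hz v hv
    rw [← hfconj l _ (hx₂ _ (hZk l z hz)) v hv,
      conj_swap_pow (fun a ha b hb => h'.comm ha hb) hw₂N hkE hw₂k l z (hZE hz)]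
    congr 1
    group
  -- one plus the generator
  obtain ⟨l, hl⟩ : ∃ l : ℕ, ∀ z ∈ Z, k * z * k⁻¹ * z = k ^ l * z * (k ^ l)⁻¹ := by
    set y := k ^ (2 ^ (n - 1)) * s * (k ^ (2 ^ (n - 1)))⁻¹ with hy
    have hyP : y ∈ P := hPk _ s hsP
    have h2 : k ^ (2 ^ (n - 1) + 2 ^ (n - 1)) = k := by
      rw [← two_mul, ← pow_succ', show n - 1 + 1 = n by omega]
      have : 2 ^ n = orderOf k + 1 := by rw [hkord, Nat.sub_add_cancel Nat.one_le_two_pow]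
      rw [this, pow_succ, pow_orderOf_eq_one, one_mul]
    have hfy : ∀ z ∈ Z, f y z = k * z * k⁻¹ := fun z hz => by rw [hy, hsj _ z hz, h2]
    have hys : y * s ∉ D := fun hD => by
      have e := hfmul y hyP s hsP z₀ hz₀
      rw [hfD _ hD z₀ hz₀, hfy z₀ hz₀, hfs z₀ hz₀] at e
      have e1 := hfix 1 z₀ hz₀ hz₀1 (by rw [pow_one]; exact (eq_inv_of_mul_eq_one_left e.symm).trans (h.eq_inv (hZD hz₀)))
      rw [pow_one] at e1
      rw [e1, orderOf_one] at hkord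
      have : 2 ^ 2 ≤ 2 ^ n := Nat.pow_le_pow_right two_pos hq
      omega
    obtain ⟨l, hl⟩ := hrep _ (mul_mem hyP hsP) hys
    refine ⟨l, fun z hz => ?_⟩
    rw [← hl z hz, hfmul y hyP s hsP z hz, hfy z hz, hfs z hz]
  let A : ℕ → G → G := fun i z => k ^ i * z * (k ^ i)⁻¹
  have hA : ∀ i j z, A i (A j z) = A (i + j) z := fun i j z => by
    show k ^ i * (k ^ j * z * (k ^ j)⁻¹) * (k ^ i)⁻¹ = k ^ (i + j) * z * (k ^ (i + j))⁻¹
    rw [pow_add]; group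
  have hAm : ∀ i a b, A i (a * b) = A i a * A i b := fun i a b => by
    show k ^ i * (a * b) * (k ^ i)⁻¹ = k ^ i * a * (k ^ i)⁻¹ * (k ^ i * b * (k ^ i)⁻¹)
    group
  have hA1 : ∀ z, A 1 z = k * z * k⁻¹ := fun z => by show k ^ 1 * z * (k ^ 1)⁻¹ = _; rw [pow_one]
  have hA0 : ∀ z, A 0 z = z := fun z => by show k ^ 0 * z * (k ^ 0)⁻¹ = _; simp
  have hAl : ∀ z ∈ Z, A l z = A 1 z * z := fun z hz => by rw [hA1]; exact (hl z hz).symm
  obtain ⟨i, hi⟩ := hrep _ (hx₂ z₀ hz₀) (hx₂D z₀ hz₀ hz₀1)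
  obtain ⟨j, hj⟩ := hrep _ (hx₂ _ (hZk 1 z₀ hz₀)) (hx₂D _ (hZk 1 z₀ hz₀) fun e => hz₀1 (conj_eq_one_iff.1 e))
  have hij : ∀ v ∈ Z, A i v = A (j + 2) v := fun v hv => by
    show k ^ i * v * (k ^ i)⁻¹ = _
    rw [← hi v hv, hshift 1 z₀ hz₀ v hv, hj _ (hZk 1 v hv)]
    show A 1 (A j (A 1 v)) = _
    rw [hA, hA]
    ring_nf
  have hil : ∀ v ∈ Z, A i v = A (l + j + l) v * A (l + i + l) v := fun v hv => by
    show k ^ i * v * (k ^ i)⁻¹ = _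
    rw [← hi v hv, hshift l z₀ hz₀ v hv, ← hl z₀ hz₀,
      show w₂ * (k * z₀ * k⁻¹ * z₀) * w₂⁻¹ = w₂ * (k * z₀ * k⁻¹) * w₂⁻¹ * (w₂ * z₀ * w₂⁻¹) by group]
    have hk1 : k * z₀ * k⁻¹ = k ^ 1 * z₀ * (k ^ 1)⁻¹ := by rw [pow_one]
    rw [hk1, hfmul _ (hx₂ _ (hZk 1 z₀ hz₀)) _ (hx₂ z₀ hz₀) _ (hZk l v hv), hj _ (hZk l v hv), hi _ (hZk l v hv)]
    show A l (A j (A l v) * A i (A l v)) = _
    rw [hAm, hA, hA, hA, hA]
  have h2l : ∀ v ∈ Z, A (l + l) v = A 2 v * v := fun v hv => by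
    have hv1 : A 1 v ∈ Z := hZk 1 v hv
    rw [← hA, hAl v hv, hAm, hAl v hv, hAl _ hv1, hA, mul_assoc, ← mul_assoc (A 1 v) (A 1 v),
      h.sq (hZD hv1), one_mul]
  have h6 : ∀ v ∈ Z, A (i + 6) v = A i v := by
    have key : ∀ v ∈ Z, A (i + 2) v = A i v * A (i + 4) v := fun v hv => by
      have hm : ∀ m, A (l + l + m) v = A (2 + m) v * A m v := fun m => by
        rw [← hA, h2l _ (hZk m v hv), hA]
      have e := congrArg (A 2) (hil v hv)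
      rw [hA, hAm, hA, hA] at e
      rw [show i + 2 = 2 + i by ring, e, show 2 + (l + j + l) = l + l + (j + 2) by ring,
        show 2 + (l + i + l) = l + l + (i + 2) by ring, hm, hm, ← hA 2 (j + 2), ← hij v hv, hA,
        show 2 + (i + 2) = i + 4 by ring]
      have e2 : A (i + 2) v ∈ Z := hZk _ v hv
      have e4 : A (i + 4) v ∈ Z := hZk _ v hv
      rw [show 2 + i = i + 2 by ring, h.comm (hZD e2) (hZD (hZk i v hv))]
      calc A i v * A (i + 2) v * (A (i + 4) v * A (i + 2) v)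
          = A i v * A (i + 2) v * (A (i + 2) v * A (i + 4) v) := by rw [h.comm (hZD e4) (hZD e2)]
        _ = A i v * (A (i + 2) v * A (i + 2) v) * A (i + 4) v := by group
        _ = A i v * A (i + 4) v := by rw [h.sq (hZD e2), mul_one]
    intro v hv
    have hiv : A i v ∈ Z := hZk i v hv
    have hi2 : A (i + 2) v ∈ Z := hZk _ v hv
    have h4 : A (i + 4) v = A i v * A (i + 2) v := by
      rw [key v hv, ← mul_assoc, h.sq (hZD hiv), one_mul]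
    calc A (i + 6) v = A 2 (A (i + 4) v) := by rw [hA]; ring_nf
      _ = A 2 (A i v) * A 2 (A (i + 2) v) := by rw [h4, hAm]
      _ = A (i + 2) v * A (i + 4) v := by rw [hA, hA]; ring_nf
      _ = A i v * (A (i + 2) v * A (i + 2) v) := by
          rw [h4, ← mul_assoc, h.comm (hZD hi2) (hZD hiv), mul_assoc]
      _ = A i v := by rw [h.sq (hZD hi2), mul_one]
  have hk6 : k ^ 6 = 1 := hfix 6 _ (hZk i z₀ hz₀) (fun e => hz₀1 (conj_eq_one_iff.1 e)) (by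
    have e := h6 z₀ hz₀
    rw [show i + 6 = 6 + i by ring, ← hA] at e
    exact e)
  have hd := orderOf_dvd_of_pow_eq_one hk6
  rw [hkord] at hd
  by_contra hn
  have : 2 ^ 3 ≤ 2 ^ n := Nat.pow_le_pow_right two_pos (by omega)
  have := Nat.le_of_dvd (by norm_num) hd
  omega

end Cfsg.Agent.Solv.CITGroups
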