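import Cfsg.Agent.Lib.Solv.CIT.ExcSylow
import Cfsg.Agent.Lib.Solv.CIT.ExcWeight
import Cfsg.Agent.Lib.Solv.CIT.ExcSecond

/-!
The configuration of two exceptional subgroups over four elements.
-/

set_option autoImplicit false
set_option linter.style.haveILetI false
set_option linter.unusedSectionVars false

namespace Cfsg.Agent.Solv.CITGroups

open Cfsg
open Cfsg.Agent.Solv.EPPOSeven (conjS mem_conjS card_conjS mem_normalizer_conjS)

universe u

variable {G : Type u} [Group G] [Finite G]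

/-- Two exceptional subgroups in one Sylow 2-subgroup. -/
structure Cfg (D E P Z : Subgroup G) : Prop where
  excD : ExcIn 2 D
  excE : ExcIn 2 E
  sylD : ExcIn.Syl 2 D P
  sylE : ExcIn.Syl 2 E P
  ne : E ≠ D
  cardZ : Nat.card Z = 4
  inf : E ⊓ D = Z
  cen : ∀ z ∈ Z, z ≠ 1 → Subgroup.centralizer ({z} : Set G) = P
  inv : ∀ x ∈ P, x * x = 1 → x ∈ D ∨ x ∈ E
  max : ∀ Q : Subgroup G, IsPGroup 2 Q → Nat.card Q ≤ 64

theorem exists_cfg [IsSimpleGroup G] (hna : ∃ a b : G, a * b ≠ b * a) (hC : CIT G)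
    (hb : Below.{u} (Nat.card G)) {n : ℕ} {D₀ : Subgroup G} (h₀ : ExcIn n D₀) :
    ∃ D E P Z : Subgroup G, Cfg D E P Z := by
  obtain ⟨E, P, hE, hne, hP, hP'⟩ := h₀.exists_second hC hb
  obtain rfl := h₀.weight hE hC hP hP' hne
  obtain ⟨Z, hZD, hZc, hZ⟩ := h₀.fix hC hP
  obtain ⟨hED, -, hout⟩ := h₀.other hP hZD hZc hZ (hE.le_syl hP') (fun a ha => hE.sq ha) hE.card_D hne
  have hmax := h₀.sylow_small hna hE hC hP hP' hne
  refine ⟨D₀, E, P, Z, h₀, hE, hP, hP', hne, hZc.trans (by norm_num), hED, fun z hz hz1 => ?_,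
    fun x hx hxx => or_iff_not_imp_left.2 fun hxD => hout x hx hxD hxx, hmax⟩
  exact (Subgroup.eq_of_le_of_card_ge (fun x hx => Subgroup.mem_centralizer_singleton_iff.2
      (h₀.fix_central hP hZD hZ hz hx).symm)
    ((hmax _ (hC z (orderOf_two_iff.2 ⟨h₀.sq (hZD hz), hz1⟩))).trans (le_of_eq (by rw [hP.card]; norm_num)))).symm

variable {D E P Z : Subgroup G}

theorem Cfg.symm (h : Cfg D E P Z) : Cfg E D P Z :=
  ⟨h.excE, h.excD, h.sylE, h.sylD, h.ne.symm, h.cardZ, inf_comm E D ▸ h.inf, h.cen,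
    fun x hx hxx => (h.inv x hx hxx).symm, h.max⟩

theorem Cfg.cardD (h : Cfg D E P Z) : Nat.card D = 16 := h.excD.card_D.trans (by norm_num)

theorem Cfg.cardP (h : Cfg D E P Z) : Nat.card P = 64 := h.sylD.card.trans (by norm_num)

theorem Cfg.cardN (h : Cfg D E P Z) : Nat.card (Subgroup.normalizer (D : Set G)) = 960 :=
  h.excD.card_N.trans (by norm_num)

theorem Cfg.ZD (h : Cfg D E P Z) : Z ≤ D := fun _ hz => (h.inf.ge hz).2

theorem Cfg.exists_z (h : Cfg D E P Z) : ∃ z ∈ Z, z ≠ 1 :=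
  Z.bot_or_exists_ne_one.resolve_left fun e => by
    have := h.cardZ
    rw [e, Subgroup.card_bot] at this
    norm_num at this

/-- The fusion of involutions within the normalizer. -/
theorem Cfg.trans_D (h : Cfg D E P Z) (hC : CIT G) {z d : G} (hz : z ∈ Z) (hz1 : z ≠ 1) (hd : d ∈ D) (hd1 : d ≠ 1) :
    ∃ m ∈ Subgroup.normalizer (D : Set G), m * z * m⁻¹ = d :=
  (h.excD.cent_syl hC (h.ZD hz) hz1).2 d hd hd1

/-- Elementary subgroups of order sixteen in the Sylow subgroup. -/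
theorem Cfg.four (h : Cfg D E P Z) {F : Subgroup G} (hFP : F ≤ P) (hFsq : ∀ x ∈ F, x * x = 1)
    (hFc : Nat.card F = 16) : F = D ∨ F = E := by
  rcases le_or_le_of_union (fun x hx => h.inv x (hFP hx) (hFsq x hx)) with hle | hle
  · exact Or.inl (Subgroup.eq_of_le_of_card_ge hle (h.cardD.trans hFc.symm).le)
  · exact Or.inr (Subgroup.eq_of_le_of_card_ge hle (h.symm.cardD.trans hFc.symm).le)

theorem Cfg.two_eq (h : Cfg D E P Z) {x : G} (hx : x ∈ Subgroup.normalizer (P : Set G))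
    {a : ℕ} (ha : orderOf x = 2 ^ a) : x ∈ P := by
  haveI : Fact (Nat.Prime 2) := ⟨Nat.prime_two⟩
  have h2 : IsPGroup 2 ↥(P ⊔ Subgroup.zpowers x) := IsPGroup.to_sup_of_normal_left' h.sylD.two
    (IsPGroup.of_card (n := a) (by rw [Nat.card_zpowers, ha])) (Subgroup.zpowers_le.2 hx)
  exact (Subgroup.eq_of_le_of_card_ge (le_sup_left : P ≤ P ⊔ Subgroup.zpowers x)
    ((h.max _ h2).trans h.cardP.ge)).ge ((le_sup_right : Subgroup.zpowers x ≤ _) (Subgroup.mem_zpowers x))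

/-- A 2-subgroup of the normalizer lies in a conjugate of the Sylow subgroup. -/
theorem Cfg.two_le (h : Cfg D E P Z) {Q : Subgroup G} (hQ : IsPGroup 2 Q)
    (hQN : Q ≤ Subgroup.normalizer (D : Set G)) :
    ∃ m ∈ Subgroup.normalizer (D : Set G), Q ≤ conjS m P := by
  haveI : Fact (Nat.Prime 2) := ⟨Nat.prime_two⟩
  set N := Subgroup.normalizer (D : Set G)
  obtain ⟨S, hS⟩ := (hQ.comap_subtype (K := N)).exists_le_sylow
  obtain ⟨S₁, hS₁⟩ := h.sylD.sub.1.exists_le_sylow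
  have e : P.subgroupOf N = (S₁ : Subgroup N) := Subgroup.eq_of_le_of_card_ge hS₁ (by
    rw [← Solv.card_map_subtype (S₁ : Subgroup N), h.sylD.sub.2]
    exact (h.max _ (S₁.isPGroup'.map _)).trans (le_of_eq (by norm_num)))
  obtain ⟨m, hm⟩ := MulAction.exists_smul_eq N S₁ S
  refine ⟨m, m.2, fun q hq => ?_⟩
  have h1 := hS (x := ⟨q, hQN hq⟩) hq
  rw [← hm] at h1
  obtain ⟨p, hp, hpq⟩ := h1
  exact ⟨p, e.ge hp, congrArg Subtype.val hpq⟩

/-- The two subgroups are not conjugate. -/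
theorem Cfg.not_conj (h : Cfg D E P Z) (hC : CIT G) (g : G) : conjS g D ≠ E := by
  haveI : Fact (Nat.Prime 2) := ⟨Nat.prime_two⟩
  intro hg
  obtain ⟨m, hm, hle⟩ := h.symm.two_le (h.sylD.two.map (MulAut.conj g).toMonoidHom) (by
    rintro _ ⟨p, hp, rfl⟩
    rw [← hg]
    exact mem_normalizer_conjS.2 (by
      show g⁻¹ * (g * p * g⁻¹) * g ∈ _
      rw [show g⁻¹ * (g * p * g⁻¹) * g = p by group]
      exact h.sylD.le hp))
  set y := m⁻¹ * g with hy
  have hyP : y ∈ Subgroup.normalizer (P : Set G) := by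
    have hfwd : conjS y P = P := by
      refine Subgroup.eq_of_le_of_card_ge ?_ (card_conjS y P).ge
      rintro _ ⟨p, hp, rfl⟩
      have := mem_conjS.1 (hle ⟨p, hp, rfl⟩)
      show y * p * y⁻¹ ∈ P
      rwa [show m⁻¹ * ((MulAut.conj g).toMonoidHom p) * m = y * p * y⁻¹ by
        show m⁻¹ * (g * p * g⁻¹) * m = _; rw [hy]; group] at this
    refine Subgroup.mem_normalizer_iff.2 fun p => ⟨fun hp => hfwd.le ⟨p, hp, rfl⟩, fun hp => ?_⟩
    have := mem_conjS.1 (hfwd.ge hp)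
    rwa [show y⁻¹ * (y * p * y⁻¹) * y = p by group] at this
  have hyD : conjS y D = E := by
    ext x
    rw [mem_conjS, show y⁻¹ * x * y = g⁻¹ * (m * x * m⁻¹) * g by rw [hy]; group, ← mem_conjS, hg]
    exact (Subgroup.mem_normalizer_iff.1 hm x).symm
  have hDP := h.excD.le_syl h.sylD
  have hsq : ∀ (A : Subgroup G), (∀ a ∈ A, a * a = 1) → ∀ a ∈ conjS y A, a * a = 1 := by
    rintro A hA _ ⟨a, ha, rfl⟩
    rw [← map_mul, hA a ha, map_one]
  have hyE : conjS y E = D := by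
    refine (h.four ?_ (hsq E fun a ha => h.excE.sq ha) ((card_conjS y E).trans h.symm.cardD)).resolve_right fun e =>
      h.ne ((Subgroup.map_injective (f := (MulAut.conj y).toMonoidHom) (MulAut.conj y).injective (e.trans hyD.symm)))
    rintro _ ⟨a, ha, rfl⟩
    exact (Subgroup.mem_normalizer_iff.1 hyP a).1 (h.excE.le_syl h.sylE ha)
  have hy2 : y * y ∈ Subgroup.normalizer (D : Set G) := by
    refine Subgroup.mem_normalizer_iff.2 fun x => ?_
    have e : ∀ v, v ∈ D ↔ (y * y)⁻¹ * v * (y * y) ∈ D := fun v => by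
      conv_lhs => rw [← hyE, mem_conjS, ← hyD, mem_conjS]
      rw [show y⁻¹ * (y⁻¹ * v * y) * y = (y * y)⁻¹ * v * (y * y) by group]
    rw [e (y * y * x * (y * y)⁻¹), show (y * y)⁻¹ * (y * y * x * (y * y)⁻¹) * (y * y) = x by group]
  obtain ⟨a, o, ho, hao⟩ := Nat.exists_eq_pow_mul_and_not_dvd (orderOf_pos y).ne' 2 (by norm_num)
  obtain ⟨j, rfl⟩ : ∃ j, o = 2 * j + 1 := ⟨o / 2, by omega⟩
  have hin := h.two_eq (pow_mem hyP (2 * j + 1)) (a := a) (by
    rw [orderOf_pow_of_dvd (by omega) (hao ▸ dvd_mul_left _ _), hao, Nat.mul_div_cancel _ (by omega)])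
  have hyN : y ∈ Subgroup.normalizer (D : Set G) := by
    have h1 : y ^ (2 * j) ∈ Subgroup.normalizer (D : Set G) := by rw [pow_mul, pow_two]; exact pow_mem hy2 j
    have := mul_mem (inv_mem h1) (h.sylD.le hin)
    rwa [pow_succ, inv_mul_cancel_left] at this
  refine h.ne ?_
  rw [← hyD]
  refine Subgroup.eq_of_le_of_card_ge ?_ (card_conjS y D).ge
  rintro _ ⟨d, hd, rfl⟩
  exact (Subgroup.mem_normalizer_iff.1 hyN d).1 hd

/-- Elementary subgroups of order sixteen in the normalizer. -/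
theorem Cfg.four_N (h : Cfg D E P Z) (hC : CIT G) {g : G}
    (hg : conjS g D ≤ Subgroup.normalizer (D : Set G)) : g ∈ Subgroup.normalizer (D : Set G) := by
  obtain ⟨m, hm, hle⟩ := h.two_le (h.excD.two.map (MulAut.conj g).toMonoidHom) hg
  have hsq : ∀ a ∈ conjS (m⁻¹ * g) D, a * a = 1 := by
    rintro _ ⟨a, ha, rfl⟩
    rw [← map_mul, h.excD.sq ha, map_one]
  have hP' : conjS (m⁻¹ * g) D ≤ P := by
    rintro _ ⟨a, ha, rfl⟩
    have := mem_conjS.1 (hle ⟨a, ha, rfl⟩)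
    rwa [show m⁻¹ * (MulAut.conj g).toMonoidHom a * m = (MulAut.conj (m⁻¹ * g)).toMonoidHom a by
      show m⁻¹ * (g * a * g⁻¹) * m = m⁻¹ * g * a * (m⁻¹ * g)⁻¹; group] at this
  have e := (h.four hP' hsq ((card_conjS _ D).trans h.cardD)).resolve_right (h.not_conj hC _)
  have h1 : m⁻¹ * g ∈ Subgroup.normalizer (D : Set G) := by
    refine Subgroup.mem_normalizer_iff.2 fun d => ⟨fun hd => e.le ⟨d, hd, rfl⟩, fun hd => ?_⟩
    have := mem_conjS.1 (e.ge hd)
    rwa [show (m⁻¹ * g)⁻¹ * (m⁻¹ * g * d * (m⁻¹ * g)⁻¹) * (m⁻¹ * g) = d by group] at this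
  simpa using mul_mem hm h1

/-- All involutions are conjugate. -/
theorem Cfg.conj_z (h : Cfg D E P Z) (hC : CIT G) {z : G} (hz : z ∈ Z) (hz1 : z ≠ 1) {x : G} (hx : orderOf x = 2) :
    ∃ g : G, g * z * g⁻¹ = x := by
  haveI : Fact (Nat.Prime 2) := ⟨Nat.prime_two⟩
  obtain ⟨S₁, hS₁⟩ := h.sylD.two.exists_le_sylow
  have e : P = (S₁ : Subgroup G) := Subgroup.eq_of_le_of_card_ge hS₁ ((h.max _ S₁.isPGroup').trans h.cardP.ge)
  obtain ⟨S, hS⟩ := (IsPGroup.of_card (n := 1) (by rw [Nat.card_zpowers, hx, pow_one]) :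
    IsPGroup 2 (Subgroup.zpowers x)).exists_le_sylow
  obtain ⟨g, hg⟩ := MulAction.exists_smul_eq G S₁ S
  have h1 := hS (Subgroup.mem_zpowers x)
  rw [← hg] at h1
  obtain ⟨v, hv, hvx⟩ := h1
  have hvx' : g * v * g⁻¹ = x := hvx
  obtain ⟨hxx, hx1⟩ := orderOf_two_iff.1 hx
  have hvv : v * v = 1 := by
    rwa [← hvx', show g * v * g⁻¹ * (g * v * g⁻¹) = g * (v * v) * g⁻¹ by group, conj_eq_one_iff] at hxx
  have hv1 : v ≠ 1 := fun e0 => hx1 (by rw [← hvx', e0]; group)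
  rcases h.inv v (e.ge hv) hvv with hvD | hvE
  · obtain ⟨m, -, hm⟩ := h.trans_D hC hz hz1 hvD hv1
    exact ⟨g * m, by rw [← hvx', ← hm]; group⟩
  · obtain ⟨m, -, hm⟩ := h.symm.trans_D hC hz hz1 hvE hv1
    exact ⟨g * m, by rw [← hvx', ← hm]; group⟩

/-- An involution lies in one conjugate only. -/
theorem Cfg.uniq (h : Cfg D E P Z) (hC : CIT G) {x g g' : G} (hx : orderOf x = 2) (hg : x ∈ conjS g D)
    (hg' : x ∈ conjS g' D) : g⁻¹ * g' ∈ Subgroup.normalizer (D : Set G) := by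
  obtain ⟨z, hz, hz1⟩ := h.exists_z
  rw [mem_conjS] at hg hg'
  obtain ⟨hxx, hx1⟩ := orderOf_two_iff.1 hx
  obtain ⟨m, hm, hmz⟩ := h.trans_D hC hz hz1 hg fun e => hx1 (by
    calc x = g * (g⁻¹ * x * g) * g⁻¹ := by group
      _ = 1 := by rw [e]; group)
  set y := m⁻¹ * g⁻¹ * g' with hy
  have hzy : y⁻¹ * z * y = g'⁻¹ * x * g' := by
    rw [hy, show (m⁻¹ * g⁻¹ * g')⁻¹ * z * (m⁻¹ * g⁻¹ * g') = g'⁻¹ * g * (m * z * m⁻¹) * g⁻¹ * g' by group, hmz]
    group
  have hle : conjS y D ≤ P := by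
    rintro _ ⟨d, hd, rfl⟩
    rw [← h.cen z hz hz1, Subgroup.mem_centralizer_singleton_iff]
    have hc := h.excD.comm hd hg'
    show y * d * y⁻¹ * z = z * (y * d * y⁻¹)
    calc y * d * y⁻¹ * z = y * (d * (y⁻¹ * z * y)) * y⁻¹ := by group
      _ = y * (y⁻¹ * z * y * d) * y⁻¹ := by rw [hzy, hc]
      _ = z * (y * d * y⁻¹) := by group
  have hyN := h.four_N hC (hle.trans h.sylD.le)
  have := mul_mem hm hyN
  rwa [hy, show m * (m⁻¹ * g⁻¹ * g') = g⁻¹ * g' by group] at this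

/-- An involution of the normalizer lies in a translate of the second subgroup. -/
theorem Cfg.inv_N (h : Cfg D E P Z) (hC : CIT G) {x : G} (hx : orderOf x = 2)
    (hxN : x ∈ Subgroup.normalizer (D : Set G)) :
    ∃ m ∈ Subgroup.normalizer (D : Set G), x ∈ conjS m E := by
  obtain ⟨z, hz, hz1⟩ := h.exists_z
  obtain ⟨hxx, hx1⟩ := orderOf_two_iff.1 hx
  obtain ⟨m, hm, hle⟩ := h.two_le (IsPGroup.of_card (n := 1) (by rw [Nat.card_zpowers, hx, pow_one]))
    (Subgroup.zpowers_le.2 hxN)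
  have h1 := mem_conjS.1 (hle (Subgroup.mem_zpowers x))
  rcases h.inv _ h1 (by rw [show m⁻¹ * x * m * (m⁻¹ * x * m) = m⁻¹ * (x * x) * m by group, hxx]; group) with hv | hv
  · obtain ⟨m', hm', hmz⟩ := h.trans_D hC hz hz1 hv fun e => hx1 (by
      calc x = m * (m⁻¹ * x * m) * m⁻¹ := by group
        _ = 1 := by rw [e]; group)
    refine ⟨m * m', mul_mem hm hm', mem_conjS.2 ?_⟩
    rw [show (m * m')⁻¹ * x * (m * m') = m'⁻¹ * (m⁻¹ * x * m) * m' by group, ← hmz,
      show m'⁻¹ * (m' * z * m'⁻¹) * m' = z by group]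
    exact (h.inf.ge hz).1
  · exact ⟨m, hm, mem_conjS.2 hv⟩

/-- The normalizer of both normalizes the Sylow subgroup. -/
theorem Cfg.both_le (h : Cfg D E P Z) :
    Subgroup.normalizer (D : Set G) ⊓ Subgroup.normalizer (E : Set G) ≤ Subgroup.normalizer (P : Set G) := by
  intro g hg
  have hsup : D ⊔ E = P := by
    have hle : D ⊔ E ≤ P := sup_le (h.excD.le_syl h.sylD) (h.excE.le_syl h.sylE)
    have hlt : D < D ⊔ E := by
      refine lt_of_le_of_ne le_sup_left fun e => h.ne ?_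
      exact Subgroup.eq_of_le_of_card_ge (e.ge.trans' le_sup_right) (h.cardD.trans h.symm.cardD.symm).le
    refine Subgroup.eq_of_le_of_card_ge hle ?_
    rw [h.cardP]
    have hn : E ≤ Subgroup.normalizer (D : Set G) := (h.excE.le_syl h.sylE).trans h.sylD.le
    have e := Subgroup.coe_mul_of_right_le_normalizer_left D E hn
    classical
    let f : D × E → ↥(D ⊔ E) := fun p => ⟨p.1 * p.2,
      mul_mem ((le_sup_left : D ≤ D ⊔ E) p.1.2) ((le_sup_right : E ≤ D ⊔ E) p.2.2)⟩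
    haveI := Fintype.ofFinite (D × E)
    haveI := Fintype.ofFinite ↥(D ⊔ E)
    have hfib : ∀ v, (Finset.univ.filter fun p => f p = v).card ≤ 4 := by
      intro v
      rcases (Finset.univ.filter fun p => f p = v).eq_empty_or_nonempty with e0 | ⟨p₀, hp₀⟩
      · rw [e0]; norm_num
      haveI := Fintype.ofFinite Z
      rw [← h.cardZ, Nat.card_eq_fintype_card]
      have hmem : ∀ p ∈ Finset.univ.filter (fun p => f p = v), (p.1 : G)⁻¹ * p₀.1 ∈ Z := by
        intro p hp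
        have e1 : (p.1 : G) * p.2 = p₀.1 * p₀.2 :=
          (congrArg Subtype.val (Finset.mem_filter.1 hp).2).trans (congrArg Subtype.val (Finset.mem_filter.1 hp₀).2).symm
        have e2 : (p.1 : G)⁻¹ * p₀.1 = p.2 * (p₀.2 : G)⁻¹ := by
          calc (p.1 : G)⁻¹ * p₀.1 = (p.1 : G)⁻¹ * (p₀.1 * p₀.2) * (p₀.2 : G)⁻¹ := by group
            _ = p.2 * (p₀.2 : G)⁻¹ := by rw [← e1]; group
        exact h.inf.le ⟨e2 ▸ E.mul_mem p.2.2 (E.inv_mem p₀.2.2), D.mul_mem (D.inv_mem p.1.2) p₀.1.2⟩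
      refine Finset.card_le_card_of_injOn (fun p => if hp : (p.1 : G)⁻¹ * p₀.1 ∈ Z then (⟨_, hp⟩ : Z) else 1)
        (fun _ _ => Finset.mem_univ _) fun p hp q hq e1 => ?_
      simp only [Finset.mem_coe] at hp hq
      simp only [dif_pos (hmem p hp), dif_pos (hmem q hq)] at e1
      have h1 : (p.1 : G) = q.1 := inv_injective (mul_right_cancel (congrArg Subtype.val e1))
      have h2 : (p.1 : G) * p.2 = q.1 * q.2 :=
        (congrArg Subtype.val (Finset.mem_filter.1 hp).2).trans (congrArg Subtype.val (Finset.mem_filter.1 hq).2).symm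
      rw [h1] at h2
      exact Prod.ext (Subtype.ext h1) (Subtype.ext (mul_left_cancel h2))
    have h3 : Fintype.card (D × E) ≤ 4 * Fintype.card ↥(D ⊔ E) :=
      Finset.card_le_mul_card_image (f := f) Finset.univ 4 (fun v _ => hfib v) |>.trans
        (Nat.mul_le_mul_left _ (Finset.card_le_univ _))
    rw [← Nat.card_eq_fintype_card, ← Nat.card_eq_fintype_card, Nat.card_prod, h.cardD, h.symm.cardD] at h3
    omega
  have hfwd : ∀ g ∈ Subgroup.normalizer (D : Set G) ⊓ Subgroup.normalizer (E : Set G), conjS g P ≤ P := by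
    intro g hg
    rw [← hsup, conjS, Subgroup.map_sup]
    refine sup_le_sup ?_ ?_
    · rintro _ ⟨d, hd, rfl⟩
      exact (Subgroup.mem_normalizer_iff.1 hg.1 d).1 hd
    · rintro _ ⟨d, hd, rfl⟩
      exact (Subgroup.mem_normalizer_iff.1 hg.2 d).1 hd
  refine Subgroup.mem_normalizer_iff.2 fun p => ⟨fun hp => hfwd g hg ⟨p, hp, rfl⟩, fun hp => ?_⟩
  have := hfwd g⁻¹ (inv_mem hg) ⟨_, hp, rfl⟩
  rwa [show (MulAut.conj g⁻¹).toMonoidHom (g * p * g⁻¹) = p by simp [mul_assoc]] at this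

theorem Cfg.card_both (h : Cfg D E P Z) (hC : CIT G) :
    Nat.card ↥(Subgroup.normalizer (D : Set G) ⊓ Subgroup.normalizer (E : Set G)) = 192 := by
  set C := Subgroup.normalizer (D : Set G) ⊓ Subgroup.normalizer (E : Set G) with hC'
  set N := Subgroup.normalizer (D : Set G)
  have hDP := h.excD.le_syl h.sylD
  obtain ⟨k, hkD, hkP, -, hkord, -⟩ := h.excD.gen h.sylD
  have hkE := h.excD.other_normalized hC h.sylD (h.excE.le_syl h.sylE) (fun a ha => h.excE.sq ha) h.excE.card_D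
    h.ne hkD hkP
  have hPC : P ≤ C := le_inf h.sylD.le h.sylE.le
  have hCN : C ≤ N := inf_le_left
  haveI : (D.subgroupOf N).Normal := ⟨fun v hv y => (Subgroup.mem_normalizer_iff.1 y.2 v).1 hv⟩
  obtain ⟨-, hPq, hB⟩ := h.excD.1.bor_at h.sylD.sub.1 h.sylD.sub.2
  set π := QuotientGroup.mk' (D.subgroupOf N)
  have hle : (C.subgroupOf N).map π ≤ Subgroup.normalizer (((P.subgroupOf N).map π : Subgroup (N ⧸ D.subgroupOf N)) : Set (N ⧸ D.subgroupOf N)) := by
    refine le_trans (Subgroup.map_mono ?_) (Subgroup.le_normalizer_map π)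
    intro x hx
    exact Subgroup.mem_normalizer_iff.2 fun y => Subgroup.mem_normalizer_iff.1 (h.both_le hx) (y : G)
  have hd := Subgroup.card_dvd_of_le hle
  rw [hB.cardN, hPq] at hd
  have e := Solv.card_map_mk'_mul_card_inf (D.subgroupOf N) (C.subgroupOf N)
  rw [inf_eq_left.2 (show D.subgroupOf N ≤ C.subgroupOf N from Subgroup.comap_mono (hDP.trans hPC)),
    h.excD.1.card_D, Nat.card_congr (Subgroup.subgroupOfEquivOfLe hCN).toEquiv] at e
  have hdv : Nat.card C ∣ 192 := by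
    rw [← e, show (192 : ℕ) = 12 * 16 by norm_num]
    exact Nat.mul_dvd_mul_right (show Nat.card ((C.subgroupOf N).map π) ∣ 12 by exact hd.trans (by norm_num)) 16
  refine Nat.dvd_antisymm hdv ((show 192 = 64 * 3 by norm_num) ▸ Nat.Coprime.mul_dvd_of_dvd_of_dvd (by norm_num)
    (h.cardP ▸ Subgroup.card_dvd_of_le hPC) ?_)
  have := Subgroup.orderOf_dvd_natCard C (x := k) ⟨hkD, hkE⟩
  rwa [hkord, show 2 ^ 2 - 1 = 3 by norm_num] at this

end Cfsg.Agent.Solv.CITGroups
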