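import Cfsg.Agent.Lib.Solv.CIT.Exc

/-!
The structure of the exceptional shape, stated for subgroups of an ambient group.
-/

set_option autoImplicit false
set_option linter.style.haveILetI false
set_option linter.unusedSectionVars false

namespace Cfsg.Agent.Solv.CITGroups

open Cfsg

universe u

section

variable {H : Type u} [Group H] [Finite H] {n : ℕ} {D : Subgroup H} [D.Normal]

theorem ExcCore.card_H (hE : ExcCore n D) :
    Nat.card H = 2 ^ n * 2 ^ n * ((2 ^ n + 1) * (2 ^ n * (2 ^ n - 1))) := by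
  obtain ⟨T, hT, hTc⟩ := hE.bor
  rw [D.card_eq_card_quotient_mul_card_subgroup, hT.cardG, hTc, hE.card_D, mul_comm]

theorem ExcCore.comm (hE : ExcCore n D) {a b : H} (ha : a ∈ D) (hb : b ∈ D) : a * b = b * a := by
  have h := hE.sq _ (mul_mem ha hb)
  rw [mul_eq_one_iff_eq_inv, mul_inv_rev, inv_eq_of_mul_eq_one_right (hE.sq a ha),
    inv_eq_of_mul_eq_one_right (hE.sq b hb)] at h
  exact h

theorem ExcCore.card_le (hE : ExcCore n D) {P : Subgroup H} (hP : IsPGroup 2 P) :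
    Nat.card P ≤ 2 ^ n * 2 ^ n * 2 ^ n := by
  obtain ⟨T, hT, hTc⟩ := hE.bor
  rw [← Solv.card_map_mk'_mul_card_inf D P, mul_comm]
  refine Nat.mul_le_mul ?_ (hTc ▸ hT.two_le_T (hP.map _))
  exact hE.card_D ▸ Nat.card_le_card_of_injective _ (Subgroup.inclusion_injective inf_le_left)

/-- Borel data at a prescribed Sylow subgroup. -/
theorem ExcCore.bor_at (hE : ExcCore n D) {P : Subgroup H} (hP : IsPGroup 2 P)
    (hc : Nat.card P = 2 ^ n * 2 ^ n * 2 ^ n) :
    D ≤ P ∧ Nat.card (P.map (QuotientGroup.mk' D)) = 2 ^ n ∧ BorAt (H ⧸ D) n (P.map (QuotientGroup.mk' D)) := by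
  haveI : Fact (Nat.Prime 2) := ⟨Nat.prime_two⟩
  obtain ⟨T, hT, hTc⟩ := hE.bor
  have hsup : IsPGroup 2 ↥(P ⊔ D) := hP.to_sup_of_normal_right hE.two
  have heq := Subgroup.eq_of_le_of_card_ge (le_sup_left : P ≤ P ⊔ D) ((hE.card_le hsup).trans hc.ge)
  have hDP : D ≤ P := heq.ge.trans' le_sup_right
  have hPc : Nat.card (P.map (QuotientGroup.mk' D)) = 2 ^ n := by
    have h := Solv.card_map_mk'_mul_card_inf D P
    rw [inf_eq_left.2 hDP, hE.card_D, hc, mul_comm] at h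
    exact Nat.eq_of_mul_eq_mul_left (Nat.mul_pos (pow_pos two_pos n) (pow_pos two_pos n)) h
  refine ⟨hDP, hPc, ?_⟩
  let TS : Sylow 2 (H ⧸ D) := Sylow.ofCard T (by rw [hT.factorization_two hTc, hTc])
  let PS : Sylow 2 (H ⧸ D) := Sylow.ofCard (P.map (QuotientGroup.mk' D)) (by rw [hT.factorization_two hTc, hPc])
  obtain ⟨g, hg⟩ := MulAction.exists_smul_eq (H ⧸ D) TS PS
  have h := hT.map (MulAut.conj g)
  have e : T.map (MulAut.conj g).toMonoidHom = P.map (QuotientGroup.mk' D) := congrArg Sylow.toSubgroup hg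
  rwa [e] at h

theorem ExcCore.square_mem (hE : ExcCore n D) {P : Subgroup H} (hP : IsPGroup 2 P)
    (hc : Nat.card P = 2 ^ n * 2 ^ n * 2 ^ n) {x : H} (hx : x ∈ P) : x * x ∈ D := by
  obtain ⟨-, hPc, hB⟩ := hE.bor_at hP hc
  rcases hB.kind with ⟨-, hsq, -⟩ | ⟨hT, -, hn, -⟩
  · exact (QuotientGroup.eq_one_iff _).1 (hsq _ ⟨x, hx, rfl⟩)
  · rw [hPc, pow_two] at hT
    have := Nat.one_lt_two_pow (n := n) (by omega)
    nlinarith

theorem ExcCore.order_two (hE : ExcCore n D) {P : Subgroup H} (hP : IsPGroup 2 P)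
    (hc : Nat.card P = 2 ^ n * 2 ^ n * 2 ^ n) {x : H} (hx : x ∈ P) (hxD : x ∉ D) :
    orderOf (QuotientGroup.mk' D x) = 2 :=
  orderOf_two_iff.2 ⟨(QuotientGroup.eq_one_iff _).2 (hE.square_mem hP hc hx),
    fun e => hxD ((QuotientGroup.eq_one_iff x).1 e)⟩

/-- The common fixed subgroup. -/
theorem ExcCore.fix (hE : ExcCore n D) (hC : CIT H) {P : Subgroup H} (hP : IsPGroup 2 P)
    (hc : Nat.card P = 2 ^ n * 2 ^ n * 2 ^ n) :
    ∃ Z : Subgroup H, Z ≤ D ∧ Nat.card Z = 2 ^ n ∧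
      ∀ x ∈ P, x ∉ D → D ⊓ Subgroup.centralizer ({x} : Set H) = Z := by
  haveI : Fact (Nat.Prime 2) := ⟨Nat.prime_two⟩
  haveI := hE.simple
  haveI : IsMulCommutative D := ⟨⟨fun a b => Subtype.ext (hE.comm a.2 b.2)⟩⟩
  obtain ⟨hDP, hPc, -⟩ := hE.bor_at hP hc
  obtain ⟨x₀, hx₀, hx₀D⟩ : ∃ x ∈ P, x ∉ D := by
    by_contra hno
    push Not at hno
    have h : D = P := le_antisymm hDP hno
    have hn : n ≠ 0 := by
      obtain ⟨T, hT, -⟩ := hE.bor
      have := hT.two_le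
      omega
    have := Nat.one_lt_two_pow hn
    have h1 := hE.card_D
    rw [h, hc] at h1
    have : 0 < 2 ^ n * 2 ^ n := Nat.mul_pos (pow_pos two_pos n) (pow_pos two_pos n)
    nlinarith
  refine ⟨D ⊓ Subgroup.centralizer ({x₀} : Set H), inf_le_left, ?_, fun x hx hxD => ?_⟩
  · have h := hC.half_top le_rfl hE.two (fun a ha b hb => hE.comm ha hb) hE.nab (hE.order_two hP hc hx₀ hx₀D)
    rw [hE.card_D] at h
    exact Nat.mul_self_inj.1 h.symm
  -- transport the common property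
  obtain ⟨P₁, hP₁, hc₁, hcom⟩ := hE.common
  have hfac : (Nat.card H).factorization 2 = n + n + n := by
    obtain ⟨T, hT, hTc⟩ := hE.bor
    rw [D.card_eq_card_quotient_mul_card_subgroup, hE.card_D, ← pow_add,
      Nat.factorization_mul Nat.card_pos.ne' (pow_ne_zero _ two_ne_zero), Finsupp.add_apply,
      hT.factorization_two hTc, Nat.factorization_pow]
    simp [Nat.prime_two.factorization_self]
    omega
  let S₁ : Sylow 2 H := Sylow.ofCard P₁ (by rw [hc₁, hfac, pow_add, pow_add])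
  let S : Sylow 2 H := Sylow.ofCard P (by rw [hc, hfac, pow_add, pow_add])
  obtain ⟨g, hg⟩ := MulAction.exists_smul_eq H S S₁
  have hmem : ∀ y ∈ P, y ∉ D → g * y * g⁻¹ ∈ P₁ ∧ g * y * g⁻¹ ∉ D := fun y hy hyD => by
    refine ⟨?_, fun h => hyD ?_⟩
    · have : g * y * g⁻¹ ∈ ((g • S : Sylow 2 H) : Subgroup H) := ⟨y, hy, rfl⟩
      rwa [hg] at this
    · have := Subgroup.Normal.conj_mem inferInstance _ h g⁻¹
      rwa [show g⁻¹ * (g * y * g⁻¹) * g⁻¹⁻¹ = y by group] at this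
  have e := hcom _ (hmem x hx hxD).1 _ (hmem x₀ hx₀ hx₀D).1 (hmem x hx hxD).2 (hmem x₀ hx₀ hx₀D).2
  have key : ∀ a b : H, D ⊓ Subgroup.centralizer ({g * a * g⁻¹} : Set H) ≤
      D ⊓ Subgroup.centralizer ({g * b * g⁻¹} : Set H) →
      D ⊓ Subgroup.centralizer ({a} : Set H) ≤ D ⊓ Subgroup.centralizer ({b} : Set H) := fun a b hle v hv => by
    have h1 : g * v * g⁻¹ ∈ D ⊓ Subgroup.centralizer ({g * a * g⁻¹} : Set H) := Subgroup.mem_inf.2
      ⟨Subgroup.Normal.conj_mem inferInstance v hv.1 g, Subgroup.mem_centralizer_singleton_iff.2 (by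
        rw [show g * v * g⁻¹ * (g * a * g⁻¹) = g * (v * a) * g⁻¹ by group,
          Subgroup.mem_centralizer_singleton_iff.1 hv.2]
        group)⟩
    have h2 := Subgroup.mem_centralizer_singleton_iff.1 (hle h1).2
    refine Subgroup.mem_inf.2 ⟨hv.1, Subgroup.mem_centralizer_singleton_iff.2 ?_⟩
    calc v * b = g⁻¹ * (g * v * g⁻¹ * (g * b * g⁻¹)) * g := by group
      _ = g⁻¹ * (g * b * g⁻¹ * (g * v * g⁻¹)) * g := by rw [h2]
      _ = b * v := by group
  exact le_antisymm (key _ _ e.le) (key _ _ e.ge)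

theorem ExcCore.cent_card (hE : ExcCore n D) (hC : CIT H) {a : H} (ha : a ∈ D) (ha1 : a ≠ 1) :
    IsPGroup 2 (Subgroup.centralizer ({a} : Set H)) ∧
      Nat.card (Subgroup.centralizer ({a} : Set H)) = 2 ^ n * 2 ^ n * 2 ^ n ∧
      ∀ b ∈ D, b ≠ 1 → ∃ h : H, h * a * h⁻¹ = b := by
  classical
  have h2 := hC a (orderOf_two_iff.2 ⟨hE.sq a ha, ha1⟩)
  set C := Subgroup.centralizer ({a} : Set H) with hCdef
  have hle := hE.card_le h2
  let f : H ⧸ C → {b : D // b ≠ 1} := Quotient.lift (fun h => ⟨⟨h * a * h⁻¹, Subgroup.Normal.conj_mem inferInstance a ha h⟩,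
    fun e => ha1 (conj_eq_one_iff.1 (congrArg Subtype.val e))⟩) (by
    intro h h' hh
    replace hh := QuotientGroup.leftRel_apply.1 hh
    refine Subtype.ext (Subtype.ext ?_)
    show h * a * h⁻¹ = h' * a * h'⁻¹
    calc h * a * h⁻¹ = h * (a * (h⁻¹ * h')) * h'⁻¹ := by group
      _ = h * (h⁻¹ * h' * a) * h'⁻¹ := by rw [Subgroup.mem_centralizer_singleton_iff.1 hh]
      _ = h' * a * h'⁻¹ := by group)
  have hf : Function.Injective f := by
    intro p q e
    induction p using Quotient.inductionOn with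
    | _ h =>
    induction q using Quotient.inductionOn with
    | _ h' =>
    have e' : h * a * h⁻¹ = h' * a * h'⁻¹ := congrArg (fun b => ((b.1 : D) : H)) e
    refine Quotient.sound ?_
    refine QuotientGroup.leftRel_apply.2 (Subgroup.mem_centralizer_singleton_iff.2 ?_)
    calc h⁻¹ * h' * a = h⁻¹ * (h' * a * h'⁻¹) * h' := by group
      _ = a * (h⁻¹ * h') := by rw [← e']; group
  have hidx : C.index ≤ 2 ^ n * 2 ^ n - 1 := by
    have := Nat.card_le_card_of_injective f hf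
    rwa [EPPO.card_ne_one_eq, hE.card_D] at this
  have hprod : Nat.card C * C.index = 2 ^ n * 2 ^ n * 2 ^ n * (2 ^ n * 2 ^ n - 1) := by
    rw [C.card_mul_index, hE.card_H, show 2 ^ n * 2 ^ n - 1 = (2 ^ n + 1) * (2 ^ n - 1) by
      rw [← pow_two, ← Nat.sq_sub_sq, one_pow]]
    ring
  have hge : 2 ^ n * 2 ^ n * 2 ^ n ≤ Nat.card C := by
    refine Nat.le_of_mul_le_mul_right ?_ (Nat.pos_of_ne_zero (Subgroup.index_ne_zero_of_finite (H := C)))
    rw [hprod]
    exact Nat.mul_le_mul_left _ hidx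
  have hCc := le_antisymm hle hge
  refine ⟨h2, hCc, fun b hb hb1 => ?_⟩
  have hi : C.index = 2 ^ n * 2 ^ n - 1 := by
    rw [hCc] at hprod
    exact Nat.eq_of_mul_eq_mul_left (by positivity) hprod
  have hbij := hf.bijective_of_nat_card_le (le_of_eq (by rw [EPPO.card_ne_one_eq, hE.card_D, ← hi]; rfl))
  obtain ⟨p, hp⟩ := hbij.2 ⟨⟨b, hb⟩, fun e => hb1 (congrArg Subtype.val e)⟩
  induction p using Quotient.inductionOn with
  | _ h => exact ⟨h, congrArg (fun w => ((w.1 : D) : H)) hp⟩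

/-- An element of odd order normalizing a Sylow subgroup. -/
theorem ExcCore.gen (hE : ExcCore n D) {P : Subgroup H} (hP : IsPGroup 2 P)
    (hc : Nat.card P = 2 ^ n * 2 ^ n * 2 ^ n) :
    ∃ k ∈ Subgroup.normalizer (P : Set H), Odd (orderOf k) ∧
      orderOf (QuotientGroup.mk' D k) = 2 ^ n - 1 := by
  obtain ⟨hDP, -, hB⟩ := hE.bor_at hP hc
  obtain ⟨q, hq, hqo⟩ := hB.gen
  obtain ⟨g, rfl⟩ := QuotientGroup.mk'_surjective D q
  have hgN : g ∈ Subgroup.normalizer (P : Set H) := by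
    refine Subgroup.mem_normalizer_iff.2 fun y => ?_
    have hmem : ∀ y, y ∈ P ↔ QuotientGroup.mk' D y ∈ P.map (QuotientGroup.mk' D) := fun y => by
      conv_lhs => rw [← Subgroup.comap_map_eq_self (f := QuotientGroup.mk' D) (H := P) (by
        rw [QuotientGroup.ker_mk']; exact hDP)]
      rfl
    rw [hmem, hmem (g * y * g⁻¹), map_mul, map_mul, map_inv]
    exact Subgroup.mem_normalizer_iff.1 hq _
  obtain ⟨a, o, ho, hao⟩ := Nat.exists_eq_pow_mul_and_not_dvd (orderOf_pos g).ne' 2 (by norm_num)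
  refine ⟨g ^ 2 ^ a, pow_mem hgN _, ?_, ?_⟩
  · rw [orderOf_pow_of_dvd (pow_ne_zero _ two_ne_zero) (hao ▸ dvd_mul_right _ _), hao,
      Nat.mul_div_cancel_left _ (pow_pos two_pos a)]
    exact Nat.not_even_iff_odd.1 fun e => ho (even_iff_two_dvd.1 e)
  · rw [map_pow, Nat.Coprime.orderOf_pow]
    · exact hqo
    · rw [hqo]
      exact (Nat.Coprime.pow_left a (Nat.coprime_two_left.2 hB.pred_odd)).symm

/-- An element inverting a torus modulo the core, with its root involution. -/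
theorem ExcCore.triple (hE : ExcCore n D) (hC : CIT H) {P : Subgroup H} (hP : IsPGroup 2 P)
    (hc : Nat.card P = 2 ^ n * 2 ^ n * 2 ^ n) {k : H} (hk : k ∈ Subgroup.normalizer (P : Set H))
    (hko : Odd (orderOf k)) :
    ∃ w : H, w * k * w⁻¹ * k ∈ D ∧ w * w ∈ D ∧ (∀ z ∈ D, z ≠ 1 → P ≤ Subgroup.centralizer ({z} : Set H) →
        ¬ P ≤ Subgroup.centralizer ({w * z * w⁻¹} : Set H)) ∧
      ∃ s ∈ P, s ∉ D ∧ ∀ z ∈ D, s * z = z * s → s * (w * z * w⁻¹) * s⁻¹ = z * (w * z * w⁻¹) := by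
  haveI : Fact (Nat.Prime 2) := ⟨Nat.prime_two⟩
  haveI : Fact (Nat.Prime 3) := ⟨Nat.prime_three⟩
  obtain ⟨hDP, hPc, hB⟩ := hE.bor_at hP hc
  set π := QuotientGroup.mk' D with hπ
  have hkq : π k ∈ Subgroup.normalizer ((P.map π : Subgroup (H ⧸ D)) : Set (H ⧸ D)) := by
    have h := Subgroup.le_normalizer_map (H := P) π
    exact h ⟨k, hk, rfl⟩
  obtain ⟨q, hq, hqN, hqk⟩ := hB.invert (π k) hkq (hko.of_dvd_nat (orderOf_map_dvd π k))
  obtain ⟨w, rfl⟩ := QuotientGroup.mk'_surjective D q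
  rcases hB.kind with ⟨-, -, hstr⟩ | ⟨hT, -, hn, -⟩
  swap
  · exfalso
    rw [hPc, pow_two] at hT
    have := Nat.one_lt_two_pow (n := n) (by omega)
    nlinarith
  have hww : w * w ∈ D := (QuotientGroup.eq_one_iff _).1 (orderOf_two_iff.1 hq).1
  refine ⟨w, (QuotientGroup.eq_one_iff _).1 ?_, hww, fun z hz hz1 hPz hPwz => hqN ?_, ?_⟩
  · show π (w * k * w⁻¹ * k) = 1
    rw [map_mul, map_mul, map_mul, map_inv, hqk, inv_mul_cancel]
  · -- a nontrivial element centralized by two Sylow subgroups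
    obtain ⟨h2, hCc, -⟩ := hE.cent_card hC (Subgroup.Normal.conj_mem inferInstance z hz w)
      (fun e => hz1 (conj_eq_one_iff.1 e))
    have heq := Subgroup.eq_of_le_of_card_ge hPwz (hCc.trans hc.symm).le
    have hwP : ∀ y ∈ P, w * y * w⁻¹ ∈ P := fun y hy => by
      conv => rw [heq]
      rw [Subgroup.mem_centralizer_singleton_iff]
      calc w * y * w⁻¹ * (w * z * w⁻¹) = w * (y * z) * w⁻¹ := by group
        _ = w * (z * y) * w⁻¹ := by rw [Subgroup.mem_centralizer_singleton_iff.1 (hPz hy)]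
        _ = w * z * w⁻¹ * (w * y * w⁻¹) := by group
    have hwN : w ∈ Subgroup.normalizer (P : Set H) := by
      refine Subgroup.mem_normalizer_iff.2 fun y => ⟨hwP y, fun hy => ?_⟩
      have h := hwP _ hy
      have h' : (w * w) * y * (w * w)⁻¹ ∈ P := by
        rwa [show (w * w) * y * (w * w)⁻¹ = w * (w * y * w⁻¹) * w⁻¹ by group]
      have := mul_mem (mul_mem (inv_mem (hDP hww)) h') (hDP hww)
      rwa [show (w * w)⁻¹ * ((w * w) * y * (w * w)⁻¹) * (w * w) = y by group] at this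
    exact (Subgroup.le_normalizer_map (H := P) π) ⟨w, hwN, rfl⟩
  obtain ⟨_, ⟨s, hs, rfl⟩, hs1, heq⟩ := hstr _ hq hqN
  have hsD : s ∉ D := fun h => hs1 ((QuotientGroup.eq_one_iff s).2 h)
  refine ⟨s, hs, hsD, fun z hz hsz => ?_⟩
  -- the product has order three
  have hss : π s * π s = 1 := (orderOf_two_iff.1 (hE.order_two hP hc hs hsD)).1
  have hqq : π w * π w = 1 := (orderOf_two_iff.1 hq).1
  have hord : orderOf (π (w * s)) = 3 := by
    refine orderOf_eq_prime ?_ fun e => hqN ?_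
    · rw [map_mul, pow_three]
      calc π w * π s * (π w * π s * (π w * π s)) = π w * π s * π w * (π s * π w * π s) := by group
        _ = π s * π w * π s * (π s * π w * π s) := by rw [heq]
        _ = π s * π w * (π s * π s) * (π w * π s) := by group
        _ = π s * (π w * π w) * π s := by rw [hss]; group
        _ = 1 := by rw [hqq, mul_one, hss]
    · rw [map_mul, mul_eq_one_iff_eq_inv, inv_eq_of_mul_eq_one_right hss] at e
      rw [e]
      exact Subgroup.le_normalizer ⟨s, hs, rfl⟩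
  obtain ⟨x, hxo, -, hxz⟩ := exists_prime_lift hE.two (r := 3) (by norm_num) hord
  set g := w * s with hg
  set v := z * (g * z * g⁻¹) * (g * g * z * (g * g)⁻¹) with hv
  have hgz : g * z * g⁻¹ ∈ D := Subgroup.Normal.conj_mem inferInstance z hz g
  have hggz : g * g * z * (g * g)⁻¹ ∈ D := Subgroup.Normal.conj_mem inferInstance z hz _
  have hvD : v ∈ D := mul_mem (mul_mem hz hgz) hggz
  have hg3 : g * g * g ∈ D := (QuotientGroup.eq_one_iff _).1 (by
    show π (g * g * g) = 1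
    rw [map_mul, map_mul, ← pow_three', ← hord, pow_orderOf_eq_one])
  have hgv : Commute g v := mul_inv_eq_iff_eq_mul.1 (by
    have h3 : g * g * g * z * (g * g * g)⁻¹ = z := by rw [hE.comm hg3 hz, mul_inv_cancel_right]
    calc g * v * g⁻¹ = g * z * g⁻¹ * (g * g * z * (g * g)⁻¹) * (g * g * g * z * (g * g * g)⁻¹) := by
          rw [hv]; group
      _ = g * z * g⁻¹ * (g * g * z * (g * g)⁻¹) * z := by rw [h3]
      _ = z * (g * z * g⁻¹ * (g * g * z * (g * g)⁻¹)) := hE.comm (mul_mem hgz hggz) hz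
      _ = v := by rw [hv, ← mul_assoc])
  have hxv : Commute x v := by
    obtain ⟨i, hi⟩ := Subgroup.mem_zpowers_iff.1 (hxz.le (Subgroup.mem_zpowers (π x)))
    rw [← map_zpow] at hi
    have hd : (g ^ i)⁻¹ * x ∈ D := QuotientGroup.eq.1 hi
    have : x = g ^ i * ((g ^ i)⁻¹ * x) := by group
    rw [this]
    exact (hgv.zpow_left i).mul_left (hE.comm hd hvD)
  have hv1 : v = 1 := hC.fpf_mem (hxo ▸ by decide) (fun e => by rw [e, orderOf_one] at hxo; omega) hE.two hvD hxv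
  rw [hv, hg, show w * s * z * (w * s)⁻¹ = w * (s * z * s⁻¹) * w⁻¹ by group,
    show w * s * (w * s) * z * (w * s * (w * s))⁻¹ = w * (s * (w * (s * z * s⁻¹) * w⁻¹) * s⁻¹) * w⁻¹ by group,
    hsz, mul_inv_cancel_right] at hv1
  -- conjugate by `w`
  have hwz : w * z * w⁻¹ ∈ D := Subgroup.Normal.conj_mem inferInstance z hz w
  set y := s * (w * z * w⁻¹) * s⁻¹ with hy
  have hyD : y ∈ D := Subgroup.Normal.conj_mem inferInstance _ hwz s
  have e1 : w * (z * (w * z * w⁻¹) * (w * y * w⁻¹)) * w⁻¹ = 1 := by rw [hv1]; group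
  rw [show w * (z * (w * z * w⁻¹) * (w * y * w⁻¹)) * w⁻¹ =
      w * z * w⁻¹ * (w * w * z * (w * w)⁻¹) * (w * w * y * (w * w)⁻¹) by group,
    hE.comm hww hz, mul_inv_cancel_right, hE.comm hww hyD, mul_inv_cancel_right, hE.comm hwz hz] at e1
  rw [eq_inv_of_mul_eq_one_right e1]
  exact inv_eq_of_mul_eq_one_right (hE.sq _ (mul_mem hz hwz))

end

end Cfsg.Agent.Solv.CITGroups
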