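import Cfsg.Agent.Lib.Solv.CIT.ExcFacts

/-!
Exceptional subgroups of an ambient group.
-/

set_option autoImplicit false
set_option linter.style.haveILetI false
set_option linter.unusedSectionVars false

namespace Cfsg.Agent.Solv.CITGroups

open Cfsg
open Cfsg.Agent.Solv.EPPOSeven (conjS mem_conjS card_conjS mem_normalizer_conjS)

universe u

variable {G : Type u} [Group G] [Finite G]

/-- An elementary abelian subgroup with exceptional normalizer. -/
def ExcIn (n : ℕ) (D : Subgroup G) : Prop :=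
  ExcCore n (D.subgroupOf (Subgroup.normalizer (D : Set G))) ∧ Subgroup.centralizer (D : Set G) = D

variable {n : ℕ} {D : Subgroup G}

theorem ExcIn.two_le (h : ExcIn n D) : 2 ≤ n := by
  obtain ⟨T, hT, -⟩ := h.1.bor
  exact hT.two_le

theorem ExcIn.card_D (h : ExcIn n D) : Nat.card D = 2 ^ n * 2 ^ n :=
  (Nat.card_congr (Subgroup.subgroupOfEquivOfLe Subgroup.le_normalizer).toEquiv).symm.trans h.1.card_D

theorem ExcIn.sq (h : ExcIn n D) {d : G} (hd : d ∈ D) : d * d = 1 :=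
  congrArg Subtype.val (h.1.sq ⟨d, Subgroup.le_normalizer hd⟩ hd)

theorem ExcIn.comm (h : ExcIn n D) {a b : G} (ha : a ∈ D) (hb : b ∈ D) : a * b = b * a :=
  congrArg Subtype.val
    (h.1.comm (a := ⟨a, Subgroup.le_normalizer ha⟩) (b := ⟨b, Subgroup.le_normalizer hb⟩) ha hb)

theorem ExcIn.two (h : ExcIn n D) : IsPGroup 2 D :=
  IsPGroup.of_card (n := n + n) (by rw [h.card_D, pow_add])

theorem ExcIn.ne_bot (h : ExcIn n D) : D ≠ ⊥ := fun e => by
  have h1 := h.card_D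
  rw [e, Subgroup.card_bot, ← pow_add] at h1
  exact absurd h1.symm (Nat.one_lt_two_pow (by have := h.two_le; omega)).ne'

theorem ExcIn.card_N (h : ExcIn n D) :
    Nat.card (Subgroup.normalizer (D : Set G)) = 2 ^ n * 2 ^ n * ((2 ^ n + 1) * (2 ^ n * (2 ^ n - 1))) :=
  h.1.card_H

/-- A full Sylow 2-subgroup of the normalizer. -/
structure ExcIn.Syl (n : ℕ) (D P : Subgroup G) : Prop where
  le : P ≤ Subgroup.normalizer (D : Set G)
  two : IsPGroup 2 P
  card : Nat.card P = 2 ^ n * 2 ^ n * 2 ^ n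

theorem ExcIn.card_le (h : ExcIn n D) {P : Subgroup G} (hP : IsPGroup 2 P)
    (hPN : P ≤ Subgroup.normalizer (D : Set G)) : Nat.card P ≤ 2 ^ n * 2 ^ n * 2 ^ n :=
  (Nat.card_congr (Subgroup.subgroupOfEquivOfLe hPN).toEquiv).symm.trans_le (h.1.card_le hP.comap_subtype)

theorem ExcIn.exists_syl (h : ExcIn n D) : ∃ P : Subgroup G, ExcIn.Syl n D P := by
  obtain ⟨P, hP, hc, -⟩ := h.1.common
  exact ⟨P.map (Subgroup.normalizer (D : Set G)).subtype, Subgroup.map_subtype_le _, hP.map _,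
    (Solv.card_map_subtype P).trans hc⟩

theorem ExcIn.Syl.sub {P : Subgroup G} (hP : ExcIn.Syl n D P) :
    IsPGroup 2 (P.subgroupOf (Subgroup.normalizer (D : Set G))) ∧
      Nat.card (P.subgroupOf (Subgroup.normalizer (D : Set G))) = 2 ^ n * 2 ^ n * 2 ^ n :=
  ⟨hP.two.comap_subtype, (Nat.card_congr (Subgroup.subgroupOfEquivOfLe hP.le).toEquiv).trans hP.card⟩

theorem ExcIn.le_syl (h : ExcIn n D) {P : Subgroup G} (hP : ExcIn.Syl n D P) : D ≤ P := fun d hd =>
  (h.1.bor_at hP.sub.1 hP.sub.2).1 (x := ⟨d, Subgroup.le_normalizer hd⟩) hd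

theorem ExcIn.square_mem (h : ExcIn n D) {P : Subgroup G} (hP : ExcIn.Syl n D P) {x : G} (hx : x ∈ P) :
    x * x ∈ D :=
  h.1.square_mem hP.sub.1 hP.sub.2 (x := ⟨x, hP.le hx⟩) hx

theorem ExcIn.fix (h : ExcIn n D) (hC : CIT G) {P : Subgroup G} (hP : ExcIn.Syl n D P) :
    ∃ Z : Subgroup G, Z ≤ D ∧ Nat.card Z = 2 ^ n ∧
      ∀ x ∈ P, x ∉ D → D ⊓ Subgroup.centralizer ({x} : Set G) = Z := by
  set N := Subgroup.normalizer (D : Set G)
  obtain ⟨Z, hZD, hZc, hZ⟩ := h.1.fix (hC.subgroup N) hP.sub.1 hP.sub.2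
  refine ⟨Z.map N.subtype, ?_, (Solv.card_map_subtype Z).trans hZc, fun x hx hxD => ?_⟩
  · rintro _ ⟨z, hz, rfl⟩
    exact hZD hz
  have e := hZ ⟨x, hP.le hx⟩ hx hxD
  ext v
  constructor
  · intro hv
    exact ⟨⟨v, Subgroup.le_normalizer hv.1⟩, e.le ⟨hv.1, Subgroup.mem_centralizer_singleton_iff.2
      (Subtype.ext (Subgroup.mem_centralizer_singleton_iff.1 hv.2))⟩, rfl⟩
  · rintro ⟨z, hz, rfl⟩
    exact ⟨hZD hz, Subgroup.mem_centralizer_singleton_iff.2
      (congrArg Subtype.val (Subgroup.mem_centralizer_singleton_iff.1 (e.ge hz).2))⟩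

theorem ExcIn.cent_syl (h : ExcIn n D) (hC : CIT G) {a : G} (ha : a ∈ D) (ha1 : a ≠ 1) :
    ExcIn.Syl n D (Subgroup.normalizer (D : Set G) ⊓ Subgroup.centralizer ({a} : Set G)) ∧
      ∀ b ∈ D, b ≠ 1 → ∃ g ∈ Subgroup.normalizer (D : Set G), g * a * g⁻¹ = b := by
  set N := Subgroup.normalizer (D : Set G) with hN
  set a' : N := ⟨a, Subgroup.le_normalizer ha⟩
  obtain ⟨h2, hc, htr⟩ := h.1.cent_card (hC.subgroup N) (a := a') ha (fun e => ha1 (congrArg Subtype.val e))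
  have heq : N ⊓ Subgroup.centralizer ({a} : Set G) = (Subgroup.centralizer ({a'} : Set N)).map N.subtype := by
    ext g
    constructor
    · intro hg
      exact ⟨⟨g, hg.1⟩, Subgroup.mem_centralizer_singleton_iff.2
        (Subtype.ext (Subgroup.mem_centralizer_singleton_iff.1 hg.2)), rfl⟩
    · rintro ⟨g, hg, rfl⟩
      exact ⟨g.2, Subgroup.mem_centralizer_singleton_iff.2
        (congrArg Subtype.val (Subgroup.mem_centralizer_singleton_iff.1 hg))⟩
  refine ⟨⟨inf_le_left, heq ▸ h2.map _, by rw [heq, Solv.card_map_subtype, hc]⟩, fun b hb hb1 => ?_⟩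
  obtain ⟨g, hg⟩ := htr ⟨b, Subgroup.le_normalizer hb⟩ hb (fun e => hb1 (congrArg Subtype.val e))
  exact ⟨g, g.2, congrArg Subtype.val hg⟩

theorem ExcIn.gen (h : ExcIn n D) {P : Subgroup G} (hP : ExcIn.Syl n D P) :
    ∃ k ∈ Subgroup.normalizer (D : Set G), k ∈ Subgroup.normalizer (P : Set G) ∧ Odd (orderOf k) ∧
      orderOf k = 2 ^ n - 1 ∧ ∀ i : ℤ, k ^ i ∈ P → ((2 ^ n - 1 : ℕ) : ℤ) ∣ i := by
  set N := Subgroup.normalizer (D : Set G)
  obtain ⟨k, hk, hko, hkord⟩ := h.1.gen hP.sub.1 hP.sub.2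
  have hkeq : orderOf k = 2 ^ n - 1 := by
    refine hkord ▸ Nat.dvd_antisymm (orderOf_dvd_of_pow_eq_one ?_) (orderOf_map_dvd _ k)
    have hmem : k ^ orderOf (QuotientGroup.mk' (D.subgroupOf N) k) ∈ D.subgroupOf N :=
      (QuotientGroup.eq_one_iff _).1 (by
        show QuotientGroup.mk' (D.subgroupOf N) (k ^ _) = 1
        rw [map_pow, pow_orderOf_eq_one])
    obtain ⟨j, hj⟩ := IsPGroup.iff_card.1 h.1.two
    have h1 := Subgroup.orderOf_dvd_natCard _ hmem
    rw [hj] at h1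
    exact orderOf_eq_one_iff.1 (Nat.eq_one_of_dvd_coprimes
      (Nat.Coprime.pow_left j (Nat.coprime_two_left.2 hko)) h1 (orderOf_pow_dvd _))
  refine ⟨k, k.2, ?_, by rwa [Subgroup.orderOf_coe], by rwa [Subgroup.orderOf_coe], fun i hi => ?_⟩
  · refine Subgroup.mem_normalizer_iff.2 fun y => ⟨fun hy => ?_, fun hy => ?_⟩
    · exact (Subgroup.mem_normalizer_iff.1 hk ⟨y, hP.le hy⟩).1 hy
    · have hyN : y ∈ N := by
        have := mul_mem (mul_mem (inv_mem k.2) (hP.le hy)) k.2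
        rwa [show (k : G)⁻¹ * ((k : G) * y * (k : G)⁻¹) * k = y by group] at this
      exact (Subgroup.mem_normalizer_iff.1 hk ⟨y, hyN⟩).2 hy
  · -- the power is trivial modulo the core
    have hi' : k ^ i ∈ P.subgroupOf N := by
      show ((k ^ i : N) : G) ∈ P
      rwa [SubgroupClass.coe_zpow]
    rw [← hkord, orderOf_dvd_iff_zpow_eq_one, ← map_zpow]
    obtain ⟨-, hPc, hB⟩ := h.1.bor_at hP.sub.1 hP.sub.2
    set q := QuotientGroup.mk' (D.subgroupOf N) (k ^ i) with hq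
    have h1 : orderOf q ∣ 2 ^ n := hPc ▸ Subgroup.orderOf_dvd_natCard _ ⟨k ^ i, hi', rfl⟩
    have h2 : orderOf q ∣ 2 ^ n - 1 := by
      rw [hq, map_zpow, ← hkord]
      exact orderOf_dvd_of_mem_zpowers (Subgroup.zpow_mem _ (Subgroup.mem_zpowers _) i)
    exact orderOf_eq_one_iff.1
      (Nat.eq_one_of_dvd_coprimes (Nat.Coprime.pow_left n (Nat.coprime_two_left.2 hB.pred_odd)) h1 h2)

theorem ExcIn.triple (h : ExcIn n D) (hC : CIT G) {P : Subgroup G} (hP : ExcIn.Syl n D P) {k : G}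
    (hkN : k ∈ Subgroup.normalizer (D : Set G)) (hk : k ∈ Subgroup.normalizer (P : Set G)) (hko : Odd (orderOf k)) :
    ∃ w ∈ Subgroup.normalizer (D : Set G), w * k * w⁻¹ * k ∈ D ∧ w * w ∈ D ∧
      (∀ z ∈ D, z ≠ 1 → P ≤ Subgroup.centralizer ({z} : Set G) →
        ¬ P ≤ Subgroup.centralizer ({w * z * w⁻¹} : Set G)) ∧
      ∃ s ∈ P, s ∉ D ∧ ∀ z ∈ D, s * z = z * s → s * (w * z * w⁻¹) * s⁻¹ = z * (w * z * w⁻¹) := by
  set N := Subgroup.normalizer (D : Set G)
  obtain ⟨w, hw1, hw2, hw3, s, hs, hsD, hs2⟩ := h.1.triple (hC.subgroup N) hP.sub.1 hP.sub.2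
    (k := ⟨k, hkN⟩) (Subgroup.mem_normalizer_iff.2 fun y => Subgroup.mem_normalizer_iff.1 hk (y : G))
    (by rwa [Subgroup.orderOf_mk])
  refine ⟨w, w.2, hw1, hw2, fun z hz hz1 hPz hPwz => ?_, s, hs, hsD, fun z hz hsz => ?_⟩
  · refine hw3 ⟨z, Subgroup.le_normalizer hz⟩ hz (fun e => hz1 (congrArg Subtype.val e)) ?_ ?_
    · exact fun y hy => Subgroup.mem_centralizer_singleton_iff.2
        (Subtype.ext (Subgroup.mem_centralizer_singleton_iff.1 (hPz hy)))
    · exact fun y hy => Subgroup.mem_centralizer_singleton_iff.2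
        (Subtype.ext (Subgroup.mem_centralizer_singleton_iff.1 (hPwz hy)))
  · exact congrArg Subtype.val (hs2 ⟨z, Subgroup.le_normalizer hz⟩ hz (Subtype.ext hsz))

/-- An exceptional local subgroup gives an exceptional subgroup of the group. -/
theorem CIT.excIn_of_offender [IsSimpleGroup G] (hC : CIT G) (hb : Below.{u} (Nat.card G)) {X : Subgroup G}
    (hX : X ≠ ⊥) (hX2 : IsPGroup 2 X) (hns : ¬ Group.IsSolvable (Subgroup.normalizer (X : Set G)))
    {P : Sylow 2 (Subgroup.normalizer (X : Set G))} {A : Subgroup (Subgroup.normalizer (X : Set G))}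
    [IsMulCommutative A] (hAP : A ≤ (P : Subgroup (Subgroup.normalizer (X : Set G))))
    (hAD : ¬ A ≤ Cfsg.pCore 2 (Subgroup.normalizer (X : Set G)))
    (hmax : ∀ B : Subgroup (Subgroup.normalizer (X : Set G)),
      B ≤ (P : Subgroup (Subgroup.normalizer (X : Set G))) → IsMulCommutative B → Nat.card B ≤ Nat.card A) :
    ∃ n D, ExcIn (G := G) n D := by
  classical
  haveI : Fact (Nat.Prime 2) := ⟨Nat.prime_two⟩
  have hlt : ∀ Y : Subgroup G, Y ≠ ⊥ → IsPGroup 2 Y → ¬ Group.IsSolvable (Subgroup.normalizer (Y : Set G)) →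
      Below.{u} (Nat.card (Subgroup.normalizer (Y : Set G))) := by
    intro Y hY hY2 hnsY K _ _ hK
    refine hb K (hK.trans (Solv.card_lt_of_ne_top fun e => ?_))
    haveI : Y.Normal := Subgroup.normalizer_eq_top_iff.1 e
    rcases IsSimpleGroup.eq_bot_or_eq_top_of_normal Y inferInstance with h0 | h0
    · exact hY h0
    · refine hnsY ?_
      haveI := (h0 ▸ hY2 : IsPGroup 2 (⊤ : Subgroup G)).isNilpotent
      haveI : Group.IsSolvable G :=
        Group.isSolvable_of_surjective (f := (⊤ : Subgroup G).subtype) fun q => ⟨⟨q, trivial⟩, rfl⟩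
      infer_instance
  set H := Subgroup.normalizer (X : Set G) with hH
  haveI := Solv.pCore_normal (G := H) 2
  have hXH : X ≤ H := Subgroup.le_normalizer
  haveI : (X.subgroupOf H).Normal := ⟨fun v hv g => (Subgroup.mem_normalizer_iff.1 g.2 v).1 hv⟩
  have hXc : X.subgroupOf H ≤ Cfsg.pCore 2 H := Solv.normal_le_pCore hX2.comap_subtype
  have hcore : Cfsg.pCore 2 H ≠ ⊥ := fun e => hX ((Subgroup.subgroupOf_eq_bot.1 (le_bot_iff.1 (hXc.trans e.le))).eq_bot_of_le hXH)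
  obtain ⟨n, hE⟩ := (hC.subgroup H).exc_of_offender hns hcore (hlt X hX hX2 hns) hAP hAD hmax
  set D := (Cfsg.pCore 2 H).map H.subtype with hD
  have hXD : X ≤ D := by
    rw [← Subgroup.map_subgroupOf_eq_of_le hXH]
    exact Subgroup.map_mono hXc
  have hDH : D ≤ H := Subgroup.map_subtype_le _
  have hcD : Nat.card D = 2 ^ n * 2 ^ n := (Solv.card_map_subtype _).trans hE.card_D
  have hD2 : IsPGroup 2 D := hE.two.map _
  have hsqD : ∀ d ∈ D, d * d = 1 := by
    rintro _ ⟨d, hd, rfl⟩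
    exact congrArg Subtype.val (hE.sq d hd)
  have hCD : Subgroup.centralizer (D : Set G) ≤ D := fun g hg => by
    have hgH : g ∈ H := by
      refine Subgroup.mem_normalizer_iff.2 fun y => ?_
      have hc : ∀ v ∈ X, g * v * g⁻¹ = v := fun v hv => by
        rw [← Subgroup.mem_centralizer_iff.1 hg v (hXD hv), mul_inv_cancel_right]
      refine ⟨fun hy => (hc y hy).symm ▸ hy, fun hy => ?_⟩
      have h8 : g * y * g⁻¹ = y := by
        have h3 := congrArg (fun v => g⁻¹ * v * g) (hc _ hy)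
        simpa [mul_assoc] using h3
      rwa [h8] at hy
    exact ⟨⟨g, hgH⟩, hE.cent (Subgroup.mem_centralizer_iff.2 fun v hv => Subtype.ext
      (Subgroup.mem_centralizer_iff.1 hg v ⟨v, hv, rfl⟩)), rfl⟩
  set M := Subgroup.normalizer (D : Set G) with hM
  have hHM : H ≤ M := by
    have h := Subgroup.le_normalizer_map (H := Cfsg.pCore 2 H) H.subtype
    rwa [Subgroup.normalizer_eq_top, ← MonoidHom.range_eq_map, Subgroup.range_subtype] at h
  have hnsM : ¬ Group.IsSolvable M := fun h => hns (Solv.isSolvable_of_le hHM h)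
  have hDne : D ≠ ⊥ := fun e => hX (le_bot_iff.1 (hXD.trans e.le))
  have hbM := hlt D hDne hD2 hnsM
  haveI := Solv.pCore_normal (G := M) 2
  have hDM : D ≤ M := Subgroup.le_normalizer
  haveI hDn : (D.subgroupOf M).Normal := ⟨fun v hv g => (Subgroup.mem_normalizer_iff.1 g.2 v).1 hv⟩
  have hDc : D.subgroupOf M ≤ Cfsg.pCore 2 M := Solv.normal_le_pCore hD2.comap_subtype
  have hcoreM : Cfsg.pCore 2 M ≠ ⊥ := fun e =>
    hDne ((Subgroup.subgroupOf_eq_bot.1 (le_bot_iff.1 (hDc.trans e.le))).eq_bot_of_le hDM)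
  -- the odd divisor
  have hdiv : 2 ^ n + 1 ∣ Nat.card H := hE.card_H ▸ dvd_mul_of_dvd_right (dvd_mul_right _ _) _
  -- the core of the normalizer
  have hcoreEq : Cfsg.pCore 2 M = D.subgroupOf M := by
    set E := Cfsg.pCore 2 M with hEdef
    have hE2 : IsPGroup 2 E := Solv.pCore_isPGroup 2
    set F := (D.subgroupOf M).subgroupOf E with hF
    haveI : F.Normal := hDn.subgroupOf E
    have hFne : F ≠ ⊥ := fun e => hDne ((Subgroup.subgroupOf_eq_bot.1
      ((Subgroup.subgroupOf_eq_bot.1 e).eq_bot_of_le hDc)).eq_bot_of_le hDM)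
    obtain ⟨z, hzF, hzc, hzo⟩ := Solv.exists_central_order hE2 F hFne
    set W := D ⊓ Subgroup.centralizer ((E.map M.subtype : Subgroup G) : Set G) with hW
    have hzW : ((z : M) : G) ∈ W := by
      refine Subgroup.mem_inf.2 ⟨hzF, Subgroup.mem_centralizer_iff.2 ?_⟩
      rintro _ ⟨e, he, rfl⟩
      exact congrArg (fun v : E => ((v : M) : G)) (Subgroup.mem_center_iff.1 hzc ⟨e, he⟩)
    have hWne : W ≠ ⊥ := fun e => by
      rw [e, Subgroup.mem_bot] at hzW
      have hz1 : z = 1 := Subtype.ext (Subtype.ext hzW)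
      rw [hz1, orderOf_one] at hzo
      omega
    have hMW : M ≤ Subgroup.normalizer (W : Set G) := by
      intro g hg
      have key : ∀ g ∈ M, ∀ v ∈ W, g * v * g⁻¹ ∈ W := by
        intro g hg v hv
        refine Subgroup.mem_inf.2 ⟨(Subgroup.mem_normalizer_iff.1 hg v).1 hv.1, Subgroup.mem_centralizer_iff.2 ?_⟩
        rintro _ ⟨e, he, rfl⟩
        have he' : g⁻¹ * (e : G) * g ∈ E.map M.subtype := by
          refine ⟨(⟨g, hg⟩ : M)⁻¹ * e * ⟨g, hg⟩, ?_, rfl⟩
          have := (inferInstance : E.Normal).conj_mem e he (⟨g, hg⟩ : M)⁻¹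
          rwa [inv_inv] at this
        have h1 := Subgroup.mem_centralizer_iff.1 hv.2 _ he'
        show (e : G) * (g * v * g⁻¹) = g * v * g⁻¹ * (e : G)
        calc (e : G) * (g * v * g⁻¹) = g * (g⁻¹ * (e : G) * g * v) * g⁻¹ := by group
          _ = g * (v * (g⁻¹ * (e : G) * g)) * g⁻¹ := by rw [h1]
          _ = g * v * g⁻¹ * (e : G) := by group
      refine Subgroup.mem_normalizer_iff.2 fun v => ⟨key g hg v, fun hv => ?_⟩
      have := key g⁻¹ (inv_mem hg) _ hv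
      rwa [show g⁻¹ * (g * v * g⁻¹) * g⁻¹⁻¹ = v by group] at this
    have hW2 : IsPGroup 2 W := hD2.to_le inf_le_left
    obtain ⟨j, hj⟩ := IsPGroup.iff_card.1 hW2
    have hd : 2 ^ n + 1 ∣ 2 ^ j - 1 := by
      rw [← hj]
      refine hC.odd_dvd_pred hW2 ?_ (hdiv.trans (Subgroup.card_dvd_of_le (hHM.trans hMW)))
      exact ((Nat.even_pow' (by obtain ⟨T, hT, -⟩ := hE.bor; have := hT.two_le; omega)).2 even_two).add_one
    have hn0 : n ≠ 0 := by obtain ⟨T, hT, -⟩ := hE.bor; have := hT.two_le; omega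
    have hj0 : j ≠ 0 := fun e => hWne (Subgroup.card_eq_one.1 (by rw [hj, e, pow_zero]))
    have h2n := Nat.le_of_dvd (Nat.pos_of_ne_zero hj0) (two_mul_dvd_of_succ hn0 hd)
    have hWD : W = D := Subgroup.eq_of_le_of_card_ge inf_le_left (by
      rw [hj, hcD, ← pow_add]
      exact Nat.pow_le_pow_right two_pos (by omega))
    refine le_antisymm (fun e he => ?_) hDc
    refine hCD (Subgroup.mem_centralizer_iff.2 fun d hd => ?_)
    exact (Subgroup.mem_centralizer_iff.1 (hWD.ge hd).2 (e : G) ⟨e, he, rfl⟩).symm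
  obtain ⟨-, -, l, T, hT⟩ := (hC.subgroup M).top hnsM hcoreM hbM
  obtain ⟨P₀, hP₀2, hP₀c, -⟩ := hE.common
  set PM := (P₀.map H.subtype).subgroupOf M with hPM
  have hP₀M : P₀.map H.subtype ≤ M := (Subgroup.map_subtype_le _).trans hHM
  have hPM2 : IsPGroup 2 PM := (hP₀2.map _).comap_subtype
  set πM := QuotientGroup.mk' (Cfsg.pCore 2 M)
  set PQ := PM.map πM with hPQ
  have hDPM : Cfsg.pCore 2 M ≤ PM := by
    rw [hcoreEq]
    rintro v ⟨d, hd, e⟩
    exact ⟨d, (hE.bor_at hP₀2 hP₀c).1 hd, e⟩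
  have hcc : Nat.card (Cfsg.pCore 2 M) = 2 ^ n * 2 ^ n := by
    rw [hcoreEq, Nat.card_congr (Subgroup.subgroupOfEquivOfLe hDM).toEquiv, hcD]
  have hPQc : Nat.card PQ = 2 ^ n := by
    have h := Solv.card_map_mk'_mul_card_inf (Cfsg.pCore 2 M) PM
    rw [inf_eq_left.2 hDPM, hcc, hPM, Nat.card_congr (Subgroup.subgroupOfEquivOfLe hP₀M).toEquiv, Solv.card_map_subtype, hP₀c, ← hPM,
      mul_comm] at h
    exact Nat.eq_of_mul_eq_mul_left (by positivity) h
  have hPQsq : ∀ q ∈ PQ, q * q = 1 := by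
    rintro _ ⟨v, ⟨p, hp, e⟩, rfl⟩
    rw [← map_mul]
    refine (QuotientGroup.eq_one_iff _).2 ?_
    rw [hcoreEq]
    exact ⟨p * p, hE.square_mem hP₀2 hP₀c hp, by rw [map_mul, e]; rfl⟩
  haveI : IsMulCommutative PQ := ⟨⟨fun a b => Subtype.ext (by
    have h := hPQsq _ (mul_mem a.2 b.2)
    rw [mul_eq_one_iff_eq_inv, mul_inv_rev, inv_eq_of_mul_eq_one_right (hPQsq _ a.2),
      inv_eq_of_mul_eq_one_right (hPQsq _ b.2)] at h
    exact h)⟩⟩
  have hdT : Nat.card T + 1 ∣ 2 ^ n * 2 ^ n - 1 := by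
    rw [← hcD]
    exact hC.odd_dvd_pred hD2 hT.succ_odd (hT.succ_dvd.trans (Subgroup.card_quotient_dvd_card _))
  have hn0 : 0 < n := by obtain ⟨T, hT, -⟩ := hE.bor; have := hT.two_le; omega
  have hl2 := hT.two_le
  rcases hT.kind with ⟨hTc, -, -⟩ | ⟨hTc, -, -, hnaT⟩
  swap
  · exfalso
    rw [hTc, ← pow_mul, mul_comm l 2] at hdT
    have h1 := Nat.le_of_dvd hn0 (mul_dvd_of_succ (by omega) hdT)
    have h2 := hT.abelian_lt hnaT (P := PQ) (hPM2.map _)
    rw [hPQc, hTc, ← pow_mul, mul_comm l 2] at h2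
    have := (Nat.pow_lt_pow_iff_right (by norm_num : 1 < 2)).1 h2
    omega
  rw [hTc] at hdT
  have hln : l = n := by
    have h1 := Nat.le_of_dvd hn0 (mul_dvd_of_succ (by omega) hdT)
    have h2 : 2 ^ n ≤ 2 ^ l := hPQc ▸ hTc ▸ hT.two_le_T (hPM2.map _)
    have := (Nat.pow_le_pow_iff_right (by norm_num : 1 < 2)).1 h2
    omega
  subst hln
  have hMH : H = M := Subgroup.eq_of_le_of_card_ge hHM (by
    rw [(Cfsg.pCore 2 M).card_eq_card_quotient_mul_card_subgroup, hT.cardG, hTc, hcc, hE.card_H, mul_comm])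
  refine ⟨l, D, ?_, le_antisymm hCD fun d hd => Subgroup.mem_centralizer_iff.2 fun c hc => ?_⟩
  · show ExcCore l (D.subgroupOf M)
    have key : ∀ (K : Subgroup G) [(D.subgroupOf K).Normal], K = H → ExcCore l (D.subgroupOf K) := by
      intro K _ hK
      subst hK
      have e : D.subgroupOf H = Cfsg.pCore 2 H :=
        Subgroup.comap_map_eq_self_of_injective H.subtype_injective _
      simp only [e]
      exact hE
    exact key M hMH.symm
  · have h := hsqD _ (mul_mem hd hc)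
    rw [mul_eq_one_iff_eq_inv, mul_inv_rev, inv_eq_of_mul_eq_one_right (hsqD d hd),
      inv_eq_of_mul_eq_one_right (hsqD c hc)] at h
    exact h.symm

end Cfsg.Agent.Solv.CITGroups
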