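import Cfsg.Agent.Lib.Solv.CIT.ExcIn

/-!
A Sylow 2-subgroup of the normalizer of an exceptional subgroup: the second elementary subgroup.
-/

set_option autoImplicit false
set_option linter.style.haveILetI false
set_option linter.unusedSectionVars false

namespace Cfsg.Agent.Solv.CITGroups

open Cfsg
open Cfsg.Agent.Solv.EPPOSeven (conjS mem_conjS card_conjS mem_normalizer_conjS)

universe u

section Transport

variable {H H' : Type u} [Group H] [Finite H] [Group H'] [Finite H'] {n : ℕ}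

theorem ExcCore.map {D : Subgroup H} [D.Normal] {D' : Subgroup H'} [D'.Normal] (hE : ExcCore n D)
    (e : H ≃* H') (hD : D.map e.toMonoidHom = D') : ExcCore n D' := by
  have hmem : ∀ x, e x ∈ D' ↔ x ∈ D := fun x => hD ▸ Subgroup.mem_map_iff_mem e.injective
  let f : H ⧸ D ≃* H' ⧸ D' := QuotientGroup.congr D D' e hD
  haveI := hE.simple
  refine ⟨hD ▸ hE.two.map _, ?_, ?_, ?_, ?_, ?_, ?_, ?_⟩
  · rw [← hD, Subgroup.card_map_of_injective (f := e.toMonoidHom) e.injective, hE.card_D]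
  · intro d hd
    obtain ⟨d, rfl⟩ := e.surjective d
    rw [← map_mul, hE.sq d ((hmem d).1 hd), map_one]
  · intro g hg
    obtain ⟨g, rfl⟩ := e.surjective g
    refine (hmem g).2 (hE.cent (Subgroup.mem_centralizer_iff.2 fun d hd => e.injective ?_))
    rw [map_mul, map_mul]
    exact Subgroup.mem_centralizer_iff.1 hg _ ((hmem d).2 hd)
  · exact f.symm.isSimpleGroup
  · obtain ⟨a, b, hab⟩ := hE.nab
    exact ⟨f a, f b, fun h => hab (f.injective (by rw [map_mul, map_mul]; exact h))⟩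
  · obtain ⟨T, hT, hTc⟩ := hE.bor
    exact ⟨T.map f.toMonoidHom, hT.map f,
      (Subgroup.card_map_of_injective (f := f.toMonoidHom) f.injective).trans hTc⟩
  · obtain ⟨P, hP2, hPc, hcom⟩ := hE.common
    refine ⟨P.map e.toMonoidHom, hP2.map _,
      (Subgroup.card_map_of_injective (f := e.toMonoidHom) e.injective).trans hPc, ?_⟩
    rintro _ ⟨x, hx, rfl⟩ _ ⟨y, hy, rfl⟩ hxD hyD
    have h := hcom x hx y hy (fun h => hxD ((hmem x).2 h)) (fun h => hyD ((hmem y).2 h))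
    have key : ∀ a b : H, D ⊓ Subgroup.centralizer ({a} : Set H) ≤ D ⊓ Subgroup.centralizer ({b} : Set H) →
        D' ⊓ Subgroup.centralizer ({e a} : Set H') ≤ D' ⊓ Subgroup.centralizer ({e b} : Set H') := fun a b hle v hv => by
      obtain ⟨v, rfl⟩ := e.surjective v
      have h1 : v ∈ D ⊓ Subgroup.centralizer ({a} : Set H) := Subgroup.mem_inf.2
        ⟨(hmem v).1 hv.1, Subgroup.mem_centralizer_singleton_iff.2 (e.injective (by
          rw [map_mul, map_mul]; exact Subgroup.mem_centralizer_singleton_iff.1 hv.2))⟩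
      refine Subgroup.mem_inf.2 ⟨hv.1, Subgroup.mem_centralizer_singleton_iff.2 ?_⟩
      rw [← map_mul, Subgroup.mem_centralizer_singleton_iff.1 (hle h1).2, map_mul]
    exact le_antisymm (key x y h.le) (key y x h.ge)

end Transport

variable {G : Type u} [Group G] [Finite G] {n : ℕ} {D : Subgroup G}

theorem ExcIn.conj (h : ExcIn n D) (g : G) : ExcIn n (conjS g D) := by
  refine ⟨?_, ?_⟩
  · set N := Subgroup.normalizer (D : Set G) with hN
    set N' := Subgroup.normalizer ((conjS g D : Subgroup G) : Set G) with hN'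
    have hNN : N.map (MulAut.conj g).toMonoidHom = N' :=
      Subgroup.map_normalizer_eq_of_bijective (f := (MulAut.conj g).toMonoidHom) D (MulAut.conj g).bijective
    refine h.1.map (((MulAut.conj g).subgroupMap N).trans (MulEquiv.subgroupCongr hNN)) ?_
    ext ⟨x, hx⟩
    constructor
    · rintro ⟨d, hd, e⟩
      exact ⟨d, hd, congrArg Subtype.val e⟩
    · rintro ⟨d, hd, e⟩
      exact ⟨⟨d, Subgroup.le_normalizer hd⟩, hd, Subtype.ext e⟩
  · ext x
    rw [mem_conjS]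
    conv_rhs => rw [← h.2]
    simp only [Subgroup.mem_centralizer_iff, SetLike.mem_coe]
    constructor
    · intro hx d hd
      have := hx (g * d * g⁻¹) ⟨d, hd, rfl⟩
      calc d * (g⁻¹ * x * g) = g⁻¹ * (g * d * g⁻¹ * x) * g := by group
        _ = g⁻¹ * (x * (g * d * g⁻¹)) * g := by rw [this]
        _ = g⁻¹ * x * g * d := by group
    · intro hx d hd
      have := hx _ (mem_conjS.1 hd)
      calc d * x = g * (g⁻¹ * d * g * (g⁻¹ * x * g)) * g⁻¹ := by group
        _ = g * (g⁻¹ * x * g * (g⁻¹ * d * g)) * g⁻¹ := by rw [this]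
        _ = x * d := by group

theorem ExcIn.Syl.conj {P : Subgroup G} (hP : ExcIn.Syl n D P) (g : G) : ExcIn.Syl n (conjS g D) (conjS g P) :=
  ⟨fun x hx => mem_normalizer_conjS.2 (hP.le (mem_conjS.1 hx)), hP.two.map _, (card_conjS g P).trans hP.card⟩

theorem ExcIn.conj_mem (h : ExcIn n D) {P : Subgroup G} (hP : ExcIn.Syl n D P) {x d : G} (hx : x ∈ P)
    (hd : d ∈ D) : x * d * x⁻¹ ∈ D :=
  (Subgroup.mem_normalizer_iff.1 (hP.le hx) d).1 hd

theorem ExcIn.eq_inv (h : ExcIn n D) {d : G} (hd : d ∈ D) : d⁻¹ = d :=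
  inv_eq_of_mul_eq_one_right (h.sq hd)

/-- The fixed subgroup is central in the Sylow subgroup. -/
theorem ExcIn.fix_central (h : ExcIn n D) {P Z : Subgroup G} (hP : ExcIn.Syl n D P) (hZD : Z ≤ D)
    (hZ : ∀ x ∈ P, x ∉ D → D ⊓ Subgroup.centralizer ({x} : Set G) = Z) {z x : G} (hz : z ∈ Z) (hx : x ∈ P) :
    z * x = x * z := by
  by_cases hxD : x ∈ D
  · exact h.comm (hZD hz) hxD
  · exact Subgroup.mem_centralizer_singleton_iff.1 ((hZ x hx hxD).ge hz).2

/-- An involution of the Sylow subgroup outside. -/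
theorem ExcIn.exists_invol_out (h : ExcIn n D) (hC : CIT G) {P : Subgroup G} (hP : ExcIn.Syl n D P) :
    ∃ t ∈ P, t ∉ D ∧ orderOf t = 2 := by
  set N := Subgroup.normalizer (D : Set G)
  haveI := h.1.simple
  obtain ⟨hDP, -, -⟩ := h.1.bor_at hP.sub.1 hP.sub.2
  obtain ⟨x, hx, hxD⟩ : ∃ x ∈ P.subgroupOf N, x ∉ D.subgroupOf N := by
    by_contra hno
    push Not at hno
    have h1 : D.subgroupOf N = P.subgroupOf N := le_antisymm hDP hno
    have h2 := h.1.card_D
    rw [h1, hP.sub.2] at h2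
    have h3 := Nat.one_lt_two_pow (n := n) (by have := h.two_le; omega)
    have : 0 < 2 ^ n * 2 ^ n := by positivity
    nlinarith
  have hπ := h.1.order_two hP.sub.1 hP.sub.2 hx hxD
  obtain ⟨r, y, t, -, -, -, ht, hte, -⟩ := (hC.subgroup N).exists_inverting_lift h.1.two hπ (by
    rw [pCore_simple_eq_bot h.1.nab, Subgroup.mem_bot]
    intro e
    rw [e, orderOf_one] at hπ
    omega)
  have hd : x⁻¹ * t ∈ D.subgroupOf N := QuotientGroup.eq.1 hte.symm
  refine ⟨t, ?_, fun htD => hxD ?_, by rwa [Subgroup.orderOf_coe]⟩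
  · have := mul_mem hx (hDP hd)
    rw [mul_inv_cancel_left] at this
    exact this
  · have := mul_mem (show t ∈ D.subgroupOf N from htD) (inv_mem hd)
    rwa [mul_inv_rev, inv_inv, mul_inv_cancel_left] at this

/-- A second elementary subgroup of order `q²`. -/
theorem ExcIn.other (h : ExcIn n D) {P Z A : Subgroup G} (hP : ExcIn.Syl n D P) (hZD : Z ≤ D)
    (hZc : Nat.card Z = 2 ^ n) (hZ : ∀ x ∈ P, x ∉ D → D ⊓ Subgroup.centralizer ({x} : Set G) = Z)
    (hAP : A ≤ P) (hAsq : ∀ a ∈ A, a * a = 1) (hAc : Nat.card A = 2 ^ n * 2 ^ n) (hne : A ≠ D) :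
    A ⊓ D = Z ∧ (∀ x ∈ P, ∃ a ∈ A, a⁻¹ * x ∈ D) ∧ ∀ t ∈ P, t ∉ D → t * t = 1 → t ∈ A := by
  obtain ⟨a₀, ha₀, ha₀D⟩ : ∃ a ∈ A, a ∉ D := by
    by_contra hno
    push Not at hno
    exact hne (Subgroup.eq_of_le_of_card_ge hno (h.card_D.trans hAc.symm).le)
  have hAcomm : ∀ a ∈ A, ∀ b ∈ A, a * b = b * a := fun a ha b hb => by
    have e := hAsq _ (mul_mem ha hb)
    rwa [mul_eq_one_iff_eq_inv, mul_inv_rev, inv_eq_of_mul_eq_one_right (hAsq a ha),
      inv_eq_of_mul_eq_one_right (hAsq b hb)] at e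
  have hle : A ⊓ D ≤ Z := by
    rw [← hZ a₀ (hAP ha₀) ha₀D]
    exact fun v hv => Subgroup.mem_inf.2 ⟨hv.2, Subgroup.mem_centralizer_singleton_iff.2 (hAcomm v hv.1 a₀ ha₀)⟩
  have hDP := h.le_syl hP
  haveI : (D.subgroupOf P).Normal := ⟨fun v hv g => h.conj_mem hP g.2 hv⟩
  set f : A →* P ⧸ D.subgroupOf P := (QuotientGroup.mk' (D.subgroupOf P)).comp (Subgroup.inclusion hAP) with hf
  have hQ : Nat.card (P ⧸ D.subgroupOf P) = 2 ^ n := by
    have e := (D.subgroupOf P).card_eq_card_quotient_mul_card_subgroup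
    rw [Nat.card_congr (Subgroup.subgroupOfEquivOfLe hDP).toEquiv, h.card_D, hP.card, mul_comm] at e
    exact (Nat.eq_of_mul_eq_mul_right (Nat.mul_pos (pow_pos two_pos n) (pow_pos two_pos n))
      (by rw [mul_comm (2 ^ n) (2 ^ n * 2 ^ n)] at *; linarith)).symm
  have hker : Nat.card f.ker = Nat.card ↥(A ⊓ D) := by
    refine Nat.card_congr ⟨fun a => ⟨a.1, a.1.2, ?_⟩, fun v => ⟨⟨v, v.2.1⟩, ?_⟩, fun a => rfl, fun v => rfl⟩
    · exact (QuotientGroup.eq_one_iff (N := D.subgroupOf P) ⟨a.1.1, hAP a.1.2⟩).1 a.2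
    · exact (QuotientGroup.eq_one_iff (N := D.subgroupOf P) ⟨v.1, hAP v.2.1⟩).2 v.2.2
  have hcard : Nat.card A = Nat.card f.range * Nat.card ↥(A ⊓ D) := by
    rw [← hker, ← Subgroup.index_ker f, mul_comm, Subgroup.card_mul_index]
  have hr : Nat.card f.range ≤ 2 ^ n := hQ ▸ Subgroup.card_le_card_group f.range
  have hinf : Nat.card ↥(A ⊓ D) ≤ 2 ^ n := hZc ▸ Nat.card_le_card_of_injective _ (Subgroup.inclusion_injective hle)
  rw [hAc] at hcard
  have hq : 0 < 2 ^ n := pow_pos two_pos n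
  have h1 : Nat.card ↥(A ⊓ D) = 2 ^ n := le_antisymm hinf (by nlinarith)
  have h2 : Nat.card f.range = 2 ^ n := by rw [h1] at hcard; exact (Nat.eq_of_mul_eq_mul_right hq hcard).symm
  have hAD : A ⊓ D = Z := Subgroup.eq_of_le_of_card_ge hle (hZc.trans h1.symm).le
  have hcov : ∀ x ∈ P, ∃ a ∈ A, a⁻¹ * x ∈ D := fun x hx => by
    have htop : f.range = ⊤ := Subgroup.eq_top_of_card_eq _ (h2.trans hQ.symm)
    obtain ⟨a, ha⟩ := htop.ge (Subgroup.mem_top (QuotientGroup.mk' (D.subgroupOf P) ⟨x, hx⟩))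
    exact ⟨a, a.2, (QuotientGroup.eq (s := D.subgroupOf P) (a := ⟨a.1, hAP a.2⟩) (b := ⟨x, hx⟩)).1 ha⟩
  refine ⟨hAD, hcov, fun t ht htD htt => ?_⟩
  obtain ⟨a, ha, hd⟩ := hcov t ht
  have haD : a ∉ D := fun haD => htD (by simpa using mul_mem haD hd)
  set d := a⁻¹ * t with hdef
  have hai : a⁻¹ = a := inv_eq_of_mul_eq_one_right (hAsq a ha)
  have hda : d * a = a * d := by
    have e : a * d * (a * d) = 1 := by rw [hdef]; simpa using htt
    rw [mul_eq_one_iff_eq_inv, mul_inv_rev, hai, h.eq_inv hd] at e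
    exact e.symm
  have hdZ : d ∈ Z := (hZ a (hAP ha) haD).le
    (Subgroup.mem_inf.2 ⟨hd, Subgroup.mem_centralizer_singleton_iff.2 hda⟩)
  have := mul_mem ha (hAD.ge hdZ).1
  rwa [hdef, mul_inv_cancel_left] at this

/-- Two such subgroups coincide. -/
theorem ExcIn.other_unique (h : ExcIn n D) {P Z A B : Subgroup G} (hP : ExcIn.Syl n D P) (hZD : Z ≤ D)
    (hZc : Nat.card Z = 2 ^ n) (hZ : ∀ x ∈ P, x ∉ D → D ⊓ Subgroup.centralizer ({x} : Set G) = Z)
    (hAP : A ≤ P) (hAsq : ∀ a ∈ A, a * a = 1) (hAc : Nat.card A = 2 ^ n * 2 ^ n) (hA : A ≠ D)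
    (hBP : B ≤ P) (hBsq : ∀ b ∈ B, b * b = 1) (hBc : Nat.card B = 2 ^ n * 2 ^ n) (hB : B ≠ D) : B = A := by
  obtain ⟨hAD, -, hAall⟩ := h.other hP hZD hZc hZ hAP hAsq hAc hA
  obtain ⟨hBD, -, -⟩ := h.other hP hZD hZc hZ hBP hBsq hBc hB
  refine Subgroup.eq_of_le_of_card_ge (fun b hb => ?_) (hAc.trans hBc.symm).le
  by_cases hbD : b ∈ D
  · exact (hAD.ge (hBD.le ⟨hb, hbD⟩)).1
  · exact hAall b (hBP hb) hbD (hBsq b hb)

/-- It is normalized by whatever normalizes the Sylow subgroup and the exceptional subgroup. -/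
theorem ExcIn.other_normalized (h : ExcIn n D) (hC : CIT G) {P A : Subgroup G} (hP : ExcIn.Syl n D P)
    (hAP : A ≤ P) (hAsq : ∀ a ∈ A, a * a = 1) (hAc : Nat.card A = 2 ^ n * 2 ^ n) (hA : A ≠ D) {g : G}
    (hgD : g ∈ Subgroup.normalizer (D : Set G)) (hgP : g ∈ Subgroup.normalizer (P : Set G)) :
    g ∈ Subgroup.normalizer (A : Set G) := by
  obtain ⟨Z, hZD, hZc, hZ⟩ := h.fix hC hP
  have e : conjS g A = A := by
    refine h.other_unique hP hZD hZc hZ hAP hAsq hAc hA ?_ ?_ ((card_conjS g A).trans hAc) fun e => hA ?_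
    · rintro _ ⟨a, ha, rfl⟩
      exact (Subgroup.mem_normalizer_iff.1 hgP a).1 (hAP ha)
    · rintro _ ⟨a, ha, rfl⟩
      show g * a * g⁻¹ * (g * a * g⁻¹) = 1
      rw [show g * a * g⁻¹ * (g * a * g⁻¹) = g * (a * a) * g⁻¹ by group, hAsq a ha, mul_one, mul_inv_cancel]
    · refine Subgroup.eq_of_le_of_card_ge (fun a ha => ?_) (h.card_D.trans hAc.symm).le
      exact (Subgroup.mem_normalizer_iff.1 hgD a).2 (e.le ⟨a, ha, rfl⟩)
  refine Subgroup.mem_normalizer_iff.2 fun a => ⟨fun ha => e.le ⟨a, ha, rfl⟩, fun ha => ?_⟩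
  have := mem_conjS.1 (e.ge ha)
  rwa [show g⁻¹ * (g * a * g⁻¹) * g = a by group] at this

end Cfsg.Agent.Solv.CITGroups
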