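import Cfsg.Agent.Lib.Solv.CIT.ExcConfig
import Mathlib.GroupTheory.GroupAction.Quotient

/-!
The incidence geometry of the exceptional configuration: the counting.
-/

set_option autoImplicit false
set_option linter.style.haveILetI false
set_option linter.unusedSectionVars false

namespace Cfsg.Agent.Solv.CITGroups

open Cfsg
open Cfsg.Agent.Solv.EPPOSeven (conjS mem_conjS card_conjS mem_normalizer_conjS)

universe u

variable {G : Type u} [Group G] [Finite G] {D E P Z : Subgroup G}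

local notation "Pt" => G ⧸ Subgroup.normalizer ((D : Subgroup G) : Set G)

/-- The base point. -/
abbrev base (D : Subgroup G) : G ⧸ Subgroup.normalizer (D : Set G) := ((1 : G) : G ⧸ Subgroup.normalizer (D : Set G))

theorem smul_base {g g' : G} : g • base D = g' • base D ↔ g⁻¹ * g' ∈ Subgroup.normalizer (D : Set G) := by
  show ((g * 1 : G) : G ⧸ Subgroup.normalizer (D : Set G)) = ((g' * 1 : G) : G ⧸ Subgroup.normalizer (D : Set G)) ↔ _
  rw [mul_one, mul_one, QuotientGroup.eq]

theorem smul_base_self {g : G} : g • base D = base D ↔ g ∈ Subgroup.normalizer (D : Set G) := by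
  conv_lhs => rhs; rw [← one_smul G (base D)]
  rw [smul_base, mul_one, inv_mem_iff]

theorem exists_rep (y : G ⧸ Subgroup.normalizer (D : Set G)) : ∃ g : G, g • base D = y := by
  induction y using QuotientGroup.induction_on with
  | H g => exact ⟨g, by
      show ((g * 1 : G) : G ⧸ Subgroup.normalizer (D : Set G)) = _
      rw [mul_one]⟩

theorem fix_of_mem {g x : G} (hx : x ∈ conjS g D) : x • g • base D = g • base D := by
  rw [smul_smul, smul_base, show (x * g)⁻¹ * g = g⁻¹ * x⁻¹ * g by group]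
  exact Subgroup.le_normalizer (mem_conjS.1 (inv_mem hx))

/-- Two lines through a point meet only there. -/
theorem Cfg.blk_inter (h : Cfg D E P Z) (hC : CIT G) {m m₂ m₂' : G} (hm : m ∈ Subgroup.normalizer (D : Set G))
    (hmE : m ∉ Subgroup.normalizer (E : Set G)) (hm₂ : m₂ ∈ Subgroup.normalizer (E : Set G))
    (hm₂' : m₂' ∈ Subgroup.normalizer (E : Set G)) (he : (m * m₂') • base D = m₂ • base D) :
    m₂ ∈ Subgroup.normalizer (D : Set G) := by
  have hEM : E ≤ (Subgroup.normalizer (D : Set G)) := (h.excE.le_syl h.sylE).trans h.sylD.le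
  have h1 : ∀ e ∈ E, m₂⁻¹ * e * m₂ ∈ (Subgroup.normalizer (D : Set G)) := fun e he => hEM (by
    have := (Subgroup.mem_normalizer_iff.1 (inv_mem hm₂) e).1 he
    rwa [inv_inv] at this)
  have h2 : ∀ e ∈ E, m₂⁻¹ * (m * e * m⁻¹) * m₂ ∈ (Subgroup.normalizer (D : Set G)) := fun e he' => by
    set w := (m * m₂')⁻¹ * m₂ with hw
    have hwM : w ∈ (Subgroup.normalizer (D : Set G)) := smul_base.1 he
    have := (Subgroup.mem_normalizer_iff.1 (inv_mem hm₂') e).1 he'
    rw [inv_inv] at this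
    rw [show m₂⁻¹ * (m * e * m⁻¹) * m₂ = w⁻¹ * (m₂'⁻¹ * e * m₂') * w by rw [hw]; group]
    exact mul_mem (mul_mem (inv_mem hwM) (hEM this)) hwM
  -- the two fixed subgroups generate
  have hZE : Z ≤ E := fun z hz => (h.inf.ge hz).1
  have hdis : ∀ z ∈ Z, z ∈ conjS m Z → z = 1 := by
    intro z hz hz'
    by_contra hz1
    obtain ⟨z', hz'', e⟩ := hz'
    have hz'1 : z' ≠ 1 := fun e0 => hz1 (by rw [← e, e0, map_one])
    refine hmE ?_
    have hmP : m ∈ Subgroup.normalizer (P : Set G) := by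
      refine Subgroup.mem_normalizer_iff.2 fun p => ?_
      rw [← h.cen z' hz'' hz'1]
      conv_rhs => rw [h.cen z' hz'' hz'1, ← h.cen z hz hz1]
      rw [Subgroup.mem_centralizer_singleton_iff, Subgroup.mem_centralizer_singleton_iff, ← e]
      show p * z' = z' * p ↔ m * p * m⁻¹ * (m * z' * m⁻¹) = m * z' * m⁻¹ * (m * p * m⁻¹)
      rw [show m * p * m⁻¹ * (m * z' * m⁻¹) = m * (p * z') * m⁻¹ by group,
        show m * z' * m⁻¹ * (m * p * m⁻¹) = m * (z' * p) * m⁻¹ by group]
      exact ⟨fun e0 => by rw [e0], fun e0 => mul_left_cancel (mul_right_cancel e0)⟩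
    exact h.excD.other_normalized hC h.sylD (h.excE.le_syl h.sylE) (fun a ha => h.excE.sq ha) h.excE.card_D h.ne
      hm hmP
  have hDle : ∀ d ∈ D, ∃ a ∈ Z, ∃ b ∈ Z, a * (m * b * m⁻¹) = d := by
    let f : Z × Z → D := fun p => ⟨p.1 * (m * p.2 * m⁻¹),
      mul_mem (h.ZD p.1.2) ((Subgroup.mem_normalizer_iff.1 hm _).1 (h.ZD p.2.2))⟩
    have hf : Function.Injective f := by
      rintro ⟨a, b⟩ ⟨a', b'⟩ e0
      have e1 : (a : G) * (m * b * m⁻¹) = a' * (m * b' * m⁻¹) := congrArg Subtype.val e0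
      have e2 : (a' : G)⁻¹ * a = m * (b' * (b : G)⁻¹) * m⁻¹ := by
        calc (a' : G)⁻¹ * a = (a' : G)⁻¹ * (a * (m * b * m⁻¹)) * (m * b * m⁻¹)⁻¹ := by group
          _ = m * (b' * (b : G)⁻¹) * m⁻¹ := by rw [e1]; group
      have h0 := hdis _ (mul_mem (inv_mem a'.2) a.2) ⟨_, mul_mem b'.2 (inv_mem b.2), e2.symm⟩
      refine Prod.ext (Subtype.ext (inv_mul_eq_one.1 h0).symm) (Subtype.ext ?_)
      rw [e2, conj_eq_one_iff, mul_inv_eq_one] at h0
      exact h0.symm
    have hb := hf.bijective_of_nat_card_le (by rw [Nat.card_prod, h.cardZ, h.cardD])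
    intro d hd
    obtain ⟨⟨a, b⟩, hab⟩ := hb.2 ⟨d, hd⟩
    exact ⟨a, a.2, b, b.2, congrArg Subtype.val hab⟩
  have hle : conjS m₂⁻¹ D ≤ (Subgroup.normalizer (D : Set G)) := by
    rintro _ ⟨d, hd, rfl⟩
    obtain ⟨a, ha, b, hb, rfl⟩ := hDle d hd
    have := mul_mem (h1 a (hZE ha)) (h2 b (hZE hb))
    show m₂⁻¹ * (a * (m * b * m⁻¹)) * m₂⁻¹⁻¹ ∈ (Subgroup.normalizer (D : Set G))
    rwa [show m₂⁻¹ * a * m₂ * (m₂⁻¹ * (m * b * m⁻¹) * m₂) = m₂⁻¹ * (a * (m * b * m⁻¹)) * m₂⁻¹⁻¹ by group] at this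
  exact inv_mem_iff.1 (h.four_N hC hle)

/-- The stabilizer of a pair on a line normalizes it. -/
theorem Cfg.pair_le (h : Cfg D E P Z) (hC : CIT G) {m m₂ m₂' : G} (hm : m ∈ Subgroup.normalizer (D : Set G))
    (hm₂ : m₂ ∈ Subgroup.normalizer (E : Set G)) (hm₂' : m₂' ∈ Subgroup.normalizer (E : Set G))
    (hne : m₂ ∉ Subgroup.normalizer (D : Set G)) (he : (m * m₂') • base D = m₂ • base D) :
    m ∈ Subgroup.normalizer (E : Set G) := by
  by_contra hmE
  exact hne (h.blk_inter hC hm hmE hm₂ hm₂' he)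

/-- Inside the stabilizer of a pair on a line, conjugates of the first subgroup lie in the second. -/
theorem Cfg.mem_E (h : Cfg D E P Z) (hC : CIT G) {g d : G} (hgE : g ∈ Subgroup.normalizer (E : Set G))
    (hg : g ∉ Subgroup.normalizer (D : Set G)) (hd : d ∈ conjS g D)
    (hdD : d ∈ Subgroup.normalizer (D : Set G)) : d ∈ E := by
  by_cases hd1 : d = 1
  · rw [hd1]; exact one_mem E
  have hdd : d * d = 1 := by
    obtain ⟨a, ha, rfl⟩ := hd
    rw [← map_mul, h.excD.sq ha, map_one]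
  have hdo : orderOf d = 2 := orderOf_two_iff.2 ⟨hdd, hd1⟩
  have hdE : d ∈ Subgroup.normalizer (E : Set G) := by
    have hv : g⁻¹ * d * g ∈ Subgroup.normalizer (E : Set G) :=
      (h.excD.le_syl h.sylD).trans h.sylE.le (mem_conjS.1 hd)
    have := mul_mem (mul_mem hgE hv) (inv_mem hgE)
    rwa [show g * (g⁻¹ * d * g) * g⁻¹ = d by group] at this
  have hdP : d ∈ P := h.two_eq (h.both_le ⟨hdD, hdE⟩) (a := 1) (by rw [hdo, pow_one])
  refine (h.inv d hdP hdd).resolve_left fun hdD' => hg ?_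
  have h1 : d ∈ conjS (1 : G) D := mem_conjS.2 (by simpa using hdD')
  simpa using h.uniq hC hdo h1 hd

/-- The involutions moving the base point to a given point. -/
def Movers (D : Subgroup G) (y : G ⧸ Subgroup.normalizer (D : Set G)) : Set G :=
  {u | orderOf u = 2 ∧ u • base D = y}

theorem mover_back {y : G ⧸ Subgroup.normalizer (D : Set G)} {u : G} (hu : u ∈ Movers D y) : u • y = base D := by
  rw [← hu.2, smul_smul, (orderOf_two_iff.1 hu.1).1, one_smul]

/-- The points of the line. -/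
noncomputable def blk (D E : Subgroup G) [Fintype (G ⧸ Subgroup.normalizer (D : Set G))] :
    Finset (G ⧸ Subgroup.normalizer (D : Set G)) :=
  @Finset.filter _ (fun y => ∃ m₂ ∈ Subgroup.normalizer (E : Set G), m₂ • base D = y) (_root_.Classical.decPred _)
    Finset.univ

theorem mem_blk [Fintype (G ⧸ Subgroup.normalizer (D : Set G))] {y : G ⧸ Subgroup.normalizer (D : Set G)} :
    y ∈ blk D E ↔ ∃ m₂ ∈ Subgroup.normalizer (E : Set G), m₂ • base D = y := by
  classical
  simp [blk]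

theorem Cfg.card_blk (h : Cfg D E P Z) (hC : CIT G) [Fintype (G ⧸ Subgroup.normalizer (D : Set G))] :
    (blk D E).card = 5 := by
  set M₂ := Subgroup.normalizer (E : Set G)
  have e1 : Nat.card {y // y ∈ blk D E} = (MulAction.stabilizer M₂ (base D)).index := by
    rw [MulAction.index_stabilizer, ← Nat.card_coe_set_eq]
    refine Nat.card_congr (Equiv.subtypeEquivRight fun y => ?_)
    rw [mem_blk]
    exact ⟨fun ⟨m, hm, e⟩ => ⟨⟨m, hm⟩, e⟩, fun ⟨m, e⟩ => ⟨m, m.2, e⟩⟩
  have e2 := (MulAction.stabilizer M₂ (base D)).card_mul_index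
  have e3 : Nat.card (MulAction.stabilizer M₂ (base D)) = 192 := by
    rw [← h.card_both hC]
    exact Nat.card_congr ⟨fun v => ⟨v.1.1, smul_base_self.1 v.2, v.1.2⟩,
      fun v => ⟨⟨v.1, v.2.2⟩, smul_base_self.2 v.2.1⟩, fun _ => rfl, fun _ => rfl⟩
  rw [e3, h.symm.cardN] at e2
  rw [Nat.card_eq_fintype_card, Fintype.card_coe] at e1
  omega

/-- At most twelve involutions interchange two points of a line. -/
theorem Cfg.movers_line (h : Cfg D E P Z) (hC : CIT G) {m₂ : G} (hm₂ : m₂ ∈ Subgroup.normalizer (E : Set G))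
    (hm₂D : m₂ ∉ Subgroup.normalizer (D : Set G)) : Nat.card (Movers D (m₂ • base D)) ≤ 12 := by
  classical
  haveI := Fintype.ofFinite (G ⧸ Subgroup.normalizer (D : Set G))
  haveI := Fintype.ofFinite G
  set M₂ := Subgroup.normalizer (E : Set G)
  set y := m₂ • base D with hy
  have hy0 : y ≠ base D := fun e => hm₂D (smul_base_self.1 e)
  set W := ((blk D E).erase (base D)).erase y with hW
  have hWc : W.card = 3 := by
    rw [hW, Finset.card_erase_of_mem (Finset.mem_erase.2 ⟨hy0, mem_blk.2 ⟨m₂, hm₂, rfl⟩⟩),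
      Finset.card_erase_of_mem (mem_blk.2 ⟨1, one_mem _, one_smul G _⟩), h.card_blk hC]
  set U : Finset G := Finset.univ.filter fun u => u ∈ Movers D y with hU
  have hUc : Nat.card (Movers D y) = U.card := by
    rw [Nat.card_eq_fintype_card]
    exact Fintype.card_of_subtype U (fun x => by simp [hU])
  let Dw : (G ⧸ (Subgroup.normalizer (D : Set G))) → Finset G := fun w => U.filter fun u => ∃ g ∈ M₂, g • base D = w ∧ u ∈ conjS g D
  have hcov : U ⊆ W.biUnion Dw := by
    intro u hu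
    have hu' : u ∈ Movers D y := (Finset.mem_filter.1 hu).2
    have huy := hu'.2
    have huM₂ : u ∈ M₂ := by
      have hmM : m₂⁻¹ * u ∈ (Subgroup.normalizer (D : Set G)) := smul_base.1 (huy.symm.trans rfl)
      have hback := mover_back hu'
      rw [hy, smul_smul] at hback
      have e : (m₂⁻¹ * u * m₂) • base D = m₂⁻¹ • base D := by
        rw [show m₂⁻¹ * u * m₂ = m₂⁻¹ * (u * m₂) by group, ← smul_smul, hback]
      have := h.pair_le hC hmM (inv_mem hm₂) hm₂ (fun h0 => hm₂D (inv_mem_iff.1 h0)) e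
      simpa using mul_mem hm₂ this
    obtain ⟨m, hm, hum⟩ := h.symm.inv_N hC hu'.1 huM₂
    have huE : u ∉ E := fun huE => hy0 (by
      rw [← huy]; exact smul_base_self.2 ((h.excE.le_syl h.sylE).trans h.sylD.le huE))
    refine Finset.mem_biUnion.2 ⟨m • base D, ?_, Finset.mem_filter.2 ⟨hu, m, hm, rfl, hum⟩⟩
    refine Finset.mem_erase.2 ⟨fun e => ?_, Finset.mem_erase.2 ⟨fun e => ?_, mem_blk.2 ⟨m, hm, rfl⟩⟩⟩
    · have h1 := fix_of_mem hum
      rw [e, mover_back hu'] at h1
      exact hy0 h1.symm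
    · have h1 := fix_of_mem hum
      rw [e, huy] at h1
      exact hy0 h1
  have hbound : ∀ w ∈ W, (Dw w).card ≤ 4 := by
    intro w hw
    rcases (Dw w).eq_empty_or_nonempty with e0 | ⟨u₀, hu₀⟩
    · rw [e0]; norm_num
    obtain ⟨hu₀U, g, hg, hgw, hu₀g⟩ := Finset.mem_filter.1 hu₀
    have hgD : g ∉ (Subgroup.normalizer (D : Set G)) := fun hgM => (Finset.mem_erase.1 (Finset.mem_erase.1 hw).2).1 (hgw ▸ smul_base_self.2 hgM)
    haveI := Fintype.ofFinite ↥(E ⊓ conjS g D)
    have hcard : Nat.card ↥(E ⊓ conjS g D) ≤ 4 := by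
      rw [← h.cardZ]
      have e : E ⊓ conjS g D ≤ conjS g Z := fun v hv => mem_conjS.2 (h.inf.le ⟨by
        have := (Subgroup.mem_normalizer_iff.1 (inv_mem hg) v).1 hv.1
        rwa [inv_inv] at this, mem_conjS.1 hv.2⟩)
      exact (Nat.card_le_card_of_injective _ (Subgroup.inclusion_injective e)).trans (card_conjS g Z).le
    rw [Nat.card_eq_fintype_card] at hcard
    have hmem : ∀ u ∈ Dw w, u₀ * u ∈ E ⊓ conjS g D := by
      intro u hu
      obtain ⟨huU, g', hg', hgw', hug⟩ := Finset.mem_filter.1 hu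
      have hgg : g'⁻¹ * g ∈ (Subgroup.normalizer (D : Set G)) := smul_base.1 (hgw'.trans hgw.symm)
      have hug' : u ∈ conjS g D := by
        have h1 := mem_conjS.1 hug
        have h2 := (Subgroup.mem_normalizer_iff.1 (inv_mem hgg) _).1 h1
        rw [mem_conjS]
        rwa [show (g'⁻¹ * g)⁻¹ * (g'⁻¹ * u * g') * (g'⁻¹ * g)⁻¹⁻¹ = g⁻¹ * u * g by group] at h2
      have hmul : u₀ * u ∈ conjS g D := mul_mem hu₀g hug'
      refine ⟨h.mem_E hC hg hgD hmul (smul_base_self.1 ?_), hmul⟩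
      rw [← smul_smul, (Finset.mem_filter.1 huU).2.2, mover_back (Finset.mem_filter.1 hu₀U).2]
    refine le_trans (Finset.card_le_card_of_injOn
      (fun u => if hu : u₀ * u ∈ E ⊓ conjS g D then (⟨_, hu⟩ : ↥(E ⊓ conjS g D)) else 1)
      (fun _ _ => Finset.mem_univ _) fun u hu v hv e1 => ?_) hcard
    simp only [Finset.mem_coe] at hu hv
    simp only [dif_pos (hmem u hu), dif_pos (hmem v hv)] at e1
    exact mul_left_cancel (congrArg Subtype.val e1)
  rw [hUc]
  exact (Finset.card_le_card hcov).trans (Finset.card_biUnion_le_card_mul _ _ _ hbound |>.trans (by rw [hWc]))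

/-- At most twelve involutions interchange two given points. -/
theorem Cfg.movers_le (h : Cfg D E P Z) (hC : CIT G) {y : G ⧸ Subgroup.normalizer (D : Set G)} (hy : y ≠ base D) :
    Nat.card (Movers D y) ≤ 12 := by
  classical
  haveI : Fact (Nat.Prime 2) := ⟨Nat.prime_two⟩
  haveI := h.excD.1.simple
  rcases Set.eq_empty_or_nonempty (Movers D y) with e | ⟨u₀, hu₀⟩
  · rw [e]; simp
  set S := (Subgroup.normalizer (D : Set G)) ⊓ MulAction.stabilizer G y with hS
  by_cases hodd : Odd (Nat.card S)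
  · have hle : Nat.card (Movers D y) ≤ Nat.card S := by
      refine Nat.card_le_card_of_injective (fun u : Movers D y => (⟨u₀ * u, ?_, ?_⟩ : S)) fun u v e =>
        Subtype.ext (mul_left_cancel (congrArg Subtype.val e))
      · refine smul_base_self.1 ?_
        rw [← smul_smul, u.2.2, mover_back hu₀]
      · show (u₀ * (u : G)) • y = y
        rw [← smul_smul, mover_back u.2, hu₀.2]
    refine hle.trans ?_
    have hdvd : Nat.card S ∣ 64 * 15 := by
      rw [show (64 * 15 : ℕ) = 960 by norm_num, ← h.cardN]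
      exact Subgroup.card_dvd_of_le inf_le_left
    have hd : Nat.card S ∣ 15 := Nat.Coprime.dvd_of_dvd_mul_left (by
      rw [show (64 : ℕ) = 2 ^ 6 by norm_num]; exact (Nat.coprime_two_right.2 hodd).pow_right 6) hdvd
    by_contra hgt
    have h15 : Nat.card S = 15 := by
      have := Nat.le_of_dvd (by norm_num) hd
      push Not at hgt
      obtain ⟨c, hc⟩ := hd
      have : c = 1 := by
        rcases c with _ | _ | c
        · omega
        · rfl
        · nlinarith
      subst this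
      omega
    set DN := D.subgroupOf (Subgroup.normalizer (D : Set G))
    set π := QuotientGroup.mk' DN
    have hSM : S ≤ (Subgroup.normalizer (D : Set G)) := inf_le_left
    have hcQ : Nat.card ((Subgroup.normalizer (D : Set G)) ⧸ DN) = 60 := by
      have e := DN.card_eq_card_quotient_mul_card_subgroup
      rw [h.cardN, h.excD.1.card_D] at e
      omega
    set S' := (S.subgroupOf (Subgroup.normalizer (D : Set G))).map π with hS'
    have hSc : Nat.card S' = 15 := by
      have e := Solv.card_map_mk'_mul_card_inf DN (S.subgroupOf (Subgroup.normalizer (D : Set G)))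
      rw [Nat.card_congr (Subgroup.subgroupOfEquivOfLe hSM).toEquiv, h15] at e
      have h1 : Nat.card ↥(DN ⊓ S.subgroupOf (Subgroup.normalizer (D : Set G))) = 1 := by
        refine Nat.eq_one_of_dvd_coprimes (show Nat.Coprime 15 16 by norm_num) ⟨_, (e.symm.trans (mul_comm _ _))⟩ ?_
        rw [show (16 : ℕ) = Nat.card DN from by rw [h.excD.1.card_D]; norm_num]
        exact Subgroup.card_dvd_of_le inf_le_left
      rw [h1, mul_one] at e
      exact e
    have hidx : S'.index = 4 := by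
      have e := S'.card_mul_index
      rw [hSc, hcQ] at e
      omega
    have hker : (MulAction.toPermHom ((Subgroup.normalizer (D : Set G)) ⧸ DN) (((Subgroup.normalizer (D : Set G)) ⧸ DN) ⧸ S')).ker = ⊥ := by
      rw [← Subgroup.normalCore_eq_ker]
      haveI := S'.normalCore_normal
      refine (IsSimpleGroup.eq_bot_or_eq_top_of_normal _ inferInstance).resolve_right fun e => ?_
      have e2 : S' = ⊤ := top_le_iff.1 (e.ge.trans S'.normalCore_le)
      rw [e2, Subgroup.index_top] at hidx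
      omega
    have hle' := Nat.card_le_card_of_injective _ ((MonoidHom.ker_eq_bot_iff _).1 hker)
    rw [Nat.card_perm, show Nat.card ((_ ⧸ DN) ⧸ S') = S'.index from rfl, hidx, hcQ] at hle'
    norm_num [Nat.factorial] at hle'
  · obtain ⟨⟨i, hi⟩, hio⟩ := exists_prime_orderOf_dvd_card' 2 (even_iff_two_dvd.1 (Nat.not_odd_iff_even.1 hodd))
    rw [Subgroup.orderOf_mk] at hio
    obtain ⟨m, hm, him⟩ := h.inv_N hC hio hi.1
    obtain ⟨g, rfl⟩ := exists_rep y
    have hig : g⁻¹ * i * g ∈ (Subgroup.normalizer (D : Set G)) := by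
      refine smul_base_self.1 ?_
      rw [← smul_smul, ← smul_smul, show i • g • base D = g • base D from hi.2, inv_smul_smul]
    obtain ⟨m', hm', him'⟩ := h.inv_N hC (by
      rw [show g⁻¹ * i * g = (MulAut.conj g⁻¹).toMonoidHom i by simp,
        orderOf_injective _ (MulAut.conj g⁻¹).injective, hio]) hig
    have hline : m⁻¹ * (g * m') ∈ Subgroup.normalizer (E : Set G) := h.symm.uniq hC hio him (mem_conjS.2 (by
      have := mem_conjS.1 him'
      rwa [show (g * m')⁻¹ * i * (g * m') = m'⁻¹ * (g⁻¹ * i * g) * m' by group]))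
    set m₂ := m⁻¹ * (g * m') with hm₂
    have hgy : g • base D = m • m₂ • base D := by
      rw [smul_smul, hm₂, mul_inv_cancel_left, smul_base, inv_mul_cancel_left]
      exact hm'
    have hm₂D : m₂ ∉ (Subgroup.normalizer (D : Set G)) := fun h0 => hy (by
      rw [hgy, smul_base_self.2 h0, smul_base_self.2 hm])
    refine le_trans (le_of_eq ?_) (h.movers_line hC hline hm₂D)
    have hconj : ∀ x v : G, orderOf (x * v * x⁻¹) = orderOf v := fun x v => by
      rw [show x * v * x⁻¹ = (MulAut.conj x).toMonoidHom v by simp, orderOf_injective _ (MulAut.conj x).injective]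
    refine Nat.card_congr ⟨fun u => ⟨m⁻¹ * u * m⁻¹⁻¹, (hconj _ _).trans u.2.1, ?_⟩,
      fun u => ⟨m * u * m⁻¹, (hconj _ _).trans u.2.1, ?_⟩,
      fun u => Subtype.ext (by show m * (m⁻¹ * (u : G) * m⁻¹⁻¹) * m⁻¹ = _; group),
      fun u => Subtype.ext (by show m⁻¹ * (m * (u : G) * m⁻¹) * m⁻¹⁻¹ = _; group)⟩
    · rw [← smul_smul, ← smul_smul, inv_inv, smul_base_self.2 hm, u.2.2, hgy, inv_smul_smul]
    · rw [← smul_smul, ← smul_smul, smul_base_self.2 (inv_mem hm), u.2.2, hgy]

theorem Cfg.movers_base (h : Cfg D E P Z) (hC : CIT G) : Nat.card (Movers D (base D)) ≤ 75 := by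
  classical
  set C := ((Subgroup.normalizer (D : Set G)) ⊓ Subgroup.normalizer (E : Set G)).subgroupOf (Subgroup.normalizer (D : Set G))
  have hEM : E ≤ (Subgroup.normalizer (D : Set G)) := (h.excE.le_syl h.sylE).trans h.sylD.le
  let A := {d : D // d ≠ 1}
  let B := {e : E // (e : G) ∉ Z}
  have hA : Nat.card A = 15 := by rw [EPPO.card_ne_one_eq, h.cardD]
  have hB : Nat.card B = 12 := by
    haveI := Fintype.ofFinite E
    have e1 := Fintype.card_subtype_compl (fun e : E => (e : G) ∈ Z)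
    have e2 : Nat.card {e : E // (e : G) ∈ Z} = 4 :=
      (Nat.card_congr (Subgroup.subgroupOfEquivOfLe (show Z ≤ E from h.symm.ZD)).toEquiv).trans h.cardZ
    rw [← Nat.card_eq_fintype_card, ← Nat.card_eq_fintype_card, ← Nat.card_eq_fintype_card, h.symm.cardD,
      e2] at e1
    exact e1
  have hI : C.index = 5 := by
    have e := C.card_mul_index
    rw [Nat.card_congr (Subgroup.subgroupOfEquivOfLe inf_le_left).toEquiv, h.card_both hC, h.cardN] at e
    omega
  let f : A ⊕ (↥(Subgroup.normalizer (D : Set G)) ⧸ C) × B → G := Sum.elim (fun a => ((a.1 : D) : G))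
    (fun p => (p.1.out : G) * ((p.2.1 : E) : G) * (p.1.out : G)⁻¹)
  have hcov : ∀ u : Movers D (base D), ∃ v, f v = u := by
    rintro ⟨u, hu, hux⟩
    have huM : u ∈ (Subgroup.normalizer (D : Set G)) := smul_base_self.1 hux
    obtain ⟨m, hm, hum⟩ := h.inv_N hC hu huM
    by_cases huD : u ∈ D
    · exact ⟨Sum.inl ⟨⟨u, huD⟩, fun e => (orderOf_two_iff.1 hu).2 (congrArg Subtype.val e)⟩, rfl⟩
    set c : ↥(Subgroup.normalizer (D : Set G)) ⧸ C := QuotientGroup.mk ⟨m, hm⟩ with hc
    set r : G := (c.out : G) with hr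
    have hrm : r⁻¹ * m ∈ (Subgroup.normalizer (D : Set G)) ⊓ Subgroup.normalizer (E : Set G) :=
      (QuotientGroup.eq (s := C) (a := c.out) (b := ⟨m, hm⟩)).1 (QuotientGroup.out_eq' c)
    have he : r⁻¹ * u * r ∈ E := by
      have h1 := (Subgroup.mem_normalizer_iff.1 hrm.2 _).1 (mem_conjS.1 hum)
      rwa [show r⁻¹ * m * (m⁻¹ * u * m) * (r⁻¹ * m)⁻¹ = r⁻¹ * u * r by group] at h1
    have hez : r⁻¹ * u * r ∉ Z := fun hz => huD (by
      have := (Subgroup.mem_normalizer_iff.1 c.out.2 _).1 (h.ZD hz)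
      rwa [← hr, show r * (r⁻¹ * u * r) * r⁻¹ = u by group] at this)
    exact ⟨Sum.inr (c, ⟨⟨_, he⟩, hez⟩), by show r * (r⁻¹ * u * r) * r⁻¹ = u; group⟩
  choose v hv using hcov
  refine (Nat.card_le_card_of_injective v fun a b e => Subtype.ext (by rw [← hv a, ← hv b, e])).trans (le_of_eq ?_)
  rw [Nat.card_sum, Nat.card_prod, hA, hB, ← Subgroup.index, hI]

/-- Twenty one points. -/
theorem Cfg.card_points (h : Cfg D E P Z) (hC : CIT G) [Fintype (G ⧸ Subgroup.normalizer (D : Set G))] :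
    Fintype.card (G ⧸ Subgroup.normalizer (D : Set G)) = 21 ∧
    ∀ y, y ≠ base D → ∃ m ∈ Subgroup.normalizer (D : Set G), ∃ m₂ ∈ Subgroup.normalizer (E : Set G),
      (m * m₂) • base D = y := by
  classical
  set k := Fintype.card (G ⧸ (Subgroup.normalizer (D : Set G))) with hk
  -- the lines through the base point
  set C := ((Subgroup.normalizer (D : Set G)) ⊓ Subgroup.normalizer (E : Set G)).subgroupOf (Subgroup.normalizer (D : Set G))
  have hI : C.index = 5 := by
    have e := C.card_mul_index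
    rw [Nat.card_congr (Subgroup.subgroupOfEquivOfLe inf_le_left).toEquiv, h.card_both hC, h.cardN] at e
    omega
  let L := {y : G ⧸ (Subgroup.normalizer (D : Set G)) // y ∈ (blk D E).erase (base D)}
  have hL : Nat.card L = 4 := by
    rw [Nat.card_eq_fintype_card, Fintype.card_coe,
      Finset.card_erase_of_mem (mem_blk.2 ⟨1, one_mem _, one_smul G _⟩), h.card_blk hC]
  let g : (↥(Subgroup.normalizer (D : Set G)) ⧸ C) × L → {y : G ⧸ (Subgroup.normalizer (D : Set G)) // y ≠ base D} := fun p => ⟨(p.1.out : G) • p.2.1, fun e => by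
    have := (Finset.mem_erase.1 p.2.2).1
    refine this ?_
    rw [← inv_smul_smul (p.1.out : G) p.2.1, e, smul_base_self.2 (inv_mem p.1.out.2)]⟩
  have hg : Function.Injective g := by
    rintro ⟨c, y⟩ ⟨c', y'⟩ e
    have e1 : (c.out : G) • y.1 = (c'.out : G) • y'.1 := congrArg Subtype.val e
    obtain ⟨hy0, hyb⟩ := Finset.mem_erase.1 y.2
    obtain ⟨hy0', hyb'⟩ := Finset.mem_erase.1 y'.2
    obtain ⟨m₂, hm₂, hy⟩ := mem_blk.1 hyb
    obtain ⟨m₂', hm₂', hy'⟩ := mem_blk.1 hyb'
    have hcc : c = c' := by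
      rw [← QuotientGroup.out_eq' c, ← QuotientGroup.out_eq' c']
      refine (QuotientGroup.eq.2 ?_)
      refine Subgroup.mem_inf.2 ⟨mul_mem (inv_mem c.out.2) c'.out.2, ?_⟩
      refine h.pair_le hC (mul_mem (inv_mem c.out.2) c'.out.2) hm₂ hm₂' (fun h0 => hy0 (hy ▸ smul_base_self.2 h0)) ?_
      show (((c.out : G)⁻¹ * (c'.out : G)) * m₂') • base D = _
      rw [← smul_smul, hy', ← smul_smul, ← e1, inv_smul_smul, hy]
    subst hcc
    exact Prod.ext rfl (Subtype.ext (MulAction.injective _ e1))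
  have hne : Nat.card {y : G ⧸ (Subgroup.normalizer (D : Set G)) // y ≠ base D} = k - 1 := by
    rw [Nat.card_eq_fintype_card, Fintype.card_subtype_compl, Fintype.card_subtype_eq, hk]
  have h20 : 20 ≤ k - 1 := by
    rw [← hne]
    refine le_trans (le_of_eq ?_) (Nat.card_le_card_of_injective g hg)
    rw [Nat.card_prod, ← Subgroup.index, hI, hL]
  -- counting the involutions
  let ι := {t : G // orderOf t = 2}
  have hι : Nat.card ι = k * 15 := by
    obtain ⟨z, hz, hz1⟩ := h.exists_z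
    let ψ : (G ⧸ (Subgroup.normalizer (D : Set G))) × {d : D // d ≠ 1} → ι := fun p => ⟨p.1.out * ((p.2.1 : D) : G) * p.1.out⁻¹, by
      rw [show p.1.out * ((p.2.1 : D) : G) * p.1.out⁻¹ = (MulAut.conj p.1.out).toMonoidHom ((p.2.1 : D) : G) by simp,
        orderOf_injective _ (MulAut.conj p.1.out).injective, orderOf_two_iff]
      exact ⟨h.excD.sq p.2.1.2, fun e => p.2.2 (Subtype.ext e)⟩⟩
    rw [← Nat.card_eq_of_bijective ψ ⟨?_, ?_⟩, Nat.card_prod, EPPO.card_ne_one_eq, h.cardD, Nat.card_eq_fintype_card]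
    · rintro ⟨c, d⟩ ⟨c', d'⟩ e
      have e1 : c.out * ((d.1 : D) : G) * c.out⁻¹ = c'.out * ((d'.1 : D) : G) * c'.out⁻¹ := congrArg Subtype.val e
      have hm : c.out⁻¹ * c'.out ∈ (Subgroup.normalizer (D : Set G)) := h.uniq hC (ψ (c, d)).2 ⟨_, d.1.2, rfl⟩ ⟨_, d'.1.2, e1.symm⟩
      have hcc : c = c' := by
        rw [← QuotientGroup.out_eq' c, ← QuotientGroup.out_eq' c']
        exact QuotientGroup.eq.2 hm
      subst hcc
      exact Prod.ext rfl (Subtype.ext (Subtype.ext (mul_left_cancel (mul_right_cancel e1))))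
    · rintro ⟨t, ht⟩
      obtain ⟨g₀, hg₀⟩ := h.conj_z hC hz hz1 ht
      set c : G ⧸ (Subgroup.normalizer (D : Set G)) := QuotientGroup.mk g₀ with hc
      have hm : c.out⁻¹ * g₀ ∈ (Subgroup.normalizer (D : Set G)) := (QuotientGroup.eq (s := (Subgroup.normalizer (D : Set G))) (a := c.out) (b := g₀)).1 (QuotientGroup.out_eq' c)
      have hd := (Subgroup.mem_normalizer_iff.1 hm z).1 (h.ZD hz)
      refine ⟨(c, ⟨⟨_, hd⟩, fun e => hz1 (conj_eq_one_iff.1 (congrArg Subtype.val e))⟩), Subtype.ext ?_⟩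
      show c.out * (c.out⁻¹ * g₀ * z * (c.out⁻¹ * g₀)⁻¹) * c.out⁻¹ = t
      rw [← hg₀]; group
  let e : ι ≃ (y : G ⧸ (Subgroup.normalizer (D : Set G))) × Movers D y :=
    ⟨fun t => ⟨t.1 • base D, t.1, t.2, rfl⟩, fun p => ⟨p.2.1, p.2.2.1⟩, fun _ => rfl,
      fun p => by
        obtain ⟨y, u, hu, rfl⟩ := p
        rfl⟩
  have hsum : k * 15 ≤ 75 + (k - 1) * 12 := by
    rw [← hι, Nat.card_congr e, Nat.card_sigma, ← Finset.sum_erase_add _ _ (Finset.mem_univ (base D)), add_comm]
    refine Nat.add_le_add (h.movers_base hC) ?_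
    refine (Finset.sum_le_card_nsmul _ _ 12 fun y hy => h.movers_le hC (Finset.mem_erase.1 hy).1).trans (le_of_eq ?_)
    rw [smul_eq_mul, Finset.card_erase_of_mem (Finset.mem_univ _), Finset.card_univ, hk]
  have hk21 : k = 21 := by omega
  refine ⟨hk21, fun y hy => ?_⟩
  have hb := hg.bijective_of_nat_card_le (by
    rw [hne, Nat.card_prod, ← Subgroup.index, hI, hL, hk21])
  obtain ⟨⟨c, w⟩, hcw⟩ := hb.2 ⟨y, hy⟩
  obtain ⟨m₂, hm₂, hw⟩ := mem_blk.1 (Finset.mem_erase.1 w.2).2
  refine ⟨c.out, c.out.2, m₂, hm₂, ?_⟩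
  rw [← smul_smul, hw]
  exact congrArg Subtype.val hcw

end Cfsg.Agent.Solv.CITGroups
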