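import Cfsg.Agent.Lib.Solv.CIT.ExcPair
import Cfsg.Agent.S0111

/-!
Two exceptional subgroups over four elements: the Sylow 2-subgroups have order sixty-four.
-/

set_option autoImplicit false
set_option linter.style.haveILetI false
set_option linter.unusedSectionVars false

namespace Cfsg.Agent.Solv.CITGroups

open Cfsg
open Cfsg.Agent.Solv.EPPOSeven (conjS mem_conjS card_conjS mem_normalizer_conjS exists_gt_normalizing)

universe u

variable {G : Type u} [Group G] [Finite G]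

/-- A subgroup inside the union of two subgroups is inside one of them. -/
theorem le_or_le_of_union {F A B : Subgroup G} (h : ∀ x ∈ F, x ∈ A ∨ x ∈ B) : F ≤ A ∨ F ≤ B := by
  by_contra hno
  push Not at hno
  obtain ⟨a, ha, haA⟩ := SetLike.not_le_iff_exists.1 hno.1
  obtain ⟨b, hb, hbB⟩ := SetLike.not_le_iff_exists.1 hno.2
  have haB := (h a ha).resolve_left haA
  have hbA := (h b hb).resolve_right hbB
  rcases h _ (mul_mem ha hb) with hm | hm
  · exact haA (by simpa using mul_mem hm (inv_mem hbA))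
  · exact hbB (by simpa using mul_mem (inv_mem haB) hm)

variable {D E P : Subgroup G}

/-- In a two-fold extension the common part lies in the fixed subgroup. -/
theorem card_inf_mul_two_le {n : ℕ} {F Q : Subgroup G} (hQ : Q.relIndex F ≤ 2) (hF : Nat.card F = n) :
    n ≤ 2 * Nat.card ↥(F ⊓ Q) := by
  have e := (Q.subgroupOf F).card_mul_index
  rw [hF] at e
  have hc : Nat.card (Q.subgroupOf F) = Nat.card ↥(F ⊓ Q) :=
    Nat.card_congr ⟨fun a => ⟨a.1, a.1.2, a.2⟩, fun v => ⟨⟨v, v.2.1⟩, v.2.2⟩, fun _ => rfl, fun _ => rfl⟩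
  rw [hc] at e
  rw [← e, mul_comm]
  exact Nat.mul_le_mul_right _ hQ

theorem ExcIn.sylow_small [IsSimpleGroup G] (hna : ∃ a b : G, a * b ≠ b * a) (h : ExcIn 2 D) (h' : ExcIn 2 E) (hC : CIT G)
    (hP : ExcIn.Syl 2 D P) (hP' : ExcIn.Syl 2 E P) (hne : E ≠ D) :
    ∀ Q : Subgroup G, IsPGroup 2 Q → Nat.card Q ≤ 64 := by
  classical
  haveI : Fact (Nat.Prime 2) := ⟨Nat.prime_two⟩
  haveI : Fact (Nat.Prime 3) := ⟨Nat.prime_three⟩
  obtain ⟨Z, hZD, hZc, hZ⟩ := h.fix hC hP
  have hDP := h.le_syl hP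
  have hEP := h'.le_syl hP'
  have hEsq : ∀ a ∈ E, a * a = 1 := fun a ha => h'.sq ha
  obtain ⟨hED, hcov, hout⟩ := h.other hP hZD hZc hZ hEP hEsq h'.card_D hne
  have hPc : Nat.card P = 64 := hP.card.trans (by norm_num)
  have hinvP : ∀ x ∈ P, x * x = 1 → x ∈ D ∨ x ∈ E := fun x hx hxx =>
    or_iff_not_imp_left.2 fun hxD => hout x hx hxD hxx
  have hfour : ∀ F : Subgroup G, F ≤ P → (∀ x ∈ F, x * x = 1) → Nat.card F = 16 → F = D ∨ F = E := by
    intro F hFP hFsq hFc
    rcases le_or_le_of_union (fun x hx => hinvP x (hFP hx) (hFsq x hx)) with hle | hle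
    · exact Or.inl (Subgroup.eq_of_le_of_card_ge hle (le_of_eq (by rw [hFc, h.card_D]; norm_num)))
    · exact Or.inr (Subgroup.eq_of_le_of_card_ge hle (le_of_eq (by rw [hFc, h'.card_D]; norm_num)))
  obtain ⟨T₀, hPT⟩ := hP.two.exists_le_sylow
  intro Q hQ
  have hQle : Nat.card Q ≤ Nat.card (T₀ : Subgroup G) := by
    obtain ⟨S, hS⟩ := hQ.exists_le_sylow
    calc Nat.card Q ≤ Nat.card (S : Subgroup G) :=
          Nat.card_le_card_of_injective _ (Subgroup.inclusion_injective hS)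
      _ = Nat.card (T₀ : Subgroup G) := by rw [S.card_eq_multiplicity, T₀.card_eq_multiplicity]
  rcases eq_or_lt_of_le hPT with heq | hlt
  · rw [← hPc]; exact hQle.trans_eq (by rw [heq])
  exfalso
  set T₁ := (T₀ : Subgroup G) ⊓ Subgroup.normalizer (P : Set G) with hT₁
  have hlt₁ : P < T₁ := exists_gt_normalizing T₀.isPGroup' hlt
  have hDE16 : ∀ g : G, ∀ A : Subgroup G, (∀ a ∈ A, a * a = 1) → ∀ a ∈ conjS g A, a * a = 1 := by
    rintro g A hA _ ⟨a, ha, rfl⟩
    rw [← map_mul, hA a ha, map_one]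
  have hswap : ∀ g ∈ Subgroup.normalizer (P : Set G), g ∉ Subgroup.normalizer (D : Set G) →
      conjS g D = E ∧ conjS g E = D := by
    intro g hg hgD
    have hgP : ∀ A : Subgroup G, A ≤ P → conjS g A ≤ P := fun A hA => by
      rintro _ ⟨a, ha, rfl⟩
      exact (Subgroup.mem_normalizer_iff.1 hg a).1 (hA ha)
    have h1 : conjS g D = E := (hfour _ (hgP D hDP) (hDE16 g D fun a ha => h.sq ha)
      (by rw [card_conjS, h.card_D]; norm_num)).resolve_left fun e => hgD (by
        refine Subgroup.mem_normalizer_iff.2 fun d => ⟨fun hd => e.le ⟨d, hd, rfl⟩, fun hd => ?_⟩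
        have := mem_conjS.1 (e.ge hd)
        rwa [show g⁻¹ * (g * d * g⁻¹) * g = d by group] at this)
    refine ⟨h1, (hfour _ (hgP E hEP) (hDE16 g E hEsq) (by rw [card_conjS, h'.card_D]; norm_num)).resolve_right fun e =>
      hne ?_⟩
    exact (Subgroup.map_injective (f := (MulAut.conj g).toMonoidHom) (MulAut.conj g).injective (h1.trans e.symm)).symm
  have hfixP : ∀ Q : Subgroup G, IsPGroup 2 Q → P ≤ Q → ∀ g ∈ Q, g ∈ Subgroup.normalizer (D : Set G) → g ∈ P := by
    intro Q hQ hPQ g hg hgD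
    have heq := Subgroup.eq_of_le_of_card_ge (le_sup_left : P ≤ P ⊔ Subgroup.zpowers g)
      ((h.card_le (hQ.to_le (sup_le hPQ (Subgroup.zpowers_le.2 hg)))
        (sup_le hP.le (Subgroup.zpowers_le.2 hgD))).trans hP.card.ge)
    exact heq.ge ((le_sup_right : Subgroup.zpowers g ≤ _) (Subgroup.mem_zpowers g))
  -- products of two swaps fix both
  have hswap2 : ∀ a b : G, conjS a D = E → conjS b E = D → b * a ∈ Subgroup.normalizer (D : Set G) := by
    intro a b ha hb
    have e : conjS (b * a) D = D := by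
      conv_rhs => rw [← hb, ← ha]
      ext x
      simp only [mem_conjS]
      rw [show a⁻¹ * (b⁻¹ * x * b) * a = (b * a)⁻¹ * x * (b * a) by group]
    refine Subgroup.mem_normalizer_iff.2 fun d => ⟨fun hd => e.le ⟨d, hd, rfl⟩, fun hd => ?_⟩
    have := mem_conjS.1 (e.ge hd)
    rwa [show (b * a)⁻¹ * (b * a * d * (b * a)⁻¹) * (b * a) = d by group] at this
  have hrel : ∀ Q : Subgroup G, IsPGroup 2 Q → P ≤ Q → Q ≤ Subgroup.normalizer (P : Set G) →
      ∀ F : Subgroup G, F ≤ Q → P.relIndex F ≤ 2 := by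
    intro Q hQ hPQ hQN F hFQ
    by_contra hgt
    push Not at hgt
    rw [Subgroup.relIndex, Subgroup.index] at hgt
    haveI : Fintype (F ⧸ P.subgroupOf F) := Fintype.ofFinite _
    rw [Nat.card_eq_fintype_card] at hgt
    obtain ⟨a, b, c, hab, hac, hbc⟩ := Fintype.two_lt_card_iff.1 hgt
    induction a using QuotientGroup.induction_on with
    | H a =>
    induction b using QuotientGroup.induction_on with
    | H b =>
    induction c using QuotientGroup.induction_on with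
    | H c =>
    have key : ∀ x y : F, (x : G) ∉ P → (y : G) ∉ P → (QuotientGroup.mk x : F ⧸ P.subgroupOf F) = QuotientGroup.mk y := by
      intro x y hx hy
      refine QuotientGroup.eq.2 ?_
      show ((x : G))⁻¹ * y ∈ P
      have hxi : (x : G)⁻¹ ∉ P := fun hm => hx (inv_mem_iff.1 hm)
      have h1 := hswap y (hQN (hFQ y.2)) fun hD => hy (hfixP Q hQ hPQ _ (hFQ y.2) hD)
      have h2 := hswap (x : G)⁻¹ (hQN (inv_mem (hFQ x.2))) fun hD => hxi (hfixP Q hQ hPQ _ (inv_mem (hFQ x.2)) hD)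
      exact hfixP Q hQ hPQ _ (mul_mem (inv_mem (hFQ x.2)) (hFQ y.2)) (hswap2 _ _ h1.1 h2.2)
    have hP0 : ∀ x y : F, (x : G) ∈ P → (y : G) ∈ P → (QuotientGroup.mk x : F ⧸ P.subgroupOf F) = QuotientGroup.mk y :=
      fun x y hx hy => QuotientGroup.eq.2 (show (x : G)⁻¹ * y ∈ P from mul_mem (inv_mem hx) hy)
    by_cases ha : (a : G) ∈ P <;> by_cases hb : (b : G) ∈ P <;> by_cases hc : (c : G) ∈ P
    all_goals first
      | exact hab (hP0 a b ha hb)
      | exact hac (hP0 a c ha hc)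
      | exact hbc (hP0 b c hb hc)
      | exact hab (key a b ha hb)
      | exact hac (key a c ha hc)
      | exact hbc (key b c hb hc)
  -- elementary subgroups of order sixteen above
  have hbig : ∀ Q : Subgroup G, IsPGroup 2 Q → P ≤ Q → Q ≤ Subgroup.normalizer (P : Set G) →
      ∀ F : Subgroup G, F ≤ Q → (∀ x ∈ F, x * x = 1) → Nat.card F = 16 → F = D ∨ F = E := by
    intro Q hQ hPQ hQN F hFQ hFsq hFc
    refine hfour F (fun x hx => ?_) hFsq hFc
    by_contra hxP
    obtain ⟨h1, h2⟩ := hswap x (hQN (hFQ hx)) fun hD => hxP (hfixP Q hQ hPQ x (hFQ hx) hD)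
    have hc : ∀ y ∈ F, x * y * x⁻¹ = y := fun y hy => by
      have e := hFsq _ (mul_mem hx hy)
      rw [mul_eq_one_iff_eq_inv, mul_inv_rev, inv_eq_of_mul_eq_one_right (hFsq x hx),
        inv_eq_of_mul_eq_one_right (hFsq y hy)] at e
      rw [e, mul_inv_cancel_right]
    have hsub : F ⊓ P ≤ Z := by
      rcases le_or_le_of_union (F := F ⊓ P) (fun y hy => hinvP y hy.2 (hFsq y hy.1)) with hle | hle
      · exact fun y hy => hED.le ⟨h1.le ⟨y, hle hy, hc y hy.1⟩, hle hy⟩
      · exact fun y hy => hED.le ⟨hle hy, h2.le ⟨y, hle hy, hc y hy.1⟩⟩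
    have h3 := card_inf_mul_two_le (hrel Q hQ hPQ hQN F hFQ) hFc
    have h4 := hZc ▸ Nat.card_le_card_of_injective _ (Subgroup.inclusion_injective hsub)
    omega
  have hT₁2 : IsPGroup 2 T₁ := T₀.isPGroup'.to_le inf_le_left
  have hT₁eq : T₁ = (T₀ : Subgroup G) := by
    by_contra hne'
    obtain ⟨g, hg, hgT⟩ := SetLike.exists_of_lt (exists_gt_normalizing T₀.isPGroup' (lt_of_le_of_ne inf_le_left hne'))
    refine hgT ⟨hg.1, Subgroup.mem_normalizer_iff.2 ?_⟩
    have himg : ∀ A : Subgroup G, A = D ∨ A = E → conjS g A = D ∨ conjS g A = E := by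
      intro A hA
      refine hbig T₁ hT₁2 hlt₁.le inf_le_right _ ?_ (hDE16 g A ?_) ?_
      · rintro _ ⟨a, ha, rfl⟩
        refine (Subgroup.mem_normalizer_iff.1 hg.2 a).1 (hlt₁.le ?_)
        rcases hA with rfl | rfl
        exacts [hDP ha, hEP ha]
      · rcases hA with rfl | rfl
        exacts [fun a ha => h.sq ha, hEsq]
      · rw [card_conjS]
        rcases hA with rfl | rfl
        exacts [h.card_D.trans (by norm_num), h'.card_D.trans (by norm_num)]
    have hle : ∀ A : Subgroup G, A = D ∨ A = E → conjS g A ≤ P := fun A hA => by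
      rcases himg A hA with e | e <;> rw [e]
      exacts [hDP, hEP]
    intro x
    have hfwd : ∀ x ∈ P, g * x * g⁻¹ ∈ P := fun x hx => by
      obtain ⟨a, ha, hd⟩ := hcov x hx
      have := mul_mem (hle E (Or.inr rfl) ⟨a, ha, rfl⟩) (hle D (Or.inl rfl) ⟨_, hd, rfl⟩)
      rwa [show (MulAut.conj g).toMonoidHom a * (MulAut.conj g).toMonoidHom (a⁻¹ * x) = g * x * g⁻¹ by
        show g * a * g⁻¹ * (g * (a⁻¹ * x) * g⁻¹) = _; group] at this
    refine ⟨hfwd x, fun hx => ?_⟩
    have hsurj : conjS g P = P := Subgroup.eq_of_le_of_card_ge (by rintro _ ⟨y, hy, rfl⟩; exact hfwd y hy)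
      (card_conjS g P).ge
    have := mem_conjS.1 (hsurj.ge hx)
    rwa [show g⁻¹ * (g * x * g⁻¹) * g = x by group] at this
  obtain ⟨g, hg, hgP⟩ := SetLike.exists_of_lt hlt₁
  obtain ⟨hgD, hgE⟩ := hswap g hg.2 fun hD => hgP (hfixP T₁ hT₁2 hlt₁.le g hg hD)
  -- the normalizer of both
  set C := Subgroup.normalizer (D : Set G) ⊓ Subgroup.normalizer (P : Set G) with hCdef
  obtain ⟨k, hkD, hkP, hkodd, hkord, -⟩ := h.gen hP
  have hk3 : orderOf k = 3 := hkord.trans (by norm_num)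
  have hkE := h.other_normalized hC hP hEP hEsq h'.card_D hne hkD hkP
  have hPC : P ≤ C := le_inf hP.le Subgroup.le_normalizer
  have hkC : k ∈ C := ⟨hkD, hkP⟩
  set N := Subgroup.normalizer (D : Set G) with hN
  have hCc : Nat.card C = 192 := by
    have h1 : Nat.card C ∣ 192 ∧ Nat.card C ≤ 192 := by
      have hCN : C ≤ N := inf_le_left
      haveI : (D.subgroupOf N).Normal := ⟨fun v hv y => (Subgroup.mem_normalizer_iff.1 y.2 v).1 hv⟩
      set π := QuotientGroup.mk' (D.subgroupOf N)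
      obtain ⟨hDP', hPq, hB⟩ := h.1.bor_at hP.sub.1 hP.sub.2
      have hle : (C.subgroupOf N).map π ≤ Subgroup.normalizer (((P.subgroupOf N).map π : Subgroup (N ⧸ D.subgroupOf N)) : Set (N ⧸ D.subgroupOf N)) := by
        refine le_trans (Subgroup.map_mono ?_) (Subgroup.le_normalizer_map π)
        intro x hx
        exact Subgroup.mem_normalizer_iff.2 fun y => Subgroup.mem_normalizer_iff.1 hx.2 (y : G)
      have hd := Subgroup.card_dvd_of_le hle
      rw [hB.cardN, hPq] at hd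
      have e := Solv.card_map_mk'_mul_card_inf (D.subgroupOf N) (C.subgroupOf N)
      rw [inf_eq_left.2 (show D.subgroupOf N ≤ C.subgroupOf N from Subgroup.comap_mono (hDP.trans hPC)),
        h.1.card_D, Nat.card_congr (Subgroup.subgroupOfEquivOfLe hCN).toEquiv] at e
      have hdv : Nat.card C ∣ 192 := by
        rw [← e, show (192 : ℕ) = 12 * 16 by norm_num]
        exact Nat.mul_dvd_mul_right (show Nat.card ((C.subgroupOf N).map π) ∣ 12 by exact hd.trans (by norm_num)) 16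
      exact ⟨hdv, Nat.le_of_dvd (by norm_num) hdv⟩
    have h2 : 192 ∣ Nat.card C := (show 192 = 64 * 3 by norm_num) ▸ Nat.Coprime.mul_dvd_of_dvd_of_dvd (by norm_num)
      (hPc ▸ Subgroup.card_dvd_of_le hPC) (hk3 ▸ Subgroup.orderOf_dvd_natCard C hkC)
    exact Nat.dvd_antisymm h1.1 h2
  -- adjust the swap
  obtain ⟨c, hc, hcz⟩ : ∃ c ∈ C, c * (g * k * g⁻¹) * c⁻¹ ∈ Subgroup.zpowers k := by
    have hk' : g * k * g⁻¹ ∈ C := by
      refine Subgroup.mem_inf.2 ⟨?_, (Subgroup.normalizer (P : Set G)).mul_mem ((Subgroup.normalizer (P : Set G)).mul_mem hg.2 hkP) ((Subgroup.normalizer (P : Set G)).inv_mem hg.2)⟩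
      have h1 : g * k * g⁻¹ ∈ Subgroup.normalizer ((conjS g E : Subgroup G) : Set G) :=
        mem_normalizer_conjS.2 (by rwa [show g⁻¹ * (g * k * g⁻¹) * g = k by group])
      rwa [hgE] at h1
    have hfac : (Nat.card C).factorization 3 = 1 := by
      rw [hCc, show (192 : ℕ) = 2 ^ 6 * 3 by norm_num, Nat.factorization_mul (by norm_num) (by norm_num),
        Finsupp.add_apply, Nat.factorization_pow]
      simp [Nat.prime_three.factorization_self, Nat.factorization_eq_zero_of_not_dvd (show ¬ 3 ∣ 2 by norm_num)]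
    have hord : ∀ (v : G) (hv : v ∈ C), orderOf v = 3 →
        Nat.card (Subgroup.zpowers (⟨v, hv⟩ : C)) = 3 ^ (Nat.card C).factorization 3 := fun v hv ho => by
      rw [hfac, pow_one, Nat.card_zpowers, Subgroup.orderOf_mk, ho]
    let S₁ : Sylow 3 C := Sylow.ofCard _ (hord k hkC hk3)
    let S₂ : Sylow 3 C := Sylow.ofCard _ (hord _ hk' (by
      rw [show g * k * g⁻¹ = (MulAut.conj g).toMonoidHom k by simp, orderOf_injective _ (MulAut.conj g).injective, hk3]))
    obtain ⟨c, hc⟩ := MulAction.exists_smul_eq C S₂ S₁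
    refine ⟨c, c.2, ?_⟩
    have : c * ⟨_, hk'⟩ * c⁻¹ ∈ ((c • S₂ : Sylow 3 C) : Subgroup C) := ⟨_, Subgroup.mem_zpowers _, rfl⟩
    rw [hc] at this
    obtain ⟨i, hi⟩ := Subgroup.mem_zpowers_iff.1 (show c * ⟨_, hk'⟩ * c⁻¹ ∈ Subgroup.zpowers (⟨k, hkC⟩ : C) from this)
    exact Subgroup.mem_zpowers_iff.2 ⟨i, by simpa using congrArg Subtype.val hi⟩
  have hcE : c ∈ Subgroup.normalizer (E : Set G) := h.other_normalized hC hP hEP hEsq h'.card_D hne hc.1 hc.2
  set g' := c * g with hg'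
  have hg'P : g' ∈ Subgroup.normalizer (P : Set G) := mul_mem hc.2 hg.2
  have hg'D : g' ∉ N := fun hm => hne (by
    have h1 : g ∈ N := by
      have := N.mul_mem (N.inv_mem hc.1) hm
      rwa [hg', inv_mul_cancel_left] at this
    rw [← hgD]
    refine Subgroup.eq_of_le_of_card_ge ?_ (card_conjS g D).ge
    rintro _ ⟨d, hd, rfl⟩
    exact (Subgroup.mem_normalizer_iff.1 h1 d).1 hd)
  have hg'k : g' ∈ Subgroup.normalizer ((Subgroup.zpowers k : Subgroup G) : Set G) := by
    refine mem_normalizer_zpowers ?_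
    rwa [hg', show c * g * k * (c * g)⁻¹ = c * (g * k * g⁻¹) * c⁻¹ by group]
  obtain ⟨a, o, ho, hao⟩ := Nat.exists_eq_pow_mul_and_not_dvd (orderOf_pos g').ne' 2 (by norm_num)
  set t := g' ^ o with htdef
  have ht2 : IsPGroup 2 (Subgroup.zpowers t) := IsPGroup.of_card (n := a) (by
    rw [Nat.card_zpowers, htdef, orderOf_pow_of_dvd (fun e => by rw [e] at ho; exact ho (dvd_zero 2))
      (hao ▸ dvd_mul_left _ _), hao, Nat.mul_div_cancel _ (Nat.pos_of_ne_zero fun e => by rw [e] at ho; exact ho (dvd_zero 2))])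
  have htP : t ∈ Subgroup.normalizer (P : Set G) := pow_mem hg'P o
  have htk : t ∈ Subgroup.normalizer ((Subgroup.zpowers k : Subgroup G) : Set G) := pow_mem hg'k o
  obtain ⟨hg'DE, hg'ED⟩ := hswap g' hg'P hg'D
  have htD : t ∉ N := fun hm => by
    obtain ⟨j, rfl⟩ : ∃ j, o = 2 * j + 1 := ⟨o / 2, by omega⟩
    refine hg'D ?_
    have h1 : g' ^ (2 * j) ∈ N := by
      rw [pow_mul, pow_two]
      exact pow_mem (hswap2 g' g' hg'DE hg'ED) j
    have := mul_mem (inv_mem h1) hm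
    rwa [htdef, pow_succ, inv_mul_cancel_left] at this
  obtain ⟨htDE, htED⟩ := hswap t htP htD
  set T := P ⊔ Subgroup.zpowers t with hTdef
  have hT2 : IsPGroup 2 T := IsPGroup.to_sup_of_normal_left' hP.two ht2 (Subgroup.zpowers_le.2 htP)
  have htT : t ∈ T := (le_sup_right : Subgroup.zpowers t ≤ T) (Subgroup.mem_zpowers t)
  have hPT' : P ≤ T := le_sup_left
  have hTN : T ≤ Subgroup.normalizer (P : Set G) := sup_le Subgroup.le_normalizer (Subgroup.zpowers_le.2 htP)
  have htPn : t ∉ P := fun hm => htD (hP.le hm)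
  have htinv : t * t = 1 := by
    have h1 : t * t ∈ N := hswap2 t t htDE htED
    have h2 : t * t ∈ P := hfixP T hT2 hPT' _ (mul_mem htT htT) h1
    have h3 : Commute (t * t) k := by
      obtain ⟨i, hi⟩ := Subgroup.mem_zpowers_iff.1 ((Subgroup.mem_normalizer_iff.1 htk k).1 (Subgroup.mem_zpowers k))
      have hcases : t * k * t⁻¹ = k ∨ t * k * t⁻¹ = k⁻¹ := by
        have h3 : k ^ (3 : ℕ) = 1 := hk3 ▸ pow_orderOf_eq_one k
        have : i % 3 = 0 ∨ i % 3 = 1 ∨ i % 3 = 2 := by omega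
        have hred : k ^ i = k ^ (i % 3) := by
          have h4 := zpow_mod_orderOf k i
          rw [hk3] at h4
          exact h4.symm
        rcases this with e | e | e <;> rw [hred, e] at hi
        · exfalso
          rw [zpow_zero] at hi
          have := conj_eq_one_iff.1 hi.symm
          rw [this, orderOf_one] at hk3
          omega
        · exact Or.inl (by rw [← hi, zpow_one])
        · refine Or.inr ?_
          rw [← hi, eq_inv_iff_mul_eq_one, show k ^ (2 : ℤ) * k = k ^ (3 : ℕ) by group, h3]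
      have e2 : t * t * k * (t * t)⁻¹ = t * (t * k * t⁻¹) * t⁻¹ := by group
      refine mul_inv_eq_iff_eq_mul.1 ?_
      rcases hcases with e | e
      · rw [e2, e, e]
      · rw [e2, e, ← conj_inv, e, inv_inv]
    exact hC.fpf_mem hkodd (fun e => by rw [e, orderOf_one] at hk3; omega) hP.two h2 h3.symm
  have hto : orderOf t = 2 := orderOf_two_iff.2 ⟨htinv, fun e => htPn (e ▸ one_mem P)⟩
  have hti : t⁻¹ = t := inv_eq_of_mul_eq_one_right htinv
  have hsplit : ∀ x ∈ T, x ∈ P ∨ ∃ p ∈ P, x = p * t := by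
    intro x hx
    by_cases hxP : x ∈ P
    · exact Or.inl hxP
    refine Or.inr ⟨x * t⁻¹, ?_, by group⟩
    have hxD : x ∉ N := fun hD => hxP (hfixP T hT2 hPT' x hx hD)
    obtain ⟨h1, h2⟩ := hswap x (hTN hx) hxD
    obtain ⟨h3, h4⟩ := hswap t⁻¹ (hTN (inv_mem htT)) (by rwa [hti])
    exact hfixP T hT2 hPT' _ (mul_mem hx (inv_mem htT)) (hswap2 _ _ h3 h2)
  have hTc : Nat.card T = 128 := by
    have h1 : Nat.card T ≤ 2 * Nat.card ↥(T ⊓ P) := card_inf_mul_two_le (hrel T hT2 hPT' hTN T le_rfl) rfl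
    rw [inf_eq_right.2 hPT', hPc] at h1
    have h2 : 64 < Nat.card T := hPc ▸ Solv.card_lt_of_lt (lt_of_le_of_ne hPT' fun e => htPn (e ▸ htT))
    obtain ⟨j, hj⟩ := IsPGroup.iff_card.1 hT2
    rw [hj] at h1 h2 ⊢
    rcases le_or_gt j 7 with hj7 | hj7
    · interval_cases j <;> omega
    · have : 2 ^ 8 ≤ 2 ^ j := Nat.pow_le_pow_right two_pos hj7
      omega
  have hT₀c : Nat.card (T₀ : Subgroup G) = 128 := by
    have h1 : Nat.card (T₀ : Subgroup G) ≤ 128 := by
      have h2 := card_inf_mul_two_le (hrel T₁ hT₁2 hlt₁.le inf_le_right T₁ le_rfl) rfl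
      rw [inf_eq_right.2 hlt₁.le, hPc] at h2
      rw [← hT₁eq]
      exact h2
    obtain ⟨S, hS⟩ := hT2.exists_le_sylow
    have h3 := Nat.card_le_card_of_injective _ (Subgroup.inclusion_injective hS)
    rw [hTc, S.card_eq_multiplicity, ← T₀.card_eq_multiplicity] at h3
    omega
  have hmax : ∀ Q : Subgroup G, IsPGroup 2 Q → Nat.card Q ≤ 128 := fun Q hQ => by
    obtain ⟨S, hS⟩ := hQ.exists_le_sylow
    calc Nat.card Q ≤ Nat.card (S : Subgroup G) :=
          Nat.card_le_card_of_injective _ (Subgroup.inclusion_injective hS)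
      _ = Nat.card (T₀ : Subgroup G) := by rw [S.card_eq_multiplicity, T₀.card_eq_multiplicity]
      _ = 128 := hT₀c
  let TS : Sylow 2 G := Sylow.ofCard T (by rw [hTc, ← T₀.card_eq_multiplicity, hT₀c])
  -- the transfer
  obtain ⟨g₁, hg₁⟩ : ∃ g : G, g * t * g⁻¹ ∈ P := by
    refine (S0111.result TS P hPT' ?_ t hto htT htPn).resolve_left ?_
    · have e := (P.subgroupOf T).card_mul_index
      rw [Nat.card_congr (Subgroup.subgroupOfEquivOfLe hPT').toEquiv, hPc, hTc] at e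
      show (P.subgroupOf T).index = 2
      omega
    · rintro ⟨M, hM, hMi, htM⟩
      rcases IsSimpleGroup.eq_bot_or_eq_top_of_normal M hM with e | e
      · obtain ⟨x, y, hxy⟩ := hna
        rw [e, Subgroup.index_bot] at hMi
        haveI : Fact (Nat.Prime 2) := ⟨Nat.prime_two⟩
        haveI : IsCyclic G := isCyclic_of_prime_card hMi
        exact hxy (IsCyclic.isMulCommutative.is_comm.comm x y)
      · exact htM (e ▸ Subgroup.mem_top t)
  -- the fixed involution of the common part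
  have htZ : ∀ z ∈ Z, t * z * t⁻¹ ∈ Z := fun z hz =>
    hED.le ⟨htDE.le ⟨z, hZD hz, rfl⟩, htED.le ⟨z, (hED.ge hz).1, rfl⟩⟩
  have hZ2 : IsPGroup 2 Z := h.two.to_le hZD
  obtain ⟨z, hz, hz1, htz⟩ : ∃ z ∈ Z, z ≠ 1 ∧ t * z * t⁻¹ = z := by
    obtain ⟨z₀, hz₀, hz₀1⟩ : ∃ z ∈ Z, z ≠ 1 := Z.bot_or_exists_ne_one.resolve_left fun e => by
      rw [e, Subgroup.card_bot] at hZc; norm_num at hZc
    by_cases e : t * z₀ * t⁻¹ = z₀
    · exact ⟨z₀, hz₀, hz₀1, e⟩
    refine ⟨z₀ * (t * z₀ * t⁻¹), mul_mem hz₀ (htZ _ hz₀), fun e1 => e ?_, ?_⟩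
    · rw [eq_inv_of_mul_eq_one_right e1, h.eq_inv (hZD hz₀)]
    · calc t * (z₀ * (t * z₀ * t⁻¹)) * t⁻¹ = t * z₀ * t⁻¹ * (t * t * z₀ * (t * t)⁻¹) := by group
        _ = t * z₀ * t⁻¹ * z₀ := by rw [htinv]; group
        _ = z₀ * (t * z₀ * t⁻¹) := h.comm (hZD (htZ _ hz₀)) (hZD hz₀)
  have hzinv : orderOf z = 2 := orderOf_two_iff.2 ⟨h.sq (hZD hz), hz1⟩
  have hCz : Subgroup.centralizer ({z} : Set G) = T := by
    refine (Subgroup.eq_of_le_of_card_ge (fun x hx => ?_) ((hmax _ (hC z hzinv)).trans hTc.ge)).symm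
    refine Subgroup.mem_centralizer_singleton_iff.2 ?_
    rcases hsplit x hx with hx | ⟨p, hp, rfl⟩
    · exact (h.fix_central hP hZD hZ hz hx).symm
    · calc p * t * z = p * (t * z * t⁻¹) * t := by group
        _ = p * z * t := by rw [htz]
        _ = z * p * t := by rw [h.fix_central hP hZD hZ hz hp]
        _ = z * (p * t) := by group
  -- the conjugacy
  obtain ⟨g₂, hg₂⟩ : ∃ g₂ : G, g₂ * z * g₂⁻¹ = t := by
    set v := g₁ * t * g₁⁻¹ with hv
    have hvv : v * v = 1 := by rw [hv, show g₁ * t * g₁⁻¹ * (g₁ * t * g₁⁻¹) = g₁ * (t * t) * g₁⁻¹ by group, htinv]; group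
    have hv1 : v ≠ 1 := fun e => (orderOf_two_iff.1 hto).2 (conj_eq_one_iff.1 e)
    have hconjD : ∀ y ∈ D, y ≠ 1 → ∃ x : G, x * z * x⁻¹ = y := fun y hy hy1 => by
      obtain ⟨x, -, hx⟩ := (h.cent_syl hC (hZD hz) hz1).2 y hy hy1
      exact ⟨x, hx⟩
    obtain ⟨x, hx⟩ : ∃ x : G, x * z * x⁻¹ = v := by
      rcases hinvP v hg₁ hvv with hvD | hvE
      · exact hconjD v hvD hv1
      · have hd : t⁻¹ * v * t ∈ D := mem_conjS.1 (htDE.ge hvE)
        obtain ⟨x, hx⟩ := hconjD _ hd (fun e => hv1 (by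
          calc v = t * (t⁻¹ * v * t) * t⁻¹ := by group
            _ = 1 := by rw [e]; group))
        exact ⟨t * x, by rw [show t * x * z * (t * x)⁻¹ = t * (x * z * x⁻¹) * t⁻¹ by group, hx]; group⟩
    exact ⟨g₁⁻¹ * x, by rw [show g₁⁻¹ * x * z * (g₁⁻¹ * x)⁻¹ = g₁⁻¹ * (x * z * x⁻¹) * g₁ by group, hx, hv]; group⟩
  have hCt : Subgroup.centralizer ({t} : Set G) = conjS g₂ T := by
    ext x
    rw [mem_conjS, ← hCz, Subgroup.mem_centralizer_singleton_iff, Subgroup.mem_centralizer_singleton_iff, ← hg₂]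
    refine ⟨fun e => ?_, fun e => ?_⟩
    · calc g₂⁻¹ * x * g₂ * z = g₂⁻¹ * (x * (g₂ * z * g₂⁻¹)) * g₂ := by group
        _ = g₂⁻¹ * (g₂ * z * g₂⁻¹ * x) * g₂ := by rw [e]
        _ = z * (g₂⁻¹ * x * g₂) := by group
    · calc x * (g₂ * z * g₂⁻¹) = g₂ * (g₂⁻¹ * x * g₂ * z) * g₂⁻¹ := by group
        _ = g₂ * (z * (g₂⁻¹ * x * g₂)) * g₂⁻¹ := by rw [e]
        _ = g₂ * z * g₂⁻¹ * x := by group
  -- the other side
  set y := g₂⁻¹ * z * g₂ with hy
  have hyT : y ∈ T := mem_conjS.1 (hCt.le (Subgroup.mem_centralizer_singleton_iff.2 (by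
    have := mul_inv_eq_iff_eq_mul.1 htz
    exact this.symm)))
  have hyy : y * y = 1 := by
    rw [hy, show g₂⁻¹ * z * g₂ * (g₂⁻¹ * z * g₂) = g₂⁻¹ * (z * z) * g₂ by group, h.sq (hZD hz)]; group
  have hyP : y ∉ P := by
    intro hyP
    -- an elementary subgroup of order sixteen around both
    obtain ⟨A, hA, hyA⟩ : ∃ A : Subgroup G, (A = D ∨ A = E) ∧ y ∈ A := (hinvP y hyP hyy).elim
      (fun hy => ⟨D, Or.inl rfl, hy⟩) fun hy => ⟨E, Or.inr rfl, hy⟩
    have hAsq : ∀ a ∈ A, a * a = 1 := by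
      rcases hA with rfl | rfl
      exacts [fun a ha => h.sq ha, hEsq]
    have hAc : Nat.card A = 16 := by
      rcases hA with rfl | rfl
      exacts [h.card_D.trans (by norm_num), h'.card_D.trans (by norm_num)]
    have hzA : z ∈ A := by
      rcases hA with rfl | rfl
      exacts [hZD hz, (hED.ge hz).1]
    have hAC : conjS g₂ A ≤ T := by
      rintro _ ⟨a, ha, rfl⟩
      rw [← hCz, Subgroup.mem_centralizer_singleton_iff]
      have e := hAsq _ (mul_mem ha hyA)
      rw [mul_eq_one_iff_eq_inv, mul_inv_rev, inv_eq_of_mul_eq_one_right (hAsq a ha),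
        inv_eq_of_mul_eq_one_right hyy] at e
      show g₂ * a * g₂⁻¹ * z = z * (g₂ * a * g₂⁻¹)
      calc g₂ * a * g₂⁻¹ * z = g₂ * (a * y) * g₂⁻¹ := by rw [hy]; group
        _ = g₂ * (y * a) * g₂⁻¹ := by rw [e]
        _ = z * (g₂ * a * g₂⁻¹) := by rw [hy]; group
    have ht : t ∈ conjS g₂ A := ⟨z, hzA, hg₂⟩
    rcases hbig T hT2 hPT' hTN _ hAC (hDE16 g₂ A hAsq) ((card_conjS g₂ A).trans hAc) with e | e
    · exact htPn (hDP (e.le ht))
    · exact htPn (hEP (e.le ht))
  have hfixed : ∀ w ∈ Z, t * w * t⁻¹ = w → w = 1 ∨ w = z := by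
    intro w hw htw
    by_contra hno
    push Not at hno
    · -- otherwise the swap centralizes the common part
      have hkZ : k * z * k⁻¹ ∈ Z := hED.le
        ⟨(Subgroup.mem_normalizer_iff.1 hkE z).1 (hED.ge hz).1, (Subgroup.mem_normalizer_iff.1 hkD z).1 (hZD hz)⟩
      set W := Z ⊓ Subgroup.centralizer ({t} : Set G)
      have hmemW : ∀ u ∈ Z, t * u * t⁻¹ = u → u ∈ W := fun u hu e0 =>
        Subgroup.mem_inf.2 ⟨hu, Subgroup.mem_centralizer_singleton_iff.2 (mul_inv_eq_iff_eq_mul.1 e0).symm⟩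
      have hW3 : 3 ≤ Nat.card W := by
        have hinj : Function.Injective (fun i : Fin 3 => (⟨![1, z, w] i, by
            fin_cases i
            exacts [one_mem W, hmemW z hz htz, hmemW w hw htw]⟩ : W)) := by
          intro i j e0
          have e' := congrArg Subtype.val e0
          fin_cases i <;> fin_cases j <;> first
            | rfl
            | (exfalso; simp at e'; first
                | exact hz1 e' | exact hz1 e'.symm | exact hno.1 e' | exact hno.1 e'.symm | exact hno.2 e' | exact hno.2 e'.symm)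
        exact (Nat.card_fin 3).symm.le.trans (Nat.card_le_card_of_injective _ hinj)
      have hWZ : W = Z := by
        have hd' := Subgroup.card_dvd_of_le (inf_le_left : W ≤ Z)
        rw [hZc] at hd'
        have hle' := Nat.le_of_dvd (by norm_num) hd'
        refine Subgroup.eq_of_le_of_card_ge inf_le_left ?_
        rw [hZc]
        have hkey : ∀ m : ℕ, 3 ≤ m → m ≤ 4 → m ∣ 4 → 4 ≤ m := by
          intro m h3 h4 h5
          interval_cases m <;> norm_num at *
        exact hkey _ hW3 hle' hd'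
      obtain ⟨i, hi⟩ := Subgroup.mem_zpowers_iff.1 ((Subgroup.mem_normalizer_iff.1 htk k).1 (Subgroup.mem_zpowers k))
      have hkz : t * (k * z * k⁻¹) * t⁻¹ = k * z * k⁻¹ := by
        rw [← Subgroup.mem_centralizer_singleton_iff.1 (hWZ.ge hkZ).2, mul_inv_cancel_right]
      have h4 : Commute (k⁻¹ * (t * k * t⁻¹)) z := mul_inv_eq_iff_eq_mul.1 (by
        calc k⁻¹ * (t * k * t⁻¹) * z * (k⁻¹ * (t * k * t⁻¹))⁻¹
            = k⁻¹ * (t * (k * (t⁻¹ * z * t) * k⁻¹) * t⁻¹) * k := by group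
          _ = k⁻¹ * (t * (k * z * k⁻¹) * t⁻¹) * k := by rw [show t⁻¹ * z * t = z by rw [hti]; nth_rewrite 2 [← hti]; exact htz]
          _ = z := by rw [hkz]; group)
      rw [← hi, ← zpow_neg_one, ← zpow_add] at h4
      have h5 := hC.eq_one_of_commute hzinv (hkodd.of_dvd_nat
        (orderOf_dvd_of_mem_zpowers (Subgroup.zpow_mem _ (Subgroup.mem_zpowers k) _))) h4
      have h6 : k = t * k * t⁻¹ := by
        rw [zpow_add, zpow_neg_one, inv_mul_eq_one, hi] at h5
        exact h5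
      have h7 := hC.eq_one_of_commute hto hkodd (mul_inv_eq_iff_eq_mul.1 h6.symm).symm
      rw [h7, orderOf_one] at hk3
      omega
  -- squares in the common centralizer
  have hsqT : ∀ v : G, v * v = 1 → v ∈ T → v ∉ P → ∀ x ∈ T, Commute x v → x * x = 1 ∨ x * x = z := by
    intro v hvv hvT hvP x hx hxv
    obtain ⟨h1, h2⟩ := hswap v (hTN hvT) fun hD => hvP (hfixP T hT2 hPT' v hvT hD)
    have key : ∀ p ∈ P, Commute p v → p * p = 1 ∨ p * p = z := by
      intro p hp hpv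
      have hd := h.square_mem hP hp
      have hfixv : v * (p * p) * v⁻¹ = p * p := by
        rw [← (hpv.mul_left hpv).eq, mul_inv_cancel_right]
      have hdZ : p * p ∈ Z := hED.le ⟨h1.le ⟨p * p, hd, hfixv⟩, hd⟩
      obtain ⟨q, hq, rfl⟩ := (hsplit v hvT).resolve_left hvP
      refine hfixed _ hdZ ?_
      rw [show q * t * (p * p) * (q * t)⁻¹ = q * (t * (p * p) * t⁻¹) * q⁻¹ by group,
        ← h.fix_central hP hZD hZ (htZ _ hdZ) hq, mul_inv_cancel_right] at hfixv
      exact hfixv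
    rcases hsplit x hx with hxP | ⟨p, hp, rfl⟩
    · exact key x hxP hxv
    · by_cases hxP : p * t ∈ P
      · exact key _ hxP hxv
      have hm : p * t * v⁻¹ ∈ P := by
        obtain ⟨h3, h4⟩ := hswap (p * t) (hTN hx) fun hD => hxP (hfixP T hT2 hPT' _ hx hD)
        have hvi : v⁻¹ = v := inv_eq_of_mul_eq_one_right hvv
        rw [hvi]
        exact hfixP T hT2 hPT' _ (mul_mem hx hvT) (hswap2 _ _ h1 h4)
      have e : p * t * (p * t) = p * t * v⁻¹ * (p * t * v⁻¹) := by
        have hvi : v⁻¹ = v := inv_eq_of_mul_eq_one_right hvv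
        rw [hvi, show p * t * v * (p * t * v) = p * t * (v * (p * t)) * v by group, ← hxv.eq,
          show p * t * (p * t * v) * v = p * t * (p * t) * (v * v) by group, hvv, mul_one]
      rw [e]
      refine key _ hm ?_
      exact hxv.mul_left ((Commute.refl v).inv_left)
  -- the common centralizer is elementary
  have hsqW : ∀ x ∈ T, Commute x t → x * x = 1 := by
    intro x hx hxt
    rcases hsqT t htinv htT htPn x hx hxt with e | e
    · exact e
    have hx' : g₂⁻¹ * x * g₂ ∈ T := mem_conjS.1 (hCt.le (Subgroup.mem_centralizer_singleton_iff.2 hxt))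
    have hcomm : Commute (g₂⁻¹ * x * g₂) y := by
      have := Subgroup.mem_centralizer_singleton_iff.1 (hCz.ge hx)
      show g₂⁻¹ * x * g₂ * y = y * (g₂⁻¹ * x * g₂)
      calc g₂⁻¹ * x * g₂ * y = g₂⁻¹ * (x * z) * g₂ := by rw [hy]; group
        _ = g₂⁻¹ * (z * x) * g₂ := by rw [this]
        _ = y * (g₂⁻¹ * x * g₂) := by rw [hy]; group
    have e2 := hsqT y hyy hyT hyP _ hx' hcomm
    rw [show g₂⁻¹ * x * g₂ * (g₂⁻¹ * x * g₂) = g₂⁻¹ * (x * x) * g₂ by group, e] at e2
    exfalso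
    rcases e2 with e2 | e2
    · exact hz1 (by
        calc z = g₂ * (g₂⁻¹ * z * g₂) * g₂⁻¹ := by group
          _ = 1 := by rw [e2]; group)
    · exact hyP (by rw [hy, e2]; exact hDP (hZD hz))
  -- an element of the fixed part outside the common part
  obtain ⟨d, hd, hdZ⟩ : ∃ d ∈ D, d ∉ Z := by
    by_contra hno
    push Not at hno
    have := Nat.card_le_card_of_injective _ (Subgroup.inclusion_injective hno)
    rw [h.card_D, hZc] at this
    norm_num at this
  set e := t * d * t⁻¹ with hedef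
  have heE : e ∈ E := htDE.le ⟨d, hd, rfl⟩
  have hde : t * (d * e) * t⁻¹ = e * d := by
    rw [hedef]
    calc t * (d * (t * d * t⁻¹)) * t⁻¹ = t * d * t⁻¹ * (t * t * d * (t * t)⁻¹) := by group
      _ = t * d * t⁻¹ * d := by rw [htinv]; group
  set c' := e * d * e⁻¹ * d⁻¹ with hc'
  have hc'Z : c' ∈ Z := hED.le ⟨by
      rw [hc', show e * d * e⁻¹ * d⁻¹ = e * (d * e⁻¹ * d⁻¹) by group]
      exact mul_mem heE (h'.conj_mem hP' (hDP hd) (inv_mem heE)),
    D.mul_mem (h.conj_mem hP (hEP heE) hd) (D.inv_mem hd)⟩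
  have hct : t * c' * t⁻¹ = c' := by
    have hte : t * e * t⁻¹ = d := by
      rw [hedef, show t * (t * d * t⁻¹) * t⁻¹ = t * t * d * (t * t)⁻¹ by group, htinv]; group
    rw [hc', show t * (e * d * e⁻¹ * d⁻¹) * t⁻¹ = t * e * t⁻¹ * (t * d * t⁻¹) * (t * e * t⁻¹)⁻¹ * (t * d * t⁻¹)⁻¹ by group,
      hte, ← hedef]
    calc d * e * d⁻¹ * e⁻¹ = (e * d * e⁻¹ * d⁻¹)⁻¹ := by group
      _ = e * d * e⁻¹ * d⁻¹ := h.eq_inv (hZD hc'Z)
  -- the correction
  obtain ⟨ζ, hζ, htζ⟩ : ∃ ζ ∈ Z, c' * (t * ζ * t⁻¹) = ζ := by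
    rcases hfixed c' hc'Z hct with e0 | e0
    · exact ⟨1, one_mem Z, by rw [e0]; group⟩
    obtain ⟨ζ, hζ, hζ'⟩ : ∃ ζ ∈ Z, t * ζ * t⁻¹ ≠ ζ := by
      by_contra hno
      push Not at hno
      have hinj : Function.Injective (fun w : Z => decide ((w : G) = 1)) := by
        intro a b e1
        have e1' : (decide ((a : G) = 1)) = decide ((b : G) = 1) := e1
        rw [decide_eq_decide] at e1'
        refine Subtype.ext ?_
        rcases hfixed _ a.2 (hno _ a.2) with ha | ha <;> rcases hfixed _ b.2 (hno _ b.2) with hb | hb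
        · rw [ha, hb]
        · exact absurd (hb.symm.trans (e1'.1 ha)) hz1
        · exact absurd (ha.symm.trans (e1'.2 hb)) hz1
        · rw [ha, hb]
      have := Nat.card_le_card_of_injective _ hinj
      rw [hZc, Nat.card_eq_fintype_card, Fintype.card_bool] at this
      norm_num at this
    have hfx : t * (ζ * (t * ζ * t⁻¹)) * t⁻¹ = ζ * (t * ζ * t⁻¹) := by
      calc t * (ζ * (t * ζ * t⁻¹)) * t⁻¹ = t * ζ * t⁻¹ * (t * t * ζ * (t * t)⁻¹) := by group
        _ = t * ζ * t⁻¹ * ζ := by rw [htinv]; group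
        _ = ζ * (t * ζ * t⁻¹) := h.comm (hZD (htZ _ hζ)) (hZD hζ)
    have hne1 : ζ * (t * ζ * t⁻¹) ≠ 1 := fun e1 => hζ' (by
      rw [eq_inv_of_mul_eq_one_right e1, h.eq_inv (hZD hζ)])
    refine ⟨ζ, hζ, ?_⟩
    rw [e0, ← (hfixed _ (mul_mem hζ (htZ _ hζ)) hfx).resolve_left hne1, mul_assoc,
      h.sq (hZD (htZ _ hζ)), mul_one]
  have hxP : d * e * ζ ∈ P := mul_mem (mul_mem (hDP hd) (hEP heE)) (hDP (hZD hζ))
  have hxt : Commute (d * e * ζ) t := by
    have e1 : t * (d * e * ζ) * t⁻¹ = d * e * ζ := by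
      rw [show t * (d * e * ζ) * t⁻¹ = t * (d * e) * t⁻¹ * (t * ζ * t⁻¹) by group, hde,
        show e * d = c' * (d * e) by rw [hc']; group, h.fix_central hP hZD hZ hc'Z (mul_mem (hDP hd) (hEP heE)),
        mul_assoc, htζ]
    exact (mul_inv_eq_iff_eq_mul.1 e1).symm
  rcases hinvP _ hxP (hsqW _ (hPT' hxP) hxt) with hm | hm
  · have he : e ∈ D := by
      have := mul_mem (mul_mem (inv_mem hd) hm) (inv_mem (hZD hζ))
      rwa [show d⁻¹ * (d * e * ζ) * ζ⁻¹ = e by group] at this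
    have h8 : e ∈ Z := hED.le ⟨heE, he⟩
    exact hdZ (by
      have := htZ _ h8
      rwa [hedef, show t * (t * d * t⁻¹) * t⁻¹ = t * t * d * (t * t)⁻¹ by group, htinv, one_mul, inv_one, mul_one] at this)
  · have := mul_mem (mul_mem hm (inv_mem (hED.ge hζ).1)) (inv_mem heE)
    rw [show d * e * ζ * ζ⁻¹ * e⁻¹ = d by group] at this
    exact hdZ (hED.le ⟨this, hd⟩)

end Cfsg.Agent.Solv.CITGroups
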