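import Cfsg.Agent.Lib.Solv.CIT.ExcPlane
import Cfsg.Agent.Lib.Spor.PlaneAut
import Mathlib.FieldTheory.Finite.GaloisField

/-!
The exceptional configuration is the plane of order four.
-/

set_option autoImplicit false
set_option linter.style.haveILetI false
set_option linter.unusedSectionVars false

open scoped Pointwise LinearAlgebra.Projectivization

namespace Cfsg.Agent.Solv.CITGroups

open Cfsg
open Cfsg.Agent.Spor.PlaneFour (plane_unique)
open Cfsg.Agent.Spor.PlaneAut (card_aut_le simple_le projLines proj_steiner psl_maps card_psl34)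

universe u

variable {G : Type u} [Group G] [Finite G]

/-- A simple group with an exceptional local subgroup is the linear group of dimension three. -/
theorem L34.of_exc [IsSimpleGroup G] (hna : ∃ a b : G, a * b ≠ b * a) (hC : CIT G) (hb : Below.{u} (Nat.card G))
    {n : ℕ} {D₀ : Subgroup G} (h₀ : ExcIn n D₀) : L34 G := by
  classical
  obtain ⟨D, E, P, Z, h⟩ := exists_cfg hna hC hb h₀
  haveI : Fintype (G ⧸ Subgroup.normalizer (D : Set G)) := Fintype.ofFinite _
  obtain ⟨hα, hcon⟩ := h.card_points hC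
  let B : Finset (Finset (G ⧸ Subgroup.normalizer (D : Set G))) :=
    (Set.finite_range fun g : G => (blk D E).image (g • ·)).toFinset
  have hB : ∀ b, b ∈ (B : Set (Finset (G ⧸ Subgroup.normalizer (D : Set G)))) ↔
      ∃ g : G, (blk D E).image (g • ·) = b := fun b => by
    simp [B]
  have hbase : base D ∈ blk D E := mem_blk.2 ⟨1, one_mem _, one_smul G _⟩
  have hfixE : ∀ g ∈ Subgroup.normalizer (E : Set G), (blk D E).image (g • ·) = blk D E := by
    intro g hg
    refine Finset.eq_of_subset_of_card_le ?_ (Finset.card_image_of_injective _ (MulAction.injective g)).ge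
    intro y hy
    obtain ⟨x, hx, rfl⟩ := Finset.mem_image.1 hy
    obtain ⟨m, hm, rfl⟩ := mem_blk.1 hx
    exact mem_blk.2 ⟨g * m, mul_mem hg hm, mul_smul _ _ _⟩
  have himg : ∀ (a b : G), ((blk D E).image (b • ·)).image (a • ·) = (blk D E).image ((a * b) • ·) := fun a b => by
    rw [Finset.image_image]
    congr 1
    funext x
    exact (mul_smul a b x).symm
  -- lines through the base point
  have hthrough : ∀ g : G, base D ∈ (blk D E).image (g • ·) →
      ∃ m ∈ Subgroup.normalizer (D : Set G), (blk D E).image (g • ·) = (blk D E).image (m • ·) := by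
    intro g hg
    obtain ⟨x, hx, e⟩ := Finset.mem_image.1 hg
    obtain ⟨m, hm, rfl⟩ := mem_blk.1 hx
    refine ⟨g * m, smul_base_self.1 (by rw [mul_smul]; exact e), ?_⟩
    rw [← himg g m, hfixE m hm]
  have huniq : ∀ y, y ≠ base D → ∀ m ∈ Subgroup.normalizer (D : Set G), ∀ m' ∈ Subgroup.normalizer (D : Set G),
      y ∈ (blk D E).image (m • ·) → y ∈ (blk D E).image (m' • ·) →
      (blk D E).image (m • ·) = (blk D E).image (m' • ·) := by
    intro y hy m hm m' hm' h1 h2
    obtain ⟨x, hx, rfl⟩ := Finset.mem_image.1 h1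
    obtain ⟨x', hx', e⟩ := Finset.mem_image.1 h2
    obtain ⟨m₂, hm₂, rfl⟩ := mem_blk.1 hx
    obtain ⟨m₂', hm₂', rfl⟩ := mem_blk.1 hx'
    have hne : m₂ ∉ Subgroup.normalizer (D : Set G) := fun h0 => hy (by
      show m • m₂ • base D = base D
      rw [smul_base_self.2 h0, smul_base_self.2 hm])
    have hw := h.pair_le hC (mul_mem (inv_mem hm) hm') hm₂ hm₂' hne (by
      rw [← smul_smul, ← smul_smul]
      rw [e, inv_smul_smul])
    rw [show m' = m * (m⁻¹ * m') by group, ← himg m (m⁻¹ * m'), hfixE _ hw]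
  have hsteiner : Cfsg.IsSteinerSystem 2 5 (B : Set (Finset (G ⧸ Subgroup.normalizer (D : Set G)))) := by
    refine ⟨fun b hb' => ?_, fun s hs => ?_⟩
    · obtain ⟨g, rfl⟩ := (hB b).1 hb'
      rw [Finset.card_image_of_injective _ (MulAction.injective g), h.card_blk hC]
    obtain ⟨a, b, hab, rfl⟩ := Finset.card_eq_two.1 hs
    obtain ⟨g, rfl⟩ := exists_rep a
    have hb' : g⁻¹ • b ≠ base D := fun e => hab (by rw [← e, smul_inv_smul])
    obtain ⟨m, hm, m₂, hm₂, he⟩ := hcon _ hb'
    have hmem₀ : g • base D ∈ (blk D E).image ((g * m) • ·) :=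
      Finset.mem_image.2 ⟨base D, hbase, by show (g * m) • base D = _; rw [mul_smul, smul_base_self.2 hm]⟩
    have hmem₁ : b ∈ (blk D E).image ((g * m) • ·) :=
      Finset.mem_image.2 ⟨m₂ • base D, mem_blk.2 ⟨m₂, hm₂, rfl⟩, by
        show (g * m) • m₂ • base D = b
        rw [mul_smul, smul_smul m m₂, he, smul_inv_smul]⟩
    refine ⟨_, ⟨(hB _).2 ⟨g * m, rfl⟩, fun x hx => ?_⟩, ?_⟩
    · rcases Finset.mem_insert.1 hx with rfl | hx
      exacts [hmem₀, (Finset.mem_singleton.1 hx).symm ▸ hmem₁]
    rintro l ⟨hl, hsub⟩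
    obtain ⟨g', rfl⟩ := (hB _).1 hl
    obtain ⟨x₀, hx₀, e₀⟩ := Finset.mem_image.1 (hsub (Finset.mem_insert_self _ _))
    obtain ⟨x₁, hx₁, e₁⟩ := Finset.mem_image.1 (hsub (Finset.mem_insert_of_mem (Finset.mem_singleton_self _)))
    obtain ⟨m', hm', hl'⟩ := hthrough (g⁻¹ * g') (Finset.mem_image.2 ⟨x₀, hx₀, by
      show (g⁻¹ * g') • x₀ = base D
      rw [mul_smul]
      rw [e₀, inv_smul_smul]⟩)
    have hy : g⁻¹ • b ∈ (blk D E).image (m' • ·) := by
      rw [← hl']
      refine Finset.mem_image.2 ⟨x₁, hx₁, ?_⟩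
      show (g⁻¹ * g') • x₁ = g⁻¹ • b
      rw [mul_smul]
      rw [e₁]
    have hy' : g⁻¹ • b ∈ (blk D E).image (m • ·) :=
      Finset.mem_image.2 ⟨m₂ • base D, mem_blk.2 ⟨m₂, hm₂, rfl⟩, by
        show m • m₂ • base D = _
        rw [smul_smul, he]⟩
    rw [← himg g m, ← huniq _ hb' m' hm' m hm hy hy', ← hl', himg, mul_inv_cancel_left]
  -- the group inside the plane group
  set A := Cfsg.setSystemAut (B : Set (Finset (G ⧸ Subgroup.normalizer (D : Set G))))
  have hact : ∀ g : G, MulAction.toPermHom G (G ⧸ Subgroup.normalizer (D : Set G)) g ∈ A := by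
    intro g
    refine Spor.Code24.mem_setSystemAut fun b hb' => ?_
    obtain ⟨g', rfl⟩ := (hB b).1 hb'
    exact (hB _).2 ⟨g * g', (himg g g').symm⟩
  let φ : G →* A := (MulAction.toPermHom G (G ⧸ Subgroup.normalizer (D : Set G))).codRestrict A hact
  have hφ : Function.Injective φ := by
    rw [← MonoidHom.ker_eq_bot_iff]
    refine (IsSimpleGroup.eq_bot_or_eq_top_of_normal _ φ.normal_ker).resolve_right fun e => ?_
    have hall : ∀ g : G, g ∈ Subgroup.normalizer (D : Set G) := fun g => smul_base_self.1 (by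
      have := MonoidHom.mem_ker.1 (e.ge (Subgroup.mem_top g))
      exact Equiv.congr_fun (congrArg Subtype.val this) (base D))
    have h1 : Fintype.card (G ⧸ Subgroup.normalizer (D : Set G)) ≤ 1 := Fintype.card_le_one_iff.2 fun a b => by
      obtain ⟨g, rfl⟩ := exists_rep a
      obtain ⟨g', rfl⟩ := exists_rep b
      rw [smul_base_self.2 (hall g), smul_base_self.2 (hall g')]
    omega
  have hG : Nat.card G = 20160 := by
    have e := (Subgroup.normalizer (D : Set G)).card_mul_index
    rw [h.cardN, show (Subgroup.normalizer (D : Set G)).index = 21 from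
      (Nat.card_eq_fintype_card (α := (G ⧸ Subgroup.normalizer (D : Set G)))).trans hα] at e
    omega
  -- the linear group
  let F := GaloisField 2 2
  haveI : Fintype F := Fintype.ofFinite F
  have hF : Fintype.card F = 4 := by
    rw [← Nat.card_eq_fintype_card, GaloisField.card 2 2 (by norm_num)]
    norm_num
  haveI : Fintype (ℙ F (Fin 3 → F)) := Fintype.ofFinite _
  haveI : DecidableEq (ℙ F (Fin 3 → F)) := _root_.Classical.decEq _
  obtain ⟨L, hL⟩ : ∃ L : Finset (Finset (ℙ F (Fin 3 → F))), (L : Set (Finset (ℙ F (Fin 3 → F)))) = projLines (F := F) :=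
    ⟨(Set.toFinite _).toFinset, Set.Finite.coe_toFinset _⟩
  have hLs : Cfsg.IsSteinerSystem 2 5 (L : Set (Finset (ℙ F (Fin 3 → F)))) := hL ▸ proj_steiner hF
  have hℙ : Fintype.card (ℙ F (Fin 3 → F)) = 21 := by
    rw [← Nat.card_eq_fintype_card,
      Projectivization.card_of_finrank F (Fin 3 → F) (Module.finrank_fin_fun F), Nat.card_eq_fintype_card, hF]
    rfl
  obtain ⟨e, he⟩ := plane_unique hℙ hα hLs hsteiner
  let lin : Matrix.ProjectiveSpecialLinearGroup (Fin 3) F →* Equiv.Perm (G ⧸ Subgroup.normalizer (D : Set G)) :=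
    e.permCongrHom.toMonoidHom.comp (MulAction.toPermHom _ _)
  have hlin : ∀ g, lin g ∈ A := by
    intro g
    obtain ⟨g, rfl⟩ := QuotientGroup.mk_surjective g
    refine Spor.Code24.mem_setSystemAut fun l hl => ?_
    rw [← he] at hl ⊢
    obtain ⟨m, hm, rfl⟩ := hl
    refine ⟨m.image (fun x => g • x), ?_, ?_⟩
    · rw [hL] at hm ⊢
      exact psl_maps g hm
    · show (m.image fun x => g • x).image e = (m.image e).image _
      rw [Finset.image_image, Finset.image_image]
      congr 1
      funext x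
      simp [lin, Matrix.ProjectiveSpecialLinearGroup.smul_proj_mk]
  let ψ : Matrix.ProjectiveSpecialLinearGroup (Fin 3) F →* A := lin.codRestrict A hlin
  have hψ : Function.Injective ψ := by
    intro a b h'
    have h'' := e.permCongrHom.injective (congrArg Subtype.val h')
    exact MulAction.toPerm_injective h''
  haveI hsimple : IsSimpleGroup (Matrix.ProjectiveSpecialLinearGroup (Fin 3) F) :=
    Cfsg.Agent.Small.PSLn.psl_simple le_rfl
  have hr : Nat.card φ.range = 20160 := (Nat.card_congr (MonoidHom.ofInjective hφ).toEquiv).symm.trans hG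
  have hr' : Nat.card ψ.range = 20160 :=
    (Nat.card_congr (MonoidHom.ofInjective hψ).toEquiv).symm.trans (card_psl34 hF)
  have hsimp : IsSimpleGroup ψ.range := (MonoidHom.ofInjective hψ).symm.isSimpleGroup
  have heq : ψ.range = φ.range := Subgroup.eq_of_le_of_card_ge
    (simple_le (card_aut_le hα hsteiner) φ.range ψ.range hsimp hr.ge hr'.ge) (by rw [hr, hr'])
  exact ⟨F, inferInstance, inferInstance, hF,
    ⟨(MonoidHom.ofInjective hφ).trans ((MulEquiv.subgroupCongr heq.symm).trans (MonoidHom.ofInjective hψ).symm)⟩⟩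

end Cfsg.Agent.Solv.CITGroups
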