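import Cfsg.Agent.Lib.Solv.CIT.Basic
import Cfsg.Agent.Lib.Solv.EPPOSeven.Top

/-!
Counting fixed points on an abelian 2-subgroup, and offenders.
-/

set_option autoImplicit false
set_option linter.style.haveILetI false

namespace Cfsg.Agent.Solv.CITGroups

open Cfsg

universe u

variable {G : Type u} [Group G] [Finite G]

/-- An involution inverting a fixed-point-free element fixes the square root of an abelian group. -/
theorem half_fixed {W : Subgroup G} [IsMulCommutative W] {x y : G} (hy : orderOf y = 2)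
    (hyx : y * x * y⁻¹ = x⁻¹) (hxW : ∀ v ∈ W, x * v * x⁻¹ ∈ W) (hyW : ∀ v ∈ W, y * v * y⁻¹ ∈ W)
    (hfpf : ∀ v ∈ W, Commute (x * x) v → v = 1) :
    Nat.card W = Nat.card ↥(W ⊓ Subgroup.centralizer ({y} : Set G)) *
      Nat.card ↥(W ⊓ Subgroup.centralizer ({y} : Set G)) := by
  classical
  set C := W ⊓ Subgroup.centralizer ({y} : Set G) with hC
  have hyy : y * y = 1 := (orderOf_two_iff.1 hy).1
  have hyi : y⁻¹ = y := inv_eq_of_mul_eq_one_right hyy
  have hcomm : ∀ a b : G, a ∈ W → b ∈ W → a * b = b * a := fun a b ha hb =>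
    congrArg Subtype.val (mul_comm' (⟨a, ha⟩ : W) ⟨b, hb⟩)
  have hfix : ∀ c ∈ C, y * c * y⁻¹ = c := fun c hc =>
    mul_inv_eq_iff_eq_mul.2 (Subgroup.mem_centralizer_singleton_iff.1 hc.2).symm
  have hCm : ∀ c ∈ W, y * c * y⁻¹ = c → c ∈ C := fun c hc e =>
    ⟨hc, Subgroup.mem_centralizer_singleton_iff.2 (mul_inv_eq_iff_eq_mul.1 e).symm⟩
  have hy_x : ∀ b : G, y * (x * b * x⁻¹) * y⁻¹ = x⁻¹ * (y * b * y⁻¹) * x := fun b => by
    calc y * (x * b * x⁻¹) * y⁻¹ = (y * x * y⁻¹) * (y * b * y⁻¹) * (y * x * y⁻¹)⁻¹ := by group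
      _ = _ := by rw [hyx, inv_inv]
  rw [← Nat.card_prod]
  refine le_antisymm ?_ ?_
  · have hn : ∀ v ∈ W, v * (y * v * y⁻¹) ∈ C := fun v hv => hCm _ (mul_mem hv (hyW v hv)) (by
      calc y * (v * (y * v * y⁻¹)) * y⁻¹ = (y * v * y⁻¹) * ((y * y) * v * (y * y)⁻¹) := by group
        _ = (y * v * y⁻¹) * v := by rw [hyy]; group
        _ = _ := hcomm _ _ (hyW v hv) hv)
    let f : W →* C × C := MonoidHom.mk' (fun v => (⟨v * (y * v * y⁻¹), hn v v.2⟩,
      ⟨(x * v * x⁻¹) * (y * (x * v * x⁻¹) * y⁻¹), hn _ (hxW v v.2)⟩)) fun v w => by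
      have key : ∀ a b : G, a ∈ W → b ∈ W →
          a * b * (y * (a * b) * y⁻¹) = a * (y * a * y⁻¹) * (b * (y * b * y⁻¹)) := fun a b ha hb => by
        calc a * b * (y * (a * b) * y⁻¹) = a * (b * (y * a * y⁻¹)) * (y * b * y⁻¹) := by group
          _ = a * ((y * a * y⁻¹) * b) * (y * b * y⁻¹) := by rw [hcomm b _ hb (hyW a ha)]
          _ = _ := by group
      refine Prod.ext (Subtype.ext (key _ _ v.2 w.2)) (Subtype.ext ?_)
      show x * ((v : G) * w) * x⁻¹ * (y * (x * ((v : G) * w) * x⁻¹) * y⁻¹) = _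
      rw [show x * ((v : G) * w) * x⁻¹ = x * v * x⁻¹ * (x * w * x⁻¹) by group]
      exact key _ _ (hxW v v.2) (hxW w w.2)
    refine Nat.card_le_card_of_injective f ((injective_iff_map_eq_one f).2 fun v hv => ?_)
    have e1 : (v : G) * (y * v * y⁻¹) = 1 := congrArg (fun p => (p.1 : G)) hv
    have e2 : x * v * x⁻¹ * (y * (x * v * x⁻¹) * y⁻¹) = 1 := congrArg (fun p => (p.2 : G)) hv
    rw [hy_x, eq_inv_of_mul_eq_one_right e1] at e2
    refine Subtype.ext (hfpf v v.2 ?_)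
    have e3 : x * v * x⁻¹ = x⁻¹ * v * x := by
      rw [eq_inv_of_mul_eq_one_left e2]
      group
    calc x * x * v = x * (x * v * x⁻¹) * x := by group
      _ = v * (x * x) := by rw [e3]; group
  · refine Nat.card_le_card_of_injective (fun p : C × C =>
      (⟨(p.1 : G) * (x * p.2 * x⁻¹), mul_mem p.1.2.1 (hxW _ p.2.2.1)⟩ : W)) ?_
    rintro ⟨a₁, b₁⟩ ⟨a₂, b₂⟩ e
    have e1 : (a₁ : G) * (x * b₁ * x⁻¹) = a₂ * (x * b₂ * x⁻¹) := congrArg Subtype.val e
    set b : G := (b₂ : G) * (b₁ : G)⁻¹ with hb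
    have hw : (a₂ : G)⁻¹ * a₁ = x * b * x⁻¹ := by
      rw [hb, inv_mul_eq_iff_eq_mul, show x * ((b₂ : G) * (b₁ : G)⁻¹) * x⁻¹ =
        x * b₂ * x⁻¹ * (x * b₁ * x⁻¹)⁻¹ by group, ← mul_assoc, eq_mul_inv_iff_mul_eq]
      exact e1
    have hbC : b ∈ C := mul_mem b₂.2 (inv_mem b₁.2)
    have h1 : x⁻¹ * b * x = x * b * x⁻¹ := by
      have := hfix _ (mul_mem (inv_mem a₂.2) a₁.2)
      rw [hw, hy_x, hfix b hbC] at this
      exact this
    have hb1 : b = 1 := hfpf b hbC.1 (by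
      show x * x * b = b * (x * x)
      calc x * x * b = x * (x * b * x⁻¹) * x := by group
        _ = b * (x * x) := by rw [← h1]; group)
    rw [hb1, mul_one, mul_inv_cancel, inv_mul_eq_one] at hw
    exact Prod.ext (Subtype.ext hw.symm) (Subtype.ext (mul_inv_eq_one.1 (hb ▸ hb1)).symm)

/-- The bound given by an offender. -/
theorem offender_bound {D W A : Subgroup G} [D.Normal] [W.Normal] (hWD : W ≤ D)
    (hmax : Nat.card ↥((A ⊓ D) ⊔ W) ≤ Nat.card A) :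
    Nat.card W ≤ Nat.card (A.map (QuotientGroup.mk' D)) * Nat.card ↥(A ⊓ W) := by
  have hcA : Nat.card A = Nat.card (A.map (QuotientGroup.mk' D)) * Nat.card ↥(A ⊓ D) := by
    rw [← card_map_mk'_mul_card_inf D A, inf_comm]
  have hsup : Nat.card ↥((A ⊓ D) ⊔ W) * Nat.card ↥(A ⊓ W) = Nat.card ↥(A ⊓ D) * Nat.card W := by
    have h1 : W.relIndex ((A ⊓ D) ⊔ W) = W.relIndex (A ⊓ D) := Subgroup.relIndex_sup_right _ _
    have h2 := Subgroup.relIndex_mul_relIndex (⊥ : Subgroup G) W ((A ⊓ D) ⊔ W) bot_le le_sup_right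
    rw [Subgroup.relIndex_bot_left, Subgroup.relIndex_bot_left, h1] at h2
    have h3 := Subgroup.relIndex_mul_relIndex (⊥ : Subgroup G) (A ⊓ W) (A ⊓ D) bot_le (inf_le_inf_left A hWD)
    rw [Subgroup.relIndex_bot_left, Subgroup.relIndex_bot_left,
      show (A ⊓ W).relIndex (A ⊓ D) = W.relIndex (A ⊓ D) by
        rw [← Subgroup.inf_relIndex_right W (A ⊓ D), ← Subgroup.inf_relIndex_right (A ⊓ W) (A ⊓ D)]
        congr 1
        exact le_antisymm (le_inf (inf_le_left.trans inf_le_right) inf_le_right)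
          (le_inf (le_inf (inf_le_right.trans inf_le_left) inf_le_left) inf_le_right)] at h3
    rw [← h2, ← h3]
    ring
  refine Nat.le_of_mul_le_mul_left (?_ : Nat.card ↥(A ⊓ D) * _ ≤ Nat.card ↥(A ⊓ D) * _) Nat.card_pos
  calc Nat.card ↥(A ⊓ D) * Nat.card W = Nat.card ↥((A ⊓ D) ⊔ W) * Nat.card ↥(A ⊓ W) := hsup.symm
    _ ≤ Nat.card A * Nat.card ↥(A ⊓ W) := Nat.mul_le_mul_right _ hmax
    _ = _ := by rw [hcA]; ring

end Cfsg.Agent.Solv.CITGroups
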