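import Cfsg.Agent.Lib.Solv.CIT.SolvLocal
import Cfsg.Agent.Lib.Solv.Zipper
import Cfsg.Agent.Lib.Fusion.Cores

/-!
Involutions outside the core, and lifting.
-/

set_option autoImplicit false
set_option linter.style.haveILetI false

namespace Cfsg.Agent.Solv.CITGroups

open Cfsg

universe u

variable {L : Type u} [Group L] [Finite L]

/-- An element of odd prime order over a given subgroup of the quotient. -/
theorem exists_prime_lift {D : Subgroup L} [D.Normal] (hD : IsPGroup 2 D) {r : ℕ} [Fact r.Prime] (hr2 : r ≠ 2)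
    {q : L ⧸ D} (hq : orderOf q = r) :
    ∃ x : L, orderOf x = r ∧ orderOf (QuotientGroup.mk' D x) = r ∧
      Subgroup.zpowers (QuotientGroup.mk' D x) = Subgroup.zpowers q := by
  haveI : Fact (Nat.Prime 2) := ⟨Nat.prime_two⟩
  have hr : r.Prime := Fact.out
  obtain ⟨g, hg⟩ := QuotientGroup.mk'_surjective D q
  have hd : r ∣ orderOf g := hq ▸ hg ▸ orderOf_map_dvd (QuotientGroup.mk' D) g
  set x := g ^ (orderOf g / r) with hx
  have hxo : orderOf x = r := orderOf_pow_orderOf_div (orderOf_pos g).ne' hd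
  have hπx : orderOf (QuotientGroup.mk' D x) = r := by
    rcases hr.eq_one_or_self_of_dvd _ (hxo ▸ orderOf_map_dvd (QuotientGroup.mk' D) x) with e | e
    · exfalso
      have hdis : Disjoint (Subgroup.zpowers x) D := IsPGroup.disjoint_of_ne r 2 hr2 _ _
        (IsPGroup.of_card (n := 1) (by rw [Nat.card_zpowers, hxo, pow_one])) hD
      have h1 : x = 1 := Subgroup.mem_bot.1 (hdis.le_bot
        ⟨Subgroup.mem_zpowers x, (QuotientGroup.eq_one_iff x).1 (orderOf_eq_one_iff.1 e)⟩)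
      rw [h1, orderOf_one] at hxo
      exact hr.ne_one hxo.symm
    · exact e
  refine ⟨x, hxo, hπx, Subgroup.eq_of_le_of_card_ge (Subgroup.zpowers_le.2 ?_) ?_⟩
  · rw [hx, map_pow, hg]
    exact pow_mem (Subgroup.mem_zpowers q) _
  · rw [Nat.card_zpowers, Nat.card_zpowers, hq, hπx]

/-- An element with an inverting involution gives an element of prime order inverted by it. -/
theorem exists_prime_inverted {Q : Type u} [Group Q] [Finite Q] {t h : Q} (h1 : h ≠ 1) (hodd : Odd (orderOf h))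
    (hinv : t * h * t⁻¹ = h⁻¹) : ∃ (r : ℕ) (q : Q), r.Prime ∧ r ≠ 2 ∧ orderOf q = r ∧ t * q * t⁻¹ = q⁻¹ := by
  obtain ⟨r, hr, hrd⟩ := Nat.exists_prime_and_dvd (fun e => h1 (orderOf_eq_one_iff.1 e))
  refine ⟨r, h ^ (orderOf h / r), hr, fun e => ?_, orderOf_pow_orderOf_div (orderOf_pos h).ne' hrd, ?_⟩
  · rw [e] at hrd
    exact Nat.not_even_iff_odd.2 hodd (even_iff_two_dvd.2 hrd)
  · rw [← conj_pow, hinv, inv_pow]

/-- An involution of a quotient with trivial core lifts to an involution inverting an element of odd prime order. -/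
theorem CIT.exists_inverting_lift (hC : CIT L) {D : Subgroup L} [D.Normal] (hD : IsPGroup 2 D)
    {i : L} (hi : orderOf (QuotientGroup.mk' D i) = 2) (hO : QuotientGroup.mk' D i ∉ Cfsg.pCore 2 (L ⧸ D)) :
    ∃ (r : ℕ) (x t : L), r.Prime ∧ r ≠ 2 ∧ orderOf x = r ∧ orderOf t = 2 ∧
      QuotientGroup.mk' D t = QuotientGroup.mk' D i ∧ t * x * t⁻¹ = x⁻¹ := by
  obtain ⟨h, h1, hodd, hinv⟩ := Solv.exists_odd_inverted hi hO
  obtain ⟨r, q, hr, hr2, hq, hqinv⟩ := exists_prime_inverted h1 hodd hinv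
  haveI := Fact.mk hr
  obtain ⟨x, hxo, -, hz⟩ := exists_prime_lift hD hr2 hq
  obtain ⟨t, ht, hπt, htx⟩ := hC.exists_invol_lift hD hr2 hxo hi (by
    rw [hz]
    have hsub : ∀ w ∈ Subgroup.zpowers q, QuotientGroup.mk' D i * w * (QuotientGroup.mk' D i)⁻¹ = w⁻¹ := by
      rintro _ ⟨k, rfl⟩
      show QuotientGroup.mk' D i * q ^ k * (QuotientGroup.mk' D i)⁻¹ = (q ^ k)⁻¹
      rw [← conj_zpow, hqinv, inv_zpow]
    refine Subgroup.mem_normalizer_iff.2 fun w => ⟨fun hw => by rw [hsub w hw]; exact inv_mem hw, fun hw => ?_⟩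
    have h2 := hsub _ hw
    have hii : QuotientGroup.mk' D i * QuotientGroup.mk' D i = 1 := (orderOf_two_iff.1 hi).1
    have hiv : (QuotientGroup.mk' D i)⁻¹ = QuotientGroup.mk' D i := inv_eq_of_mul_eq_one_right hii
    rw [hiv] at h2 hw
    rw [show QuotientGroup.mk' D i * (QuotientGroup.mk' D i * w * QuotientGroup.mk' D i) * QuotientGroup.mk' D i =
      (QuotientGroup.mk' D i * QuotientGroup.mk' D i) * w * (QuotientGroup.mk' D i * QuotientGroup.mk' D i) by
        simp only [mul_assoc], hii, one_mul, mul_one] at h2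
    rw [h2]
    exact inv_mem hw)
  exact ⟨r, x, t, hr, hr2, hxo, ht, hπt, htx⟩

/-- A group that is not 2-closed has an involution outside its core. -/
theorem CIT.exists_invol_outside (hC : CIT L) (P : Sylow 2 L) (hP : ¬ (P : Subgroup L).Normal) :
    ∃ i : L, orderOf i = 2 ∧ i ∉ Cfsg.pCore 2 L := by
  haveI : Fact (Nat.Prime 2) := ⟨Nat.prime_two⟩
  haveI := Solv.pCore_normal (G := L) 2
  set D := Cfsg.pCore 2 L with hD
  have hD2 : IsPGroup 2 D := Solv.pCore_isPGroup 2
  have h2 : 2 ∣ Nat.card (L ⧸ D) := by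
    by_contra hno
    refine hP ?_
    have hle : (P : Subgroup L) ≤ D := fun g hg => by
      obtain ⟨k, hk⟩ := IsPGroup.iff_orderOf.1 P.isPGroup' ⟨g, hg⟩
      rw [Subgroup.orderOf_mk] at hk
      rw [← QuotientGroup.eq_one_iff, ← orderOf_eq_one_iff]
      have hd := orderOf_map_dvd (QuotientGroup.mk' D) g
      rw [hk] at hd
      obtain ⟨j, -, hj⟩ := (Nat.dvd_prime_pow Nat.prime_two).1 hd
      rcases j with _ | j
      · exact hj.trans (pow_zero 2)
      · exact absurd ((dvd_pow_self 2 j.succ_ne_zero).trans (hj ▸ orderOf_dvd_natCard _)) hno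
    rw [le_antisymm hle (core_le_sylow P)]
    infer_instance
  obtain ⟨q, hq⟩ := exists_prime_orderOf_dvd_card' 2 h2
  obtain ⟨i, rfl⟩ := QuotientGroup.mk'_surjective _ q
  obtain ⟨r, x, t, -, -, -, ht, hπ, -⟩ := hC.exists_inverting_lift hD2 hq (by
    have hO : Cfsg.pCore 2 (L ⧸ D) = ⊥ := Fusion.pCore_quotient_eq_bot
    rw [hO, Subgroup.mem_bot]
    intro e
    rw [e, orderOf_one] at hq
    omega)
  refine ⟨t, ht, fun hmem => ?_⟩
  rw [← hπ, show QuotientGroup.mk' D t = 1 from (QuotientGroup.eq_one_iff t).2 hmem, orderOf_one] at hq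
  omega

end Cfsg.Agent.Solv.CITGroups
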