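import Cfsg.Agent.Lib.Solv.CIT.BorFacts

/-!
The known simple groups with 2-group centralizers of involutions, and the inductive hypothesis.
-/

set_option autoImplicit false
set_option linter.style.haveILetI false

namespace Cfsg.Agent.Solv.CITGroups

open Cfsg

universe u v

/-- A dihedral subgroup of order eight whose four-groups are both fused. -/
def Dih (G : Type u) [Group G] : Prop :=
  ∃ u b g h : G, orderOf u = 4 ∧ orderOf b = 2 ∧ b * u * b⁻¹ = u⁻¹ ∧ orderOf g = 3 ∧ orderOf h = 3 ∧
    g⁻¹ * (u * u) * g = u * u * b ∧ g⁻¹ * (u * u * b) * g = b ∧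
    h⁻¹ * (u * u) * h = u * u * (b * u) ∧ h⁻¹ * (u * u * (b * u)) * h = b * u

/-- The linear group of dimension three over four elements. -/
def L34 (G : Type u) [Group G] : Prop :=
  ∃ (F : Type) (_ : Field F) (_ : Fintype F), Fintype.card F = 4 ∧
    Nonempty (G ≃* Matrix.ProjectiveSpecialLinearGroup (Fin 3) F)

/-- One of the known groups. -/
def KnownCIT (G : Type u) [Group G] : Prop := Bor G ∨ Dih G ∨ L34 G

/-- The smaller simple groups are known. -/
def Below (c : ℕ) : Prop :=
  ∀ (K : Type u) [Group K] [Finite K], Nat.card K < c → IsSimpleGroup K → (∃ a b : K, a * b ≠ b * a) → CIT K →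
    2 ∣ Nat.card K → KnownCIT K

end Cfsg.Agent.Solv.CITGroups
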