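import Cfsg.Agent.Lib.Solv.CIT.Known
import Cfsg.Agent.S0001

/-!
A normal subgroup with Borel data and trivial centralizer is the whole group.
-/

set_option autoImplicit false
set_option linter.style.haveILetI false

namespace Cfsg.Agent.Solv.CITGroups

open Cfsg
open scoped Pointwise
open Cfsg.Agent.Solv.EPPOSeven (omegaCen omegaCen_le)

universe u

variable {Q : Type u} [Group Q] [Finite Q]

omit [Finite Q] in
theorem conj_mem_omegaCen {S : Subgroup Q} {g y : Q} (hg : g ∈ Subgroup.normalizer (S : Set Q))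
    (hy : y ∈ omegaCen S) : g * y * g⁻¹ ∈ omegaCen S := by
  refine ⟨(Subgroup.mem_normalizer_iff.1 hg y).1 hy.1, Subgroup.mem_centralizer_iff.2 fun d hd => ?_, ?_⟩
  · have h1 := Subgroup.mem_centralizer_iff.1 hy.2.1 (g⁻¹ * d * g)
      ((Subgroup.mem_normalizer_iff.1 hg _).2 (by rwa [show g * (g⁻¹ * d * g) * g⁻¹ = d by group]))
    calc d * (g * y * g⁻¹) = g * (g⁻¹ * d * g * y) * g⁻¹ := by group
      _ = g * (y * (g⁻¹ * d * g)) * g⁻¹ := by rw [h1]
      _ = g * y * g⁻¹ * d := by group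
  · rw [show g * y * g⁻¹ * (g * y * g⁻¹) = g * (y * y) * g⁻¹ by group, hy.2.2, mul_one, mul_inv_cancel]

omit [Finite Q] in
theorem normalizer_le_omegaCen (S : Subgroup Q) :
    Subgroup.normalizer (S : Set Q) ≤ Subgroup.normalizer ((omegaCen S : Subgroup Q) : Set Q) := fun g hg => by
  refine Subgroup.mem_normalizer_iff.2 fun y => ⟨conj_mem_omegaCen hg, fun h => ?_⟩
  have := conj_mem_omegaCen (inv_mem hg) h
  rwa [show g⁻¹ * (g * y * g⁻¹) * g⁻¹⁻¹ = y by group] at this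

theorem mem_normalizer_zpowers {k g : Q} (h : g * k * g⁻¹ ∈ Subgroup.zpowers k) :
    g ∈ Subgroup.normalizer ((Subgroup.zpowers k : Subgroup Q) : Set Q) := by
  have hle : (Subgroup.zpowers k).map (MulAut.conj g).toMonoidHom ≤ Subgroup.zpowers k := by
    rw [MonoidHom.map_zpowers, Subgroup.zpowers_le]
    exact h
  have heq := Subgroup.eq_of_le_of_card_ge hle (Subgroup.card_map_of_injective (MulAut.conj g).injective).ge
  refine Subgroup.mem_normalizer_iff.2 fun w => ⟨fun hw => hle ⟨w, hw, rfl⟩, fun hw => ?_⟩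
  obtain ⟨w', hw', e⟩ := heq.ge hw
  rwa [← (MulAut.conj g).injective e]

/-- An element of odd order centralizer: the product is forced to have odd order. -/
theorem CIT.odd_of_commute (hC : CIT Q) {k g : Q} (hk : Odd (orderOf k)) (hk1 : k ≠ 1) (hc : Commute g k) :
    Odd (orderOf g) := by
  by_contra hev
  rw [Nat.not_odd_iff_even, even_iff_two_dvd] at hev
  exact hk1 (hC.eq_one_of_commute (orderOf_pow_orderOf_div (orderOf_pos g).ne' hev) hk (hc.pow_left _).symm)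

/-- A normal subgroup with Borel data is the whole group. -/
theorem CIT.eq_top_of_bor (hC : CIT Q) {N : Subgroup Q} [N.Normal] (hBor : Bor N) : N = ⊤ := by
  classical
  haveI : Fact (Nat.Prime 2) := ⟨Nat.prime_two⟩
  obtain ⟨n, T, hB⟩ := hBor
  obtain ⟨j, hj, -, hj0⟩ := hB.card_T_pow
  let TS : Sylow 2 N := Sylow.ofCard T (by rw [hB.factorization_two hj, hj])
  set S := T.map N.subtype with hS
  have hSN : S ≤ N := Subgroup.map_subtype_le _
  have hS2 : IsPGroup 2 S := hB.T2.map _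
  have hfr : Subgroup.normalizer (S : Set Q) ⊔ N = ⊤ := Sylow.normalizer_sup_eq_top TS
  set B := Subgroup.normalizer (S : Set Q) with hBdef
  set C := N ⊓ B with hCdef
  have hmemC : ∀ x : N, (x : Q) ∈ B ↔ x ∈ Subgroup.normalizer (T : Set N) := fun x => by
    have hmem : ∀ y : N, (y : Q) ∈ S ↔ y ∈ T := fun y => Subgroup.mem_map_iff_mem N.subtype_injective
    refine ⟨fun h => Subgroup.mem_normalizer_iff.2 fun y => ?_, fun h => Subgroup.mem_normalizer_iff.2 fun y => ?_⟩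
    · rw [← hmem y, ← hmem (x * y * x⁻¹)]
      exact Subgroup.mem_normalizer_iff.1 h y
    · by_cases hy : y ∈ N
      · have := Subgroup.mem_normalizer_iff.1 h ⟨y, hy⟩
        rw [← hmem ⟨y, hy⟩, ← hmem (x * ⟨y, hy⟩ * x⁻¹)] at this
        exact this
      · refine ⟨fun hys => absurd (hSN hys) hy, fun hys => absurd ?_ hy⟩
        have h1 := mul_mem (mul_mem (inv_mem x.2) (hSN hys)) x.2
        rwa [show (x : Q)⁻¹ * ((x : Q) * y * (x : Q)⁻¹) * x = y by group] at h1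
  have hCeq : C = (Subgroup.normalizer (T : Set N)).map N.subtype := by
    ext x
    refine ⟨fun h => ⟨⟨x, h.1⟩, (hmemC ⟨x, h.1⟩).1 h.2, rfl⟩, ?_⟩
    rintro ⟨y, hy, rfl⟩
    exact ⟨y.2, (hmemC y).2 hy⟩
  have hCc : Nat.card C = Nat.card T * (2 ^ n - 1) := by rw [hCeq, Solv.card_map_subtype, hB.cardN]
  -- the quotient is a 2-group
  set Z := omegaCen S with hZ
  have hZeq : Z = (omegaCen T).map N.subtype := by
    ext x
    constructor
    · rintro ⟨⟨y, hy, rfl⟩, hc, hsq⟩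
      exact ⟨y, ⟨hy, Subgroup.mem_centralizer_iff.2 fun d hd => Subtype.ext
        (Subgroup.mem_centralizer_iff.1 hc (d : Q) ⟨d, hd, rfl⟩), Subtype.ext hsq⟩, rfl⟩
    · rintro ⟨y, ⟨hy, hc, hsq⟩, rfl⟩
      refine ⟨⟨y, hy, rfl⟩, Subgroup.mem_centralizer_iff.2 ?_, congrArg Subtype.val hsq⟩
      rintro _ ⟨d, hd, rfl⟩
      exact congrArg Subtype.val (Subgroup.mem_centralizer_iff.1 hc d hd)
  have hZc : Nat.card Z = 2 ^ n := by rw [hZeq, Solv.card_map_subtype, hB.card_omegaCen (hC.subgroup N)]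
  set π := QuotientGroup.mk' N with hπ
  have himg : ∀ r : ℕ, r.Prime → r ∣ Nat.card (B.map π) → r = 2 := by
    intro r hr hrd
    by_contra hr2
    set f := (2 ^ n - 1).factorization r
    have h0 : 2 ^ n - 1 ≠ 0 := fun e => Nat.not_even_iff_odd.2 hB.pred_odd (e ▸ Even.zero)
    have h1 : r ^ (f + 1) ∣ Nat.card (Subgroup.normalizer ((Z : Subgroup Q) : Set Q)) := by
      refine Dvd.dvd.trans ?_ (Subgroup.card_dvd_of_le (normalizer_le_omegaCen S))
      rw [← Solv.card_map_mk'_mul_card_inf N B, ← hCdef, hCc, pow_succ']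
      exact mul_dvd_mul hrd (dvd_mul_of_dvd_right (Nat.ordProj_dvd _ r) _)
    have h2 := hC.odd_dvd_pred (hS2.to_le (omegaCen_le S)) ((hr.odd_of_ne_two hr2).pow) h1
    rw [hZc] at h2
    have h3 := Nat.pow_succ_factorization_not_dvd h0 hr
    exact h3 h2
  by_contra htop
  obtain ⟨g, hgB, hgN⟩ : ∃ g, g ∈ B ∧ g ∉ N := by
    by_contra hno
    push Not at hno
    exact htop (top_le_iff.1 (hfr ▸ sup_le hno le_rfl))
  obtain ⟨k₀, hk₀, hk₀o⟩ := hB.gen
  obtain ⟨w₀, -, -, hw₀⟩ := hB.invert k₀ hk₀ (hk₀o ▸ hB.pred_odd)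
  set k : Q := (k₀ : Q) with hk
  have hko : orderOf k = 2 ^ n - 1 := by rw [hk, Subgroup.orderOf_coe, hk₀o]
  have hkC : k ∈ C := ⟨k₀.2, (hmemC k₀).2 hk₀⟩
  have hkodd : Odd (orderOf k) := hko ▸ hB.pred_odd
  have hk1 : k ≠ 1 := fun e => by
    rw [e, orderOf_one] at hko
    have := Nat.pow_le_pow_right two_pos hB.two_le
    omega
  have hdis : Disjoint S (Subgroup.zpowers k) := by
    refine disjoint_iff.2 (Solv.coprime_inf ?_)
    obtain ⟨i, hi⟩ := IsPGroup.iff_card.1 hS2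
    rw [hi, Nat.card_zpowers]
    exact Nat.Coprime.pow_left i (Nat.coprime_two_left.2 hkodd)
  haveI hSn : (S.subgroupOf C).Normal := ⟨fun x hx c => (Subgroup.mem_normalizer_iff.1 c.2.2 x).1 hx⟩
  have hSC : S ≤ C := le_inf hSN Subgroup.le_normalizer
  have hScard : Nat.card (S.subgroupOf C) = Nat.card T := by
    rw [Nat.card_congr (Subgroup.subgroupOfEquivOfLe hSC).toEquiv, hS, Solv.card_map_subtype]
  have hidx : (S.subgroupOf C).index = 2 ^ n - 1 := by
    have := (S.subgroupOf C).card_mul_index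
    rw [hScard, hCc] at this
    exact Nat.eq_of_mul_eq_mul_left Nat.card_pos this
  have hcompl : ∀ c : Q, c ∈ C → orderOf c = 2 ^ n - 1 →
      Subgroup.IsComplement' (S.subgroupOf C) ((Subgroup.zpowers c).subgroupOf C) := fun c hc hco => by
    refine Subgroup.isComplement'_of_coprime ?_ ?_
    · rw [hScard, Nat.card_congr (Subgroup.subgroupOfEquivOfLe (Subgroup.zpowers_le.2 hc)).toEquiv,
        Nat.card_zpowers, hco, hCc]
    · rw [hScard, Nat.card_congr (Subgroup.subgroupOfEquivOfLe (Subgroup.zpowers_le.2 hc)).toEquiv,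
        Nat.card_zpowers, hco, hj]
      exact Nat.Coprime.pow_left j (Nat.coprime_two_left.2 hB.pred_odd)
  have hgk : g⁻¹ * k * g ∈ C := ⟨by
    have := Subgroup.Normal.conj_mem (inferInstance : N.Normal) k hkC.1 g⁻¹
    rwa [inv_inv] at this, (show g⁻¹ * k * g ∈ B from mul_mem (mul_mem (inv_mem hgB) hkC.2) hgB)⟩
  have hgko : orderOf (g⁻¹ * k * g) = 2 ^ n - 1 := by
    rw [← hko]
    have := orderOf_injective (MulAut.conj g⁻¹).toMonoidHom (MulAut.conj g⁻¹).injective k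
    rwa [MulEquiv.coe_toMonoidHom, MulAut.conj_apply, inv_inv] at this
  haveI : Group.IsNilpotent (S.subgroupOf C) := (hS2.comap_subtype (K := C)).isNilpotent
  obtain ⟨⟨x, hx⟩, hxe⟩ := Cfsg.Agent.S0001.result (S.subgroupOf C)
    (by rw [hScard, hidx, hj]; exact Nat.Coprime.pow_left j (Nat.coprime_two_left.2 hB.pred_odd))
    (Or.inl inferInstance) _ _ (hcompl k hkC hko) (hcompl _ hgk hgko)
  have hxk : x * k * x⁻¹ ∈ Subgroup.zpowers (g⁻¹ * k * g) := by
    have : (⟨x, hx⟩ : C) * ⟨k, hkC⟩ * (⟨x, hx⟩ : C)⁻¹ ∈ (Subgroup.zpowers (g⁻¹ * k * g)).subgroupOf C := by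
      rw [← hxe]
      exact ⟨⟨k, hkC⟩, Subgroup.mem_zpowers k, rfl⟩
    exact this
  set g' := g * x
  have hg'B : g' ∈ B := mul_mem hgB hx.2
  have hg'N : g' ∉ N := fun h => hgN (by
    have := mul_mem h (inv_mem hx.1)
    rwa [mul_inv_cancel_right] at this)
  have hg'k : g' ∈ Subgroup.normalizer ((Subgroup.zpowers k : Subgroup Q) : Set Q) := by
    refine mem_normalizer_zpowers ?_
    obtain ⟨i, hi⟩ := Subgroup.mem_zpowers_iff.1 hxk
    refine Subgroup.mem_zpowers_iff.2 ⟨i, ?_⟩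
    rw [show g' * k * g'⁻¹ = g * (x * k * x⁻¹) * g⁻¹ by simp only [g']; group, ← hi, ← conj_zpow]
    group
  obtain ⟨a, o, ho, hao⟩ := Nat.exists_eq_pow_mul_and_not_dvd (orderOf_pos g').ne' 2 (by norm_num)
  set e := g' ^ o with he
  have hoo : Odd o := Nat.not_even_iff_odd.1 fun h => ho (even_iff_two_dvd.1 h)
  have heB : e ∈ B := pow_mem hg'B o
  have hek : e ∈ Subgroup.normalizer ((Subgroup.zpowers k : Subgroup Q) : Set Q) := pow_mem hg'k o
  have heN : e ∉ N := fun h => hg'N ((QuotientGroup.eq_one_iff g').1 (orderOf_eq_one_iff.1 (by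
    have h1 : orderOf (π g') ∣ o := orderOf_dvd_of_pow_eq_one (by
      rw [← map_pow, ← he]; exact (QuotientGroup.eq_one_iff e).2 h)
    have h2 := Subgroup.orderOf_dvd_natCard (B.map π) ⟨g', hg'B, rfl⟩
    by_contra hne
    obtain ⟨r, hr, hrd⟩ := Nat.exists_prime_and_dvd hne
    exact ho ((himg r hr (hrd.trans h2)) ▸ hrd.trans h1))))
  have hea : e ^ 2 ^ a = 1 := by rw [he, ← pow_mul, mul_comm, ← hao, pow_orderOf_eq_one]
  have hex : ∃ i, e ^ 2 ^ i ∈ N := ⟨a, hea ▸ one_mem N⟩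
  set i := Nat.find hex with hidef
  have hi0 : i ≠ 0 := fun h => heN (by
    have := Nat.find_spec hex
    rw [← hidef, h, pow_zero, pow_one] at this
    exact this)
  set t := e ^ 2 ^ (i - 1) with ht
  have htN : t ∉ N := Nat.find_min hex (show i - 1 < i by omega)
  have htt : t * t ∈ N := by
    rw [ht, ← pow_add, show 2 ^ (i - 1) + 2 ^ (i - 1) = 2 ^ i by
      rw [← two_mul, ← pow_succ', show i - 1 + 1 = i by omega]]
    exact Nat.find_spec hex
  have htB : t ∈ B := pow_mem heB _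
  have htk : t ∈ Subgroup.normalizer ((Subgroup.zpowers k : Subgroup Q) : Set Q) := pow_mem hek _
  have httS : t * t ∈ S := by
    have hmem : (⟨t * t, htt, mul_mem htB htB⟩ : C) ∈ S.subgroupOf C := by
      rw [← QuotientGroup.eq_one_iff, ← orderOf_eq_one_iff]
      have h1 : orderOf (QuotientGroup.mk (⟨t * t, htt, mul_mem htB htB⟩ : C) : C ⧸ S.subgroupOf C) ∣ 2 ^ a :=
        (orderOf_map_dvd (QuotientGroup.mk' (S.subgroupOf C)) _).trans (orderOf_dvd_of_pow_eq_one (Subtype.ext (by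
          show (t * t) ^ 2 ^ a = 1
          rw [← pow_two, ← pow_mul, ht, ← pow_mul, show 2 ^ (i - 1) * (2 * 2 ^ a) = 2 ^ a * (2 * 2 ^ (i - 1)) by ring,
            pow_mul, hea, one_pow])))
      have h2 : orderOf (QuotientGroup.mk (⟨t * t, htt, mul_mem htB htB⟩ : C) : C ⧸ S.subgroupOf C) ∣ 2 ^ n - 1 := by
        rw [← hidx]
        exact orderOf_dvd_natCard _
      exact Nat.eq_one_of_dvd_coprimes (Nat.Coprime.pow_left a (Nat.coprime_two_left.2 hB.pred_odd)) h1 h2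
    exact hmem
  have htt1 : t * t = 1 := by
    refine hC.fpf_mem hkodd hk1 hS2 httS ?_
    have h1 : t * t * k * (t * t)⁻¹ * k⁻¹ ∈ Subgroup.zpowers k := mul_mem
      ((Subgroup.mem_normalizer_iff.1 (mul_mem htk htk) k).1 (Subgroup.mem_zpowers k)) (inv_mem (Subgroup.mem_zpowers k))
    have h2 : t * t * k * (t * t)⁻¹ * k⁻¹ ∈ S := by
      rw [show t * t * k * (t * t)⁻¹ * k⁻¹ = t * t * (k * (t * t)⁻¹ * k⁻¹) by group]
      exact mul_mem httS ((Subgroup.mem_normalizer_iff.1 hkC.2 _).1 (inv_mem httS))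
    exact (mul_inv_eq_iff_eq_mul.1 (mul_inv_eq_one.1 (Subgroup.mem_bot.1 (hdis.le_bot ⟨h2, h1⟩)))).symm
  have hto : orderOf t = 2 := orderOf_two_iff.2 ⟨htt1, fun h => htN (h ▸ one_mem N)⟩
  have hinv : t * k * t⁻¹ = k⁻¹ := hC.inverts hto (A := Subgroup.zpowers k) (by rwa [Nat.card_zpowers])
    (fun y hy => (Subgroup.mem_normalizer_iff.1 htk y).1 hy) k (Subgroup.mem_zpowers k)
  have hw : (w₀ : Q) * k * (w₀ : Q)⁻¹ = k⁻¹ := congrArg Subtype.val hw₀
  have hwt : Commute ((w₀ : Q) * t) k := mul_inv_eq_iff_eq_mul.1 (by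
    rw [show (w₀ : Q) * t * k * ((w₀ : Q) * t)⁻¹ = w₀ * (t * k * t⁻¹) * (w₀ : Q)⁻¹ by group, hinv,
      show (w₀ : Q) * k⁻¹ * (w₀ : Q)⁻¹ = ((w₀ : Q) * k * (w₀ : Q)⁻¹)⁻¹ by group, hw, inv_inv])
  have hodd := hC.odd_of_commute hkodd hk1 hwt
  refine htN ((QuotientGroup.eq_one_iff t).1 (orderOf_eq_one_iff.1 ?_))
  have h1 : orderOf (π t) ∣ orderOf ((w₀ : Q) * t) := by
    have := orderOf_map_dvd π ((w₀ : Q) * t)
    rwa [map_mul, show π (w₀ : Q) = 1 from (QuotientGroup.eq_one_iff _).2 w₀.2, one_mul] at this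
  have h2 : orderOf (π t) ∣ 2 := hto ▸ orderOf_map_dvd π t
  exact Nat.eq_one_of_dvd_coprimes (Nat.coprime_two_left.2 hodd) h2 h1

end Cfsg.Agent.Solv.CITGroups
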