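import Cfsg.Agent.Lib.Solv.CIT.CNLift
import Cfsg.Agent.Lib.Solv.CIT.Outer
import Cfsg.Agent.Lib.Solv.CIT.Bor
import Cfsg.Agent.Lib.OddLocal.CNFrob
import Cfsg.Agent.Lib.Solv.CNOddTheorem
import Cfsg.Agent.Lib.Lie.SupSolvable
import Cfsg.Agent.S0225

/-!
Groups whose maximal solvable subgroups have fixed-point-free TI kernels.
-/

set_option autoImplicit false
set_option linter.style.haveILetI false
set_option linter.unusedSectionVars false

namespace Cfsg.Agent.Solv.MaxSolvTI

open Cfsg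
open Cfsg.Agent.Solv.CITGroups
open Cfsg.Agent.Perm.Fpf
open scoped Pointwise

universe u

variable {G : Type u} [Group G] [Finite G]

/-- A maximal solvable subgroup. -/
def MaxSolv (M : Subgroup G) : Prop :=
  Group.IsSolvable M ∧ ∀ M' : Subgroup G, M < M' → ¬ Group.IsSolvable M'

theorem exists_max {Y : Subgroup G} (hY : Group.IsSolvable Y) : ∃ M, MaxSolv M ∧ Y ≤ M := by
  obtain ⟨M, hYM, hM⟩ := Finite.exists_le_maximal (p := fun K : Subgroup G => Group.IsSolvable K) hY
  exact ⟨M, ⟨hM.1, fun M' h h' => absurd (hM.2 h' h.le) (not_le_of_gt h)⟩, hYM⟩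

/-- An element outside a subgroup has a part of prime power order outside it. -/
theorem exists_primePow_notMem {H : Subgroup G} {z : G} (hz : z ∉ H) :
    ∃ (i : ℤ) (q k : ℕ), q.Prime ∧ orderOf (z ^ i) = q ^ k ∧ z ^ i ∉ H := by
  suffices h : ∀ n, 0 < n → ∀ z : G, orderOf z = n → z ∉ H →
      ∃ (i : ℤ) (q k : ℕ), q.Prime ∧ orderOf (z ^ i) = q ^ k ∧ z ^ i ∉ H from h _ (orderOf_pos z) z rfl hz
  intro n
  induction n using Nat.recOnPosPrimePosCoprime with
  | prime_pow p k hp hk =>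
    intro _ z hn hzH
    exact ⟨1, p, k, hp, by rw [zpow_one, hn], by rwa [zpow_one]⟩
  | zero => intro h; omega
  | one =>
    intro _ z hn hzH
    rw [orderOf_eq_one_iff] at hn
    exact absurd (hn ▸ one_mem H) hzH
  | coprime a b ha hb hab iha ihb =>
    intro _ z hn hzH
    have hb' := Nat.gcd_eq_gcd_ab a b
    rw [hab.gcd_eq_one, Nat.cast_one] at hb'
    have h1 : orderOf (z ^ a) = b := by
      rw [orderOf_pow' _ (by omega), hn, Nat.gcd_eq_right (dvd_mul_right a b), Nat.mul_div_cancel_left b (by omega)]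
    have h2 : orderOf (z ^ b) = a := by
      rw [orderOf_pow' _ (by omega), hn, Nat.gcd_eq_right (dvd_mul_left b a), Nat.mul_div_cancel a (by omega)]
    by_cases hA : z ^ a ∈ H
    · by_cases hB : z ^ b ∈ H
      · refine absurd ?_ hzH
        rw [← zpow_one z, hb', zpow_add, zpow_mul, zpow_mul, zpow_natCast, zpow_natCast]
        exact mul_mem (zpow_mem hA _) (zpow_mem hB _)
      · obtain ⟨i, q, k, hq, hi, hiH⟩ := iha (by omega) _ h2 hB
        exact ⟨b * i, q, k, hq, by rwa [zpow_mul, zpow_natCast], by rwa [zpow_mul, zpow_natCast]⟩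
    · obtain ⟨i, q, k, hq, hi, hiH⟩ := ihb (by omega) _ h1 hA
      exact ⟨a * i, q, k, hq, by rwa [zpow_mul, zpow_natCast], by rwa [zpow_mul, zpow_natCast]⟩

theorem cent_conj_nilpotent {x : G} (g : G) (h : Group.IsNilpotent (Subgroup.centralizer ({x} : Set G))) :
    Group.IsNilpotent (Subgroup.centralizer ({g * x * g⁻¹} : Set G)) := by
  have e : Subgroup.centralizer ({g * x * g⁻¹} : Set G) =
      (Subgroup.centralizer ({x} : Set G)).map (MulAut.conj g).toMonoidHom := by
    ext y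
    rw [Subgroup.mem_centralizer_singleton_iff, Subgroup.mem_map_equiv, Subgroup.mem_centralizer_singleton_iff,
      MulAut.conj_symm_apply]
    constructor
    · intro hy
      calc g⁻¹ * y * g * x = g⁻¹ * (y * (g * x * g⁻¹)) * g := by group
        _ = g⁻¹ * (g * x * g⁻¹ * y) * g := by rw [hy]
        _ = x * (g⁻¹ * y * g) := by group
    · intro hy
      calc y * (g * x * g⁻¹) = g * (g⁻¹ * y * g * x) * g⁻¹ := by group
        _ = g * (x * (g⁻¹ * y * g)) * g⁻¹ := by rw [hy]
        _ = g * x * g⁻¹ * y := by group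
  rw [e]
  haveI := h
  exact Group.nilpotent_of_mulEquiv (Subgroup.equivMapOfInjective _ _ (MulAut.conj g).injective)

theorem nilpotent_commute {H : Subgroup G} (hH : Group.IsNilpotent H) {x y : G} (hx : x ∈ H) (hy : y ∈ H)
    (h : (orderOf x).Coprime (orderOf y)) : Commute x y := by
  haveI := hH
  exact congrArg Subtype.val (TypePBasic.commute_of_coprime (F := H) (x := ⟨x, hx⟩) (y := ⟨y, hy⟩) (by
    rwa [Subgroup.orderOf_mk, Subgroup.orderOf_mk]))

/-- The hypothesis. -/
def Hyp (F : Subgroup G → Subgroup G) : Prop :=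
  ∀ M : Subgroup G, MaxSolv M →
    F M ≤ M ∧ M ≤ Subgroup.normalizer (F M : Set G) ∧
    (∀ a ∈ M, a ∉ F M → ∀ x ∈ F M, x * a = a * x → x = 1) ∧
    (∀ g : G, g ∉ M → F M ⊓ (MulAut.conj g • F M) = ⊥) ∧
    (F M ≠ ⊥ ∨ IsMulCommutative M)

/-- Some Sylow subgroup lies in a kernel. -/
def FType (F : Subgroup G → Subgroup G) (p : ℕ) : Prop :=
  ∃ (P : Sylow p G) (M : Subgroup G), MaxSolv M ∧ (P : Subgroup G) ≤ F M

variable {F : Subgroup G → Subgroup G} (hF : Hyp F) (hns : ¬ Group.IsSolvable G) {M : Subgroup G} (hM : MaxSolv M)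
include hF hM

theorem normalizer_le (h : F M ≠ ⊥) : Subgroup.normalizer (F M : Set G) ≤ M := fun g hg => by
  by_contra hgM
  have e := (hF M hM).2.2.2.1 g hgM
  rw [Solv.conj_smul_of_mem_normalizer hg, inf_idem] at e
  exact h e

theorem eq_one_of_commute {a x : G} (ha : a ∈ M) (haF : a ∉ F M) (hx : x ∈ F M) (h : Commute x a) : x = 1 :=
  (hF M hM).2.2.1 a ha haF x hx h.eq

theorem cent_le {x : G} (hx : x ∈ F M) (hx1 : x ≠ 1) : Subgroup.centralizer ({x} : Set G) ≤ F M := by
  intro g hg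
  have hgx : g * x = x * g := Subgroup.mem_centralizer_singleton_iff.1 hg
  have hgM : g ∈ M := by
    by_contra hgM
    refine hx1 (Subgroup.mem_bot.1 ((hF M hM).2.2.2.1 g hgM ▸ ⟨hx, ?_⟩))
    exact ⟨x, hx, mul_inv_eq_iff_eq_mul.2 hgx⟩
  by_contra hgF
  exact hx1 (eq_one_of_commute hF hM hgM hgF hx (show x * g = g * x from hgx.symm))

/-- A fixed-point-free pair. -/
theorem hasFpf_of_inf {Y : Subgroup G} (hY : Y ≠ ⊥) (hYM : Y ≤ M) (h : F M ≠ ⊥) (hinf : ∀ y ∈ Y, y ∈ F M → y = 1) :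
    HasFpf Y := by
  haveI : Nontrivial (F M) := (Subgroup.nontrivial_iff_ne_bot _).2 h
  haveI : Nontrivial Y := (Subgroup.nontrivial_iff_ne_bot _).2 hY
  refine hasFpf_of_action ((F M).normalizerMonoidHom.comp (Subgroup.inclusion (hYM.trans (hF M hM).2.1)))
    fun g hg x hx => Subtype.ext ?_
  have e : (g : G) * x * (g : G)⁻¹ = x := congrArg Subtype.val hx
  exact eq_one_of_commute hF hM (hYM g.2) (fun hgF => hg (Subtype.ext (hinf g g.2 hgF))) x.2
    (show (x : G) * g = g * x from (mul_inv_eq_iff_eq_mul.1 e).symm)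

include hns

/-- The kernel is proper. -/
theorem exists_notMem (h : F M ≠ ⊥) : ∃ a ∈ M, a ∉ F M := by
  by_contra hno
  push Not at hno
  have hMF : F M = M := le_antisymm (hF M hM).1 hno
  have hM1 : M ≠ ⊥ := hMF ▸ h
  have htop : M ≠ ⊤ := fun e => hns (by
    subst e
    haveI := hM.1
    exact Group.isSolvable_of_isSolvable_injective (f := (Subgroup.topEquiv (G := G)).symm.toMonoidHom)
      (MulEquiv.injective _))
  have hfc : Cfsg.IsFrobeniusComplement M := ⟨hM1, htop, fun g hg => by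
    have := (hF M hM).2.2.2.1 g hg
    rwa [hMF] at this⟩
  obtain ⟨N, -, hNn, hNc⟩ := Solv.frobenius_theorem hfc
  haveI := hNn
  obtain ⟨r, hr, hrd⟩ := Nat.exists_prime_and_dvd (n := Nat.card M) fun e => hM1 (Subgroup.card_eq_one.1 e)
  haveI := Fact.mk hr
  obtain ⟨x, hx⟩ := exists_prime_orderOf_dvd_card' r hrd
  rw [← Subgroup.orderOf_coe] at hx
  haveI hNnil : Group.IsNilpotent N := Solv.fpf_nilpotent N (x : G) hr (hx ▸ pow_orderOf_eq_one _)
    (by rw [Subgroup.normalizer_eq_top]; trivial)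
    (Solv.frob_fpf hfc hNc.disjoint.eq_bot x.2 fun e => hr.ne_one (by rw [← hx, e, orderOf_one]))
  haveI := hM.1
  haveI : Group.IsSolvable (G ⧸ N) := Group.isSolvable_of_isSolvable_injective
    (f := (hNc.symm.QuotientMulEquiv).toMonoidHom) (MulEquiv.injective _)
  exact hns (Group.isSolvable_of_ker_le_range N.subtype (QuotientGroup.mk' N)
    (by rw [QuotientGroup.ker_mk', Subgroup.range_subtype]))

/-- The kernel is nilpotent. -/
theorem nilpotent : Group.IsNilpotent (F M) := by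
  by_cases h : F M = ⊥
  · rw [h]; infer_instance
  obtain ⟨a, ha, haF⟩ := exists_notMem hF hns hM h
  have ha1 : a ≠ 1 := fun e => haF (e ▸ one_mem _)
  obtain ⟨r, hr, hrd⟩ := Nat.exists_prime_and_dvd (n := orderOf a) fun e => ha1 (orderOf_eq_one_iff.1 e)
  have hb := orderOf_pow_orderOf_div (orderOf_pos a).ne' hrd
  set b := a ^ (orderOf a / r) with hbdef
  have hbF : b ∉ F M := fun hbF => by
    have := eq_one_of_commute hF hM ha haF hbF (Commute.pow_self a _)
    rw [this, orderOf_one] at hb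
    exact hr.ne_one hb.symm
  refine Solv.fpf_nilpotent (F M) b hr (hb ▸ pow_orderOf_eq_one b) ((hF M hM).2.1 (pow_mem ha _)) ?_
  rw [Subgroup.eq_bot_iff_forall]
  exact fun x hx => eq_one_of_commute hF hM (pow_mem ha _) hbF hx.1
    (Subgroup.mem_centralizer_singleton_iff.1 hx.2)

theorem nilC {x : G} (hx : x ∈ F M) (hx1 : x ≠ 1) : Group.IsNilpotent (Subgroup.centralizer ({x} : Set G)) :=
  Solv.isNilpotent_of_le (cent_le hF hM hx hx1) (nilpotent hF hns hM)

omit hns in
theorem sylow_le {p : ℕ} [Fact p.Prime] {x : G} (hx : x ∈ F M) (hx1 : x ≠ 1) {P : Sylow p G}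
    (hxP : x ∈ (P : Subgroup G)) : (P : Subgroup G) ≤ F M := by
  haveI : Nontrivial (P : Subgroup G) := ⟨⟨⟨x, hxP⟩, 1, fun e => hx1 (congrArg Subtype.val e)⟩⟩
  haveI := P.isPGroup'.center_nontrivial
  obtain ⟨z, hz⟩ := exists_ne (1 : Subgroup.center (P : Subgroup G))
  have hz1 : ((z : (P : Subgroup G)) : G) ≠ 1 := fun e => hz (Subtype.ext (Subtype.ext e))
  have hzc : ∀ y ∈ (P : Subgroup G), Commute y ((z : (P : Subgroup G)) : G) := fun y hy =>
    congrArg Subtype.val (Subgroup.mem_center_iff.1 z.2 ⟨y, hy⟩)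
  have hzF : ((z : (P : Subgroup G)) : G) ∈ F M :=
    cent_le hF hM hx hx1 (mem_cent_singleton (hzc x hxP).symm)
  exact fun y hy => cent_le hF hM hzF hz1 (mem_cent_singleton (hzc y hy))

omit hM

theorem ftype_of_mem {p : ℕ} [Fact p.Prime] {M : Subgroup G} (hM : MaxSolv M) {x : G} (hx : x ∈ F M) (hx1 : x ≠ 1)
    {k : ℕ} (hxo : orderOf x = p ^ k) : FType F p := by
  obtain ⟨P, hP⟩ := (IsPGroup.of_card (n := k) (by rw [Nat.card_zpowers, hxo]) :
    IsPGroup p (Subgroup.zpowers x)).exists_le_sylow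
  exact ⟨P, M, hM, sylow_le hF hM hx hx1 (hP (Subgroup.mem_zpowers _))⟩

/-- Elements of a prime of kernel type have nilpotent centralizers. -/
theorem ftype_nilC {p : ℕ} [Fact p.Prime] (h : FType F p) {x : G} (hx1 : x ≠ 1) {k : ℕ} (hxo : orderOf x = p ^ k) :
    Group.IsNilpotent (Subgroup.centralizer ({x} : Set G)) := by
  obtain ⟨P, M, hM, hPM⟩ := h
  obtain ⟨P', hP'⟩ := (IsPGroup.of_card (n := k) (by rw [Nat.card_zpowers, hxo]) :
    IsPGroup p (Subgroup.zpowers x)).exists_le_sylow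
  obtain ⟨g, hg⟩ := MulAction.exists_smul_eq G P P'
  have hxP' : x ∈ (P' : Subgroup G) := hP' (Subgroup.mem_zpowers _)
  rw [← hg] at hxP'
  obtain ⟨y, hy, hyx⟩ := hxP'
  have hyx' : g * y * g⁻¹ = x := hyx
  rw [← hyx']
  exact cent_conj_nilpotent g (nilC hF hns hM (hPM hy) fun e => hx1 (by rw [← hyx', e]; group))

/-- A group of a prime not of kernel type lies outside the kernels. -/
theorem not_mem {p : ℕ} [Fact p.Prime] (h : ¬ FType F p) {M : Subgroup G} (hM : MaxSolv M) {Q : Subgroup G}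
    (hQ : IsPGroup p Q) {y : G} (hy : y ∈ Q) (hyF : y ∈ F M) : y = 1 := by
  by_contra hy1
  obtain ⟨k, hk⟩ := IsPGroup.iff_orderOf.1 hQ ⟨y, hy⟩
  rw [Subgroup.orderOf_mk] at hk
  exact h (ftype_of_mem hF hns hM hyF hy1 hk)

theorem sylow_abelian {p : ℕ} [hp : Fact p.Prime] (hp2 : p ≠ 2) (h : ¬ FType F p) (P : Sylow p G) :
    IsMulCommutative (P : Subgroup G) := by
  haveI := P.isPGroup'.isNilpotent
  obtain ⟨M, hM, hPM⟩ := exists_max (Y := (P : Subgroup G)) inferInstance
  rcases (hF M hM).2.2.2.2 with hne | hc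
  · by_cases hP1 : (P : Subgroup G) = ⊥
    · rw [hP1]; infer_instance
    haveI : IsCyclic (P : Subgroup G) :=
      (hasFpf_of_inf hF hM hP1 hPM hne fun y hy hyF => not_mem hF hns h hM P.isPGroup' hy hyF).elim fun ρ hρ => by
        have := hρ.isCyclic_of_odd hp2 ⊤ (P.isPGroup'.of_equiv (Subgroup.topEquiv).symm)
        exact isCyclic_of_surjective (Subgroup.topEquiv (G := (P : Subgroup G))).toMonoidHom (MulEquiv.surjective _)
    exact IsCyclic.isMulCommutative
  · exact ⟨⟨fun a b => Subtype.ext (congrArg Subtype.val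
      (hc.is_comm.comm (⟨a, hPM a.2⟩ : M) ⟨b, hPM b.2⟩) : _)⟩⟩

/-- A nontrivial action descends to a smaller prime which is not of kernel type. -/
theorem act {p q : ℕ} [hp : Fact p.Prime] [hq : Fact q.Prime] (hp2 : p ≠ 2) (hpq : p ≠ q) (h : ¬ FType F p)
    {Q : Subgroup G} (hQ : IsPGroup p Q) [IsMulCommutative Q] {z : G} {k : ℕ} (hzo : orderOf z = q ^ k)
    (hzN : z ∈ Subgroup.normalizer (Q : Set G)) (hzC : z ∉ Subgroup.centralizer (Q : Set G)) :
    q < p ∧ ¬ FType F q := by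
  classical
  set Y := Q ⊔ Subgroup.zpowers z with hY
  have hYN : Y ≤ Subgroup.normalizer (Q : Set G) := sup_le Subgroup.le_normalizer (Subgroup.zpowers_le.2 hzN)
  have hzY : z ∈ Y := (le_sup_right : _ ≤ Y) (Subgroup.mem_zpowers z)
  have hQY : Q ≤ Y := le_sup_left
  haveI := hQ.isNilpotent
  have hYs : Group.IsSolvable Y := Lie.isSolvable_sup_of_le_normalizer inferInstance inferInstance
    (Subgroup.zpowers_le.2 hzN)
  obtain ⟨M, hM, hYM⟩ := exists_max hYs
  obtain ⟨w₀, hw₀, hzw₀⟩ : ∃ w ∈ Q, ¬ Commute w z := by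
    by_contra hno
    push Not at hno
    exact hzC (Subgroup.mem_centralizer_iff.2 fun w hw => (hno w hw).eq)
  rcases (hF M hM).2.2.2.2 with hne | hc
  swap
  · exact absurd (congrArg Subtype.val (hc.is_comm.comm (⟨w₀, hYM (hQY hw₀)⟩ : M) ⟨z, hYM hzY⟩)) hzw₀
  have hw₀1 : w₀ ≠ 1 := fun e => hzw₀ (e ▸ Commute.one_left z)
  have hw₀F : w₀ ∉ F M := fun e => hw₀1 (not_mem hF hns h hM hQ hw₀ e)
  have hinf : ∀ y ∈ Y, y ∈ F M → y = 1 := by
    intro y hy hyF
    refine eq_one_of_commute hF hM (hYM (hQY hw₀)) hw₀F hyF ?_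
    have h1 : w₀ * y * w₀⁻¹ * y⁻¹ ∈ F M :=
      mul_mem ((Subgroup.mem_normalizer_iff.1 ((hF M hM).2.1 (hYM (hQY hw₀))) y).1 hyF) (inv_mem hyF)
    have h2 : w₀ * y * w₀⁻¹ * y⁻¹ ∈ Q := by
      rw [show w₀ * y * w₀⁻¹ * y⁻¹ = w₀ * (y * w₀⁻¹ * y⁻¹) by group]
      exact mul_mem hw₀ ((Subgroup.mem_normalizer_iff.1 (hYN hy) _).1 (inv_mem hw₀))
    exact (mul_inv_eq_iff_eq_mul.1 (mul_inv_eq_one.1 (not_mem hF hns h hM hQ h2 h1))).symm
  have hYfpf := hasFpf_of_inf hF hM
    (fun e => hw₀1 (Subgroup.mem_bot.1 (e ▸ hQY hw₀))) hYM hne hinf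
  -- the first power of `z` centralizing `Q`
  have hex : ∃ i, z ^ q ^ i ∈ Subgroup.centralizer (Q : Set G) :=
    ⟨k, by rw [← hzo, pow_orderOf_eq_one]; exact one_mem _⟩
  obtain ⟨i, hi⟩ : ∃ i, Nat.find hex = i + 1 := by
    refine ⟨Nat.find hex - 1, ?_⟩
    have : Nat.find hex ≠ 0 := fun e => hzC (by have := Nat.find_spec hex; rwa [e, pow_zero, pow_one] at this)
    omega
  set b := z ^ q ^ i with hb
  have hbY : b ∈ Y := pow_mem hzY _
  have hbN : b ∈ Subgroup.normalizer (Q : Set G) := hYN hbY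
  have hbC : b ∉ Subgroup.centralizer (Q : Set G) := Nat.find_min hex (by omega)
  have hbq : b ^ q ∈ Subgroup.centralizer (Q : Set G) := by
    have := Nat.find_spec hex
    rw [hi] at this
    rwa [hb, ← pow_mul, ← pow_succ]
  have hbo : ∃ j, orderOf b = q ^ j := by
    obtain ⟨j, -, hj⟩ := (Nat.dvd_prime_pow hq.out).1 (hzo ▸ orderOf_pow_dvd (q ^ i) (x := z))
    exact ⟨j, hj⟩
  have hQc : ∀ a ∈ Q, ∀ c ∈ Q, Commute a c := fun a ha c hc =>
    congrArg Subtype.val (mul_comm' (⟨a, ha⟩ : Q) ⟨c, hc⟩)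
  have hconj : ∀ v ∈ Q, b * v * b⁻¹ ∈ Q := fun v hv => (Subgroup.mem_normalizer_iff.1 hbN v).1 hv
  -- `b` moves an element of order `p`
  obtain ⟨a, haQ, hao, hab⟩ : ∃ a ∈ Q, orderOf a = p ∧ ¬ Commute b a := by
    by_contra hno
    push Not at hno
    refine hbC (Subgroup.mem_centralizer_iff.2 fun w hw => ?_)
    set c := b * w * b⁻¹ * w⁻¹ with hc
    have hcQ : c ∈ Q := mul_mem (hconj w hw) (inv_mem hw)
    suffices hc1 : c = 1 from (mul_inv_eq_iff_eq_mul.1 (mul_inv_eq_one.1 hc1)).symm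
    by_contra hc1
    obtain ⟨j, hj⟩ := IsPGroup.iff_orderOf.1 hQ ⟨c, hcQ⟩
    rw [Subgroup.orderOf_mk] at hj
    have hpd : p ∣ orderOf c := hj ▸ dvd_pow_self p fun e => hc1 (orderOf_eq_one_iff.1 (by rw [hj, e, pow_zero]))
    have hmo := orderOf_pow_orderOf_div (orderOf_pos c).ne' hpd
    set m := orderOf c / p
    have hbd : Commute b (c ^ m) := hno _ (pow_mem hcQ m) hmo
    have hd : b * w ^ m * b⁻¹ = c ^ m * w ^ m := by
      rw [← (hQc c hcQ w hw).mul_pow, hc, inv_mul_cancel_right, conj_pow]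
    have hiter : ∀ n : ℕ, b ^ n * w ^ m * (b ^ n)⁻¹ = (c ^ m) ^ n * w ^ m := by
      intro n
      induction n with
      | zero => simp
      | succ n ih =>
        calc b ^ (n + 1) * w ^ m * (b ^ (n + 1))⁻¹ = b * (b ^ n * w ^ m * (b ^ n)⁻¹) * b⁻¹ := by
              rw [pow_succ']; group
          _ = (b * (c ^ m) ^ n) * w ^ m * b⁻¹ := by rw [ih]; group
          _ = ((c ^ m) ^ n * b) * w ^ m * b⁻¹ := by rw [(hbd.pow_right n).eq]
          _ = (c ^ m) ^ n * (b * w ^ m * b⁻¹) := by group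
          _ = _ := by rw [hd, ← mul_assoc, ← pow_succ]
    have h1 := hiter q
    rw [show b ^ q * w ^ m * (b ^ q)⁻¹ = w ^ m by
      rw [← Subgroup.mem_centralizer_iff.1 hbq _ (pow_mem hw m), mul_inv_cancel_right]] at h1
    have h2 : orderOf (c ^ m) ∣ q := orderOf_dvd_of_pow_eq_one (mul_eq_right.1 h1.symm)
    rw [hmo, Nat.prime_dvd_prime_iff_eq hp.out hq.out] at h2
    exact hpq h2
  have hba : b * a * b⁻¹ ∈ Subgroup.zpowers a := by
    refine hYfpf.elim fun ρ hρ => ?_
    have ha1 : (⟨a, hQY haQ⟩ : Y) ≠ 1 := fun e => hp.out.ne_one (by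
      rw [← hao, show a = 1 from congrArg Subtype.val e, orderOf_one])
    obtain ⟨j, hj⟩ := hρ.commute_mem_zpowers (p := p) (x := (⟨b * a * b⁻¹, hQY (hconj a haQ)⟩ : Y)) (y := ⟨a, hQY haQ⟩)
      (Subtype.ext (by push_cast; rw [conj_pow, ← hao, pow_orderOf_eq_one, mul_one, mul_inv_cancel]))
      (Subtype.ext (by push_cast; rw [← hao, pow_orderOf_eq_one])) ha1
      (Subtype.ext (hQc _ (hconj a haQ) _ haQ).eq)
    exact ⟨j, congrArg Subtype.val hj⟩
  obtain ⟨r, hr⟩ : ∃ r : ℕ, a ^ r = b * a * b⁻¹ := by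
    obtain ⟨r, hr⟩ := ((isOfFinOrder_of_finite a).mem_zpowers_iff_mem_range_orderOf).1 hba |> Finset.mem_image.1
    exact ⟨r, hr.2⟩
  have hrpow : ∀ n : ℕ, a ^ r ^ n = b ^ n * a * (b ^ n)⁻¹ := by
    intro n
    induction n with
    | zero => simp
    | succ n ih =>
      rw [pow_succ, mul_comm, pow_mul, hr, conj_pow, ih, pow_succ']
      group
  refine ⟨?_, fun hqF => hbC (Subgroup.mem_centralizer_iff.2 fun w hw => ?_)⟩
  · have hrq : ((r : ZMod p)) ^ q = 1 := by
      have h1 := hrpow q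
      rw [show b ^ q * a * (b ^ q)⁻¹ = a ^ 1 by
        rw [← Subgroup.mem_centralizer_iff.1 hbq _ haQ, mul_inv_cancel_right, pow_one], pow_eq_pow_iff_modEq, hao,
        ← ZMod.natCast_eq_natCast_iff] at h1
      simpa using h1
    have hr1 : (r : ZMod p) ≠ 1 := fun e => by
      rw [← Nat.cast_one, ZMod.natCast_eq_natCast_iff, ← hao, ← pow_eq_pow_iff_modEq, hr, pow_one] at e
      exact hab (mul_inv_eq_iff_eq_mul.1 e)
    have hr0 : (r : ZMod p) ≠ 0 := fun e => by rw [e, zero_pow hq.out.ne_zero] at hrq; exact zero_ne_one hrq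
    have h1 := ZMod.orderOf_dvd_card_sub_one hr0
    rw [orderOf_eq_prime hrq hr1] at h1
    have h2 := hp.out.two_le
    have := Nat.le_of_dvd (by omega) h1
    omega
  · by_cases hbq1 : b ^ q = 1
    · exfalso
      refine hYfpf.elim fun ρ hρ => hab ?_
      have hbo' : orderOf b = q := orderOf_eq_prime hbq1 fun e => hbC (e ▸ one_mem _)
      have := OddLocal.CN.commute_of_normalizes hρ (a := (⟨a, hQY haQ⟩ : Y)) (b := ⟨b, hbY⟩) (r := p) (q := q)
        (by rw [Subgroup.orderOf_mk, hao]) (by rw [Subgroup.orderOf_mk, hbo']) (by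
          obtain ⟨j, hj⟩ := hba
          exact ⟨j, Subtype.ext (by push_cast; exact hj)⟩)
      exact congrArg Subtype.val this
    · obtain ⟨j, hj⟩ := hbo
      obtain ⟨j', -, hj'⟩ := (Nat.dvd_prime_pow hq.out).1 (hj ▸ orderOf_pow_dvd q (x := b))
      have hnil := ftype_nilC hF hns hqF hbq1 hj'
      obtain ⟨l, hl⟩ := IsPGroup.iff_orderOf.1 hQ ⟨w, hw⟩
      rw [Subgroup.orderOf_mk] at hl
      refine (nilpotent_commute hnil (mem_cent_singleton (Commute.self_pow b q)) (mem_cent_singleton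
        (Subgroup.mem_centralizer_iff.1 hbq w hw)) ?_).eq.symm
      rw [hj, hl]
      exact Nat.Coprime.pow _ _ ((Nat.coprime_primes hq.out hp.out).2 hpq.symm)

/-- All primes of a subgroup without normal complements are of kernel type. -/
theorem all_ftype (X : Subgroup G) (h2 : 2 ∣ Nat.card X → FType F 2)
    (hX : ∀ p : ℕ, p.Prime → p ∣ Nat.card X → ¬ Cfsg.HasNormalPComplement p X) :
    ∀ p : ℕ, p.Prime → p ∣ Nat.card X → FType F p := by
  intro p
  induction p using Nat.strong_induction_on with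
  | _ p ih =>
    intro hp hpX
    by_cases hp2 : p = 2
    · subst hp2; exact h2 hpX
    haveI := Fact.mk hp
    by_contra h
    obtain ⟨P₀⟩ : Nonempty (Sylow p X) := inferInstance
    set Q := (P₀ : Subgroup X).map X.subtype with hQdef
    have hQ : IsPGroup p Q := P₀.isPGroup'.map _
    obtain ⟨P, hP⟩ := hQ.exists_le_sylow
    haveI := sylow_abelian hF hns hp2 h P
    haveI : IsMulCommutative Q := ⟨⟨fun a b => Subtype.ext (congrArg Subtype.val
      (mul_comm' (⟨a, hP a.2⟩ : (P : Subgroup G)) ⟨b, hP b.2⟩) : _)⟩⟩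
    obtain ⟨z, hzN, hzC⟩ := SetLike.not_le_iff_exists.1 fun hle =>
      hX p hp hpX (Fusion.hnpc_of_normalizer_le_centralizer P₀ hle)
    obtain ⟨i, q, k, hq, hzo, hzi⟩ := exists_primePow_notMem hzC
    set w : X := z ^ i with hw
    have hwN : w ∈ Subgroup.normalizer ((P₀ : Subgroup X) : Set X) := zpow_mem hzN i
    have hwN' : (w : G) ∈ Subgroup.normalizer (Q : Set G) := Subgroup.le_normalizer_map X.subtype ⟨w, hwN, rfl⟩
    have hwC' : (w : G) ∉ Subgroup.centralizer (Q : Set G) := fun hc => hzi (Subgroup.mem_centralizer_iff.2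
      fun v hv => Subtype.ext (Subgroup.mem_centralizer_iff.1 hc v ⟨v, hv, rfl⟩))
    have hpq : p ≠ q := by
      rintro rfl
      have h1 : IsPGroup p (Subgroup.zpowers w) := IsPGroup.of_card (n := k) (by rw [Nat.card_zpowers, hzo])
      have h3 := P₀.is_maximal' (IsPGroup.to_sup_of_normal_left' P₀.isPGroup' h1 (Subgroup.zpowers_le.2 hwN))
        le_sup_left
      have hwP : w ∈ (P₀ : Subgroup X) := h3 ▸ (le_sup_right : Subgroup.zpowers w ≤ _) (Subgroup.mem_zpowers w)
      exact hwC' (Subgroup.mem_centralizer_iff.2 fun v hv =>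
        congrArg Subtype.val (mul_comm' (⟨v, hv⟩ : Q) ⟨w, w, hwP, rfl⟩))
    haveI := Fact.mk hq
    rw [← Subgroup.orderOf_coe] at hzo
    obtain ⟨hlt, hnF⟩ := act hF hns hp2 hpq h hQ hzo hwN' hwC'
    refine hnF (ih q hlt hq ?_)
    have hk : k ≠ 0 := fun e => hwC' (by
      rw [e, pow_zero, orderOf_eq_one_iff] at hzo
      rw [hzo]; exact one_mem _)
    exact (hzo ▸ dvd_pow_self q hk : q ∣ orderOf (w : G)).trans (Subgroup.orderOf_dvd_natCard X w.2)

/-- If every prime of a subgroup is of kernel type, it is a CN-group. -/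
theorem cn_of_ftype (X : Subgroup G) (h : ∀ p : ℕ, p.Prime → p ∣ Nat.card X → FType F p) : Cfsg.IsCNGroup X := by
  intro x hx1
  obtain ⟨r, hr, hrd⟩ := Nat.exists_prime_and_dvd (n := orderOf x) fun e => hx1 (orderOf_eq_one_iff.1 e)
  haveI := Fact.mk hr
  have hy := orderOf_pow_orderOf_div (orderOf_pos x).ne' hrd
  set y := x ^ (orderOf x / r)
  have hnil := ftype_nilC hF hns (h r hr (hrd.trans (orderOf_dvd_natCard x)))
    (x := (y : G)) (fun e => hr.ne_one (by
      rw [← hy, ← Subgroup.orderOf_coe, e, orderOf_one]))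
    (k := 1) (by rw [Subgroup.orderOf_coe, hy, pow_one])
  have hle : (Subgroup.centralizer ({x} : Set X)).map X.subtype ≤ Subgroup.centralizer ({(y : G)} : Set G) := by
    rintro _ ⟨c, hc, rfl⟩
    exact mem_cent_singleton (((show Commute c x from Subgroup.mem_centralizer_singleton_iff.1 hc).pow_right _).map X.subtype)
  haveI := Solv.isNilpotent_of_le hle hnil
  exact Group.nilpotent_of_mulEquiv (Subgroup.equivMapOfInjective _ _ X.subtype_injective).symm

/-- Subgroups of odd order are solvable. -/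
theorem odd_solvable : ∀ (c : ℕ) (X : Subgroup G), Nat.card X = c → Odd (Nat.card X) → Group.IsSolvable X := by
  intro c
  induction c using Nat.strong_induction_on with
  | _ c ih =>
    intro X hc hodd
    by_contra hXns
    have hX : ∀ p : ℕ, p.Prime → p ∣ Nat.card X → ¬ Cfsg.HasNormalPComplement p X := by
      rintro p hp hpX ⟨P, K, hK, hKc⟩
      haveI := Fact.mk hp
      haveI := hK
      have hlt : Nat.card K < Nat.card X := by
        rw [← hKc.card_mul]
        exact lt_mul_of_one_lt_right Nat.card_pos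
          ((Subgroup.one_lt_card_iff_ne_bot _).2 (P.ne_bot_of_dvd_card hpX))
      have hKcard : Nat.card (K.map X.subtype) = Nat.card K := Solv.card_map_subtype K
      haveI := ih (Nat.card K) (hc ▸ hlt) (K.map X.subtype) hKcard
        (hKcard ▸ hodd.of_dvd_nat K.card_subgroup_dvd_card)
      haveI : Group.IsSolvable K := Group.isSolvable_of_isSolvable_injective
        (f := (K.equivMapOfInjective X.subtype X.subtype_injective).toMonoidHom) (MulEquiv.injective _)
      haveI := P.isPGroup'.isNilpotent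
      haveI : Group.IsSolvable (X ⧸ K) := Group.isSolvable_of_isSolvable_injective
        (f := (hKc.symm.QuotientMulEquiv).toMonoidHom) (MulEquiv.injective _)
      exact hXns (Group.isSolvable_of_ker_le_range K.subtype (QuotientGroup.mk' K)
        (by rw [QuotientGroup.ker_mk', Subgroup.range_subtype]))
    have hCN := cn_of_ftype hF hns X (all_ftype hF hns X
      (fun h2 => absurd h2 (by rw [← even_iff_two_dvd, Nat.not_even_iff_odd]; exact hodd)) hX)
    exact hXns (Solv.isSolvable_of_odd_cn hodd hCN)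

theorem two_dvd : 2 ∣ Nat.card G := by
  by_contra h
  haveI := odd_solvable hF hns _ (⊤ : Subgroup G) rfl (by
    rw [Subgroup.card_top, ← Nat.not_even_iff_odd]; exact fun e => h (even_iff_two_dvd.1 e))
  exact hns (Group.isSolvable_of_isSolvable_injective (f := (Subgroup.topEquiv (G := G)).symm.toMonoidHom)
    (MulEquiv.injective _))

/-- A normal 2-complement makes the group solvable. -/
theorem no_two_complement (P : Sylow 2 G)
    (h : Subgroup.normalizer ((P : Subgroup G) : Set G) ≤ Subgroup.centralizer ((P : Subgroup G) : Set G)) : False := by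
  haveI : Fact (Nat.Prime 2) := ⟨Nat.prime_two⟩
  obtain ⟨P', K, hK, hKc⟩ := Fusion.hnpc_of_normalizer_le_centralizer P h
  haveI := hK
  haveI := odd_solvable hF hns _ K rfl (Nat.coprime_two_right.1 (Fusion.coprime_card_of_isComplement' hKc))
  haveI := P'.isPGroup'.isNilpotent
  haveI : Group.IsSolvable (G ⧸ K) := Group.isSolvable_of_isSolvable_injective
    (f := (hKc.symm.QuotientMulEquiv).toMonoidHom) (MulEquiv.injective _)
  exact hns (Group.isSolvable_of_ker_le_range K.subtype (QuotientGroup.mk' K)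
    (by rw [QuotientGroup.ker_mk', Subgroup.range_subtype]))

/-- There are no solvable normal subgroups. -/
theorem radical (A : Subgroup G) [A.Normal] (hA : Group.IsSolvable A) : A = ⊥ := by
  classical
  haveI : Fact (Nat.Prime 2) := ⟨Nat.prime_two⟩
  by_contra hA1
  obtain ⟨B, hBn, hB1, hBA, hBmin⟩ := Solv.exists_minimal_normal_le A hA1
  haveI := hBn
  obtain ⟨hBab, -⟩ := Solv.minimal_normal_elementaryAbelian B (Solv.isSolvable_of_le hBA hA) hB1 hBmin
  have hBM : ∀ M, MaxSolv M → B ≤ M := fun M hM => by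
    haveI := hM.1
    haveI := Solv.isSolvable_of_le hBA hA
    by_contra hle
    exact hM.2 (B ⊔ M) (lt_of_le_of_ne le_sup_right fun e => hle (e ▸ le_sup_left))
      (Lie.isSolvable_sup_of_le_normalizer (Solv.isSolvable_of_le hBA hA) hM.1
        (by rw [Subgroup.normalizer_eq_top]; exact le_top))
  by_cases hall : ∀ M, MaxSolv M → F M = ⊥
  · -- all solvable subgroups are abelian
    obtain ⟨P⟩ : Nonempty (Sylow 2 G) := inferInstance
    refine no_two_complement hF hns P fun z hz => ?_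
    haveI := P.isPGroup'.isNilpotent
    by_contra hzC
    obtain ⟨i, q, k, hq, hzo, hzi⟩ := exists_primePow_notMem hzC
    haveI : Group.IsSolvable (Subgroup.zpowers (z ^ i)) := inferInstance
    obtain ⟨M, hM, hYM⟩ := exists_max (Lie.isSolvable_sup_of_le_normalizer
      inferInstance inferInstance (Subgroup.zpowers_le.2 (zpow_mem hz i)) :
        Group.IsSolvable ↥((P : Subgroup G) ⊔ Subgroup.zpowers (z ^ i)))
    have hc := (hF M hM).2.2.2.2.resolve_left (not_not.2 (hall M hM))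
    exact hzi (Subgroup.mem_centralizer_iff.2 fun v hv => congrArg Subtype.val (hc.is_comm.comm
      (⟨v, hYM ((le_sup_left : (P : Subgroup G) ≤ _) hv)⟩ : M)
      ⟨z ^ i, hYM ((le_sup_right : Subgroup.zpowers (z ^ i) ≤ _) (Subgroup.mem_zpowers _))⟩))
  push Not at hall
  obtain ⟨M, hM, hne⟩ := hall
  have hBF : B ≤ F M := by
    obtain ⟨b, hb, hbF, hb1⟩ : ∃ b ∈ B, b ∈ F M ∧ b ≠ 1 := by
      by_contra hno
      push Not at hno
      obtain ⟨⟨b, hb⟩, hb1⟩ := Subgroup.ne_bot_iff_exists_ne_one.1 hB1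
      obtain ⟨⟨x, hx⟩, hx1⟩ := Subgroup.ne_bot_iff_exists_ne_one.1 hne
      refine hx1 (Subtype.ext (eq_one_of_commute hF hM (hBM M hM hb)
        (fun e => hb1 (Subtype.ext (hno b hb e))) hx ?_))
      have h1 : b * x * b⁻¹ * x⁻¹ ∈ F M :=
        mul_mem ((Subgroup.mem_normalizer_iff.1 ((hF M hM).2.1 (hBM M hM hb)) x).1 hx) (inv_mem hx)
      have h2 : b * x * b⁻¹ * x⁻¹ ∈ B := by
        rw [show b * x * b⁻¹ * x⁻¹ = b * (x * b⁻¹ * x⁻¹) by group]
        exact mul_mem hb (hBn.conj_mem _ (inv_mem hb) x)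
      exact (mul_inv_eq_iff_eq_mul.1 (mul_inv_eq_one.1 (hno _ h2 h1))).symm
    exact fun c hc => cent_le hF hM hbF hb1 (mem_cent_singleton
      (congrArg Subtype.val (hBab.is_comm.comm (⟨c, hc⟩ : B) ⟨b, hb⟩)))
  have htop : M = ⊤ := by
    rw [eq_top_iff]
    intro g _
    by_contra hg
    refine hB1 (le_bot_iff.1 ((hF M hM).2.2.2.1 g hg ▸ fun b hb => ⟨hBF hb, ?_⟩))
    exact ⟨g⁻¹ * b * g⁻¹⁻¹, hBF (hBn.conj_mem _ hb g⁻¹), by
      show g * (g⁻¹ * b * g⁻¹⁻¹) * g⁻¹ = b
      group⟩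
  subst htop
  haveI := hM.1
  exact hns (Group.isSolvable_of_isSolvable_injective (f := (Subgroup.topEquiv (G := G)).symm.toMonoidHom)
    (MulEquiv.injective _))

/-- The prime two is of kernel type. -/
theorem ftype_two : FType F 2 := by
  classical
  haveI : Fact (Nat.Prime 2) := ⟨Nat.prime_two⟩
  by_contra h
  by_cases hK : ∃ E : Subgroup G, IsKleinFour E
  · obtain ⟨E, hE⟩ := hK
    obtain ⟨P, hEP⟩ := (IsPGroup.of_card (n := 2) hE.card_four : IsPGroup 2 E).exists_le_sylow
    haveI := P.isPGroup'.isNilpotent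
    have hno : ∀ M, MaxSolv M → (P : Subgroup G) ≤ M → IsMulCommutative M := by
      intro M hM hPM
      refine (hF M hM).2.2.2.2.resolve_left fun hne => ?_
      have hE1 : E ≠ ⊥ := fun e => by
        have := hE.card_four
        rw [e, Subgroup.card_bot] at this
        omega
      refine (hasFpf_of_inf hF hM hE1 (hEP.trans hPM) hne fun y hy hyF =>
        not_mem hF hns h hM P.isPGroup' (hEP hy) hyF).elim fun ρ hρ => ?_
      obtain ⟨a, ha⟩ := exists_prime_orderOf_dvd_card' 2 (hE.card_four ▸ (by norm_num) : 2 ∣ Nat.card E)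
      haveI := hE
      have hsub : ∀ x : E, x ∈ Subgroup.zpowers a := fun x => by
        by_cases hx : x = 1
        · exact hx ▸ one_mem _
        have hsq : ∀ y : E, y ^ 2 = 1 := fun y => by rw [pow_two, IsKleinFour.mul_self]
        rw [hρ.involution_unique hx (hsq x) (fun e => by rw [e, orderOf_one] at ha; omega) (hsq a)]
        exact Subgroup.mem_zpowers a
      have h1 : Subgroup.zpowers a = ⊤ := eq_top_iff.2 fun x _ => hsub x
      have := Nat.card_zpowers a
      rw [h1, Subgroup.card_top, hE.card_four, ha] at this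
      omega
    refine no_two_complement hF hns P fun z hz => ?_
    by_contra hzC
    obtain ⟨i, q, k, hq, hzo, hzi⟩ := exists_primePow_notMem hzC
    obtain ⟨M, hM, hYM⟩ := exists_max (Lie.isSolvable_sup_of_le_normalizer
      inferInstance inferInstance (Subgroup.zpowers_le.2 (zpow_mem hz i)) :
        Group.IsSolvable ↥((P : Subgroup G) ⊔ Subgroup.zpowers (z ^ i)))
    have hc := hno M hM (le_sup_left.trans hYM)
    exact hzi (Subgroup.mem_centralizer_iff.2 fun v hv => congrArg Subtype.val (hc.is_comm.comm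
      (⟨v, hYM ((le_sup_left : (P : Subgroup G) ≤ _) hv)⟩ : M)
      ⟨z ^ i, hYM ((le_sup_right : Subgroup.zpowers (z ^ i) ≤ _) (Subgroup.mem_zpowers _))⟩))
  · push Not at hK
    obtain ⟨z, hz, N, hN, hNo, hc⟩ := S0225.result (even_iff_two_dvd.2 (two_dvd hF hns)) hK
    haveI := hN
    have hN1 := radical hF hns N (odd_solvable hF hns _ N rfl hNo)
    haveI : (Subgroup.zpowers z).Normal := ⟨fun y hy g => by
      obtain ⟨i, rfl⟩ := Subgroup.mem_zpowers_iff.1 hy
      have hgz : Commute g z := by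
        have := hc g
        rw [hN1, Subgroup.mem_bot] at this
        exact (mul_inv_eq_iff_eq_mul.1 (mul_inv_eq_one.1 this)).symm
      rw [(hgz.zpow_right i).eq, mul_inv_cancel_right]
      exact Subgroup.zpow_mem _ (Subgroup.mem_zpowers z) i⟩
    have h1 := radical hF hns (Subgroup.zpowers z) inferInstance
    rw [Subgroup.zpowers_eq_bot] at h1
    rw [h1, orderOf_one] at hz
    omega

/-- The Sylow 2-subgroups meet trivially. -/
theorem sylow_two_TI {S₁ S₂ : Sylow 2 G} {x : G} (h₁ : x ∈ (S₁ : Subgroup G)) (h₂ : x ∈ (S₂ : Subgroup G))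
    (hx1 : x ≠ 1) : S₁ = S₂ := by
  classical
  haveI : Fact (Nat.Prime 2) := ⟨Nat.prime_two⟩
  obtain ⟨P, M, hM, hPM⟩ := ftype_two hF hns
  obtain ⟨g, rfl⟩ := MulAction.exists_smul_eq G P S₁
  obtain ⟨h, rfl⟩ := MulAction.exists_smul_eq G (g • P) S₂
  obtain ⟨y, hy, hyx⟩ := h₁
  have hyx' : g * y * g⁻¹ = x := hyx
  -- pull back to the chosen subgroup
  set S := g⁻¹ • (h • g • P) with hS
  have hyS : y ∈ (S : Subgroup G) := by
    refine ⟨x, h₂, ?_⟩
    show g⁻¹ * x * g⁻¹⁻¹ = y
    rw [← hyx']; group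
  have hSF : (S : Subgroup G) ≤ F M := sylow_le hF hM (hPM hy) (fun e => hx1 (by rw [← hyx', e]; group)) hyS
  haveI := nilpotent hF hns hM
  have hn : ((P.subtype hPM : Sylow 2 (F M)) : Subgroup (F M)).Normal :=
    ((Group.isNilpotent_of_finite_tfae (G := F M)).out 0 3
      (a := Group.IsNilpotent (F M))
      (b := ∀ (q : ℕ) (_ : Fact q.Prime) (R : Sylow q (F M)), (R : Subgroup (F M)).Normal)).1 ‹_› 2 ‹_› _
  haveI := Sylow.unique_of_normal _ hn
  have e : S.subtype hSF = P.subtype hPM := Subsingleton.elim _ _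
  have e2 : (S : Subgroup G) = (P : Subgroup G) := by
    have h3 := congrArg (fun R : Sylow 2 (F M) => (R : Subgroup (F M)).map (F M).subtype) e
    simp only [Sylow.coe_subtype] at h3
    rwa [Subgroup.map_subgroupOf_eq_of_le hSF, Subgroup.map_subgroupOf_eq_of_le hPM] at h3
  have e3 : S = P := Sylow.ext e2
  rw [hS, inv_smul_eq_iff] at e3
  exact e3.symm

/-- The classification. -/
theorem classification : Bor G ∧ IsSimpleGroup G ∧ CIT G := by
  classical
  haveI : Fact (Nat.Prime 2) := ⟨Nat.prime_two⟩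
  have hrad : ∀ K : Subgroup G, K.Normal → Group.IsSolvable K → K = ⊥ := fun K hK hs => by
    haveI := hK
    exact radical hF hns K hs
  have hodd : ∀ K : Subgroup G, Odd (Nat.card K) → Group.IsSolvable K := fun K hK => odd_solvable hF hns _ K rfl hK
  have hF2 := ftype_two hF hns
  have hinv : ∀ v : G, orderOf v = 2 → Group.IsNilpotent (Subgroup.centralizer ({v} : Set G)) := fun v hv =>
    ftype_nilC hF hns hF2 (fun e => by rw [e, orderOf_one] at hv; omega) (k := 1) (by rw [hv, pow_one])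
  haveI : Nontrivial G := by
    by_contra hn
    rw [not_nontrivial_iff_subsingleton] at hn
    exact hns inferInstance
  obtain ⟨N, hNn, hN1, hmin⟩ := Solv.exists_minimal_normal (G := G)
  haveI := hNn
  obtain ⟨hs, hna, hN2⟩ := simple_of_minimal hrad hodd hinv hN1 hmin
  have hNns : ¬ Group.IsSolvable N := fun h => hN1 (hrad N hNn h)
  have hNhnpc : ∀ p : ℕ, p.Prime → p ∣ Nat.card N → ¬ Cfsg.HasNormalPComplement p N := by
    rintro p hp hpN ⟨P, K, hK, hKc⟩
    haveI := Fact.mk hp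
    rcases IsSimpleGroup.eq_bot_or_eq_top_of_normal K hK with e | e
    · subst e
      rw [Subgroup.isComplement'_bot_left] at hKc
      haveI := P.isPGroup'.isNilpotent
      exact hNns (Group.isSolvable_of_isSolvable_injective
        (f := ((MulEquiv.subgroupCongr hKc).trans Subgroup.topEquiv).symm.toMonoidHom) (MulEquiv.injective _))
    · subst e
      rw [Subgroup.isComplement'_top_left] at hKc
      exact P.ne_bot_of_dvd_card hpN hKc
  have hCN := cn_of_ftype hF hns N (all_ftype hF hns N (fun _ => hF2) hNhnpc)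
  have hCITN := cit_of_cn hna hCN
  have hC : CIT G := cit_of_normal hna hCITN hN2 hinv fun g t hg1 hgo ht hgt => by
    obtain ⟨P, M, hM, hPM⟩ := hF2
    obtain ⟨P', hP'⟩ := (IsPGroup.of_card (n := 1) (by rw [Nat.card_zpowers, ht, pow_one]) :
      IsPGroup 2 (Subgroup.zpowers t)).exists_le_sylow
    obtain ⟨h, rfl⟩ := MulAction.exists_smul_eq G P P'
    obtain ⟨y, hy, hyt⟩ := hP' (Subgroup.mem_zpowers t)
    have hyt' : h * y * h⁻¹ = t := hyt
    have hg' : h⁻¹ * g * h ∈ F M := cent_le hF hM (hPM hy)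
      (fun e => by rw [e, mul_one, mul_inv_cancel] at hyt'; rw [← hyt', orderOf_one] at ht; omega)
      (Subgroup.mem_centralizer_singleton_iff.2 (by
        calc h⁻¹ * g * h * y = h⁻¹ * (g * (h * y * h⁻¹)) * h := by group
          _ = h⁻¹ * (h * y * h⁻¹ * g) * h := by rw [hyt', hgt.eq]
          _ = y * (h⁻¹ * g * h) := by group))
    have := cent_conj_nilpotent h (nilC hF hns hM hg' fun e => hg1 (by
      have e2 := congrArg (fun w => h * w * h⁻¹) e
      simpa [mul_assoc] using e2))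
    rwa [show h * (h⁻¹ * g * h) * h⁻¹ = g by group] at this
  have hloc : Locals N := by
    intro X hX hX2
    set H := Subgroup.normalizer (X : Set N) with hH
    intro P
    refine Or.inl ?_
    set R := (P : Subgroup H).map H.subtype with hR
    have hXR : X ≤ R := by
      haveI : (X.subgroupOf H).Normal := (Subgroup.normal_subgroupOf_iff_le_normalizer Subgroup.le_normalizer).2 le_rfl
      have := Solv.normal_le_pCore (N := X.subgroupOf H) (p := 2) (hX2.comap_subtype)
      exact (Subgroup.map_subgroupOf_eq_of_le Subgroup.le_normalizer).ge.trans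
        (Subgroup.map_mono (this.trans (core_le_sylow P)))
    obtain ⟨T, hT⟩ := (P.isPGroup'.map H.subtype).exists_le_sylow
    have hTn : H ≤ Subgroup.normalizer ((T : Subgroup N) : Set N) := by
      intro g hg
      obtain ⟨x, hx, hx1⟩ := exists_invol_mem hX2 hX
      have hgxR : g * x * g⁻¹ ∈ R := hXR ((Subgroup.mem_normalizer_iff.1 hg x).1 hx)
      obtain ⟨S₁, hS₁⟩ := ((T.isPGroup').map N.subtype).exists_le_sylow
      have hx' : (g : G) * x * (g : G)⁻¹ ∈ ((g : G) • S₁ : Sylow 2 G) := ⟨x, hS₁ ⟨x, hT (hXR hx), rfl⟩, rfl⟩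
      have hgx1 : (g : G) * x * (g : G)⁻¹ ≠ 1 := fun e => by
        rw [conj_eq_one_iff] at e
        rw [show x = 1 from Subtype.ext e, orderOf_one] at hx1
        omega
      have heq := sylow_two_TI hF hns hx' (hS₁ ⟨_, hT hgxR, rfl⟩) hgx1
      have key : ∀ y ∈ (T : Subgroup N), g * y * g⁻¹ ∈ (T : Subgroup N) := by
        intro y hy
        have h1 : (g : G) * y * (g : G)⁻¹ ∈ (S₁ : Subgroup G) := heq ▸ ⟨y, hS₁ ⟨y, hy, rfl⟩, rfl⟩
        have h2 := T.is_maximal' (Q := (S₁ : Subgroup G).subgroupOf N) (S₁.isPGroup'.comap_subtype)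
          fun w hw => hS₁ ⟨w, hw, rfl⟩
        exact h2 ▸ h1
      rw [Subgroup.mem_normalizer_iff]
      intro y
      refine ⟨key y, fun hy => ?_⟩
      have hle : (T : Subgroup N).map (MulAut.conj g).toMonoidHom ≤ (T : Subgroup N) := by
        rintro _ ⟨w, hw, rfl⟩; exact key w hw
      obtain ⟨w, hw, e⟩ := (Subgroup.eq_of_le_of_card_ge hle
        (Subgroup.card_map_of_injective (f := (MulAut.conj g).toMonoidHom) (MulAut.conj g).injective).ge).ge hy
      exact (MulAut.conj g).injective e ▸ hw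
    have hRe : R = (T : Subgroup N) ⊓ H := by
      refine le_antisymm (le_inf hT (Subgroup.map_subtype_le _)) ?_
      have h2 := P.is_maximal' (Q := (T : Subgroup N).subgroupOf H) T.isPGroup'.comap_subtype
        fun w hw => hT ⟨w, hw, rfl⟩
      rintro w ⟨hw, hwH⟩
      exact ⟨⟨w, hwH⟩, h2 ▸ hw, rfl⟩
    intro g hg
    show g ∈ Subgroup.normalizer ((R : Subgroup N) : Set N)
    rw [hRe, Subgroup.mem_normalizer_iff]
    intro y
    exact ⟨fun hy => ⟨(Subgroup.mem_normalizer_iff.1 (hTn hg) y).1 hy.1, mul_mem (mul_mem hg hy.2) (H.inv_mem hg)⟩,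
      fun hy => ⟨(Subgroup.mem_normalizer_iff.1 (hTn hg) y).2 hy.1, by
        have := mul_mem (mul_mem (H.inv_mem hg) hy.2) hg
        rwa [show g⁻¹ * (g * y * g⁻¹) * g = y by group] at this⟩⟩
  have hBor := bor_of_locals hna hCITN hN2 hloc
  have htop := hC.eq_top_of_bor hBor
  subst htop
  obtain ⟨n, T, hT⟩ := hBor
  exact ⟨⟨n, _, hT.map Subgroup.topEquiv⟩, Subgroup.topEquiv.symm.isSimpleGroup, hC⟩

end Cfsg.Agent.Solv.MaxSolvTI
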