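import Cfsg.Agent.Lib.Solv.CIT.Main
import Cfsg.Agent.Lib.Solv.CIT.AbelianCore
import Cfsg.Agent.Lib.Solv.EPPO
import Cfsg.Agent.Lib.Solv.Zipper
import Cfsg.Agent.Lib.Lie.OrderSixty
import Cfsg.Agent.Lib.Classical.Dickson.Tools
import Cfsg.Agent.Lib.Spor.PlaneAut
import Cfsg.Agent.S0497

/-!
Groups whose element orders are exactly 1, 2, 3, 4, 5.
-/

set_option autoImplicit false
set_option linter.style.haveILetI false
set_option linter.unusedSectionVars false
set_option maxRecDepth 20000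

namespace Cfsg.Agent.Solv.CITGroups.OrdFive

open Cfsg
open Equiv (swap)

universe u

/-- A four-group configuration in the alternating group of degree five. -/
theorem alt_five_config : ∃ g a : alternatingGroup (Fin 5),
    g ^ 3 = 1 ∧ g ≠ 1 ∧ a * a = 1 ∧ a ≠ 1 ∧ (g * a) ^ 3 = 1 ∧ g * a ≠ 1 ∧
    (g * (g⁻¹ * a * g)) ^ 3 = 1 ∧ g * (g⁻¹ * a * g) ≠ 1 ∧ g⁻¹ * (g⁻¹ * a * g) * g = a * (g⁻¹ * a * g) ∧
    (g * (a * (g⁻¹ * a * g))) ^ 3 = 1 ∧ g * (a * (g⁻¹ * a * g)) ≠ 1 :=
  ⟨⟨swap 0 1 * swap 1 2, Equiv.Perm.mem_alternatingGroup.2 (by decide)⟩,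
    ⟨swap 0 1 * swap 2 3, Equiv.Perm.mem_alternatingGroup.2 (by decide)⟩, by decide +kernel⟩

/-- An element of order four of the alternating group of degree six. -/
theorem alt_six_four : ∃ r b : alternatingGroup (Fin 6), r ^ 4 = 1 ∧ r * r ≠ 1 ∧ b * b = 1 ∧ b * r * b = r⁻¹ ∧
    ∀ g, g * r = r * g → g = 1 ∨ g = r ∨ g = r * r ∨ g = r * r * r :=
  ⟨⟨swap 0 1 * swap 1 2 * swap 2 3 * swap 4 5, Equiv.Perm.mem_alternatingGroup.2 (by decide)⟩,
    ⟨swap 0 2 * swap 4 5, Equiv.Perm.mem_alternatingGroup.2 (by decide)⟩, by decide +kernel⟩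

/-- Elements of odd order of the alternating group of degree six are inverted by involutions. -/
theorem alt_six_real : ∀ a : alternatingGroup (Fin 6), a ^ 3 = 1 ∨ a ^ 5 = 1 → ∃ j, j * j = 1 ∧ j * a * j = a⁻¹ := by
  decide +kernel

variable {G : Type u} [Group G] [Finite G]

/-- Every element order is at most five. -/
def Le5 (G : Type u) [Group G] : Prop := ∀ g : G, orderOf g ≤ 5

theorem cases_order (h : Le5 G) (g : G) :
    orderOf g = 1 ∨ orderOf g = 2 ∨ orderOf g = 3 ∨ orderOf g = 4 ∨ orderOf g = 5 := by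
  have := h g
  have := orderOf_pos g
  omega

theorem ipp (h : Le5 G) : ∀ g : G, g ≠ 1 → IsPrimePow (orderOf g) := fun g hg => by
  rcases cases_order h g with e | e | e | e | e <;> rw [e]
  · exact absurd (orderOf_eq_one_iff.1 e) hg
  · exact Nat.prime_two.isPrimePow
  · exact Nat.prime_three.isPrimePow
  · exact Nat.prime_two.isPrimePow.pow (k := 2) two_ne_zero
  · exact Nat.prime_five.isPrimePow

theorem cit (h : Le5 G) : CIT G := fun t ht => by
  haveI : Fact (Nat.Prime 2) := ⟨Nat.prime_two⟩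
  refine IsPGroup.iff_orderOf.2 fun ⟨y, hy⟩ => ?_
  rw [Subgroup.orderOf_mk]
  have hc : Commute t y := (Subgroup.mem_centralizer_singleton_iff.1 hy).symm
  rcases cases_order h y with e | e | e | e | e
  · exact ⟨0, e⟩
  · exact ⟨1, e⟩
  · have := h (t * y)
    rw [hc.orderOf_mul_eq_mul_orderOf_of_coprime (by rw [ht, e]; norm_num), ht, e] at this
    omega
  · exact ⟨2, e⟩
  · have := h (t * y)
    rw [hc.orderOf_mul_eq_mul_orderOf_of_coprime (by rw [ht, e]; norm_num), ht, e] at this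
    omega

theorem Le5.quotient (h : Le5 G) (N : Subgroup G) [N.Normal] : Le5 (G ⧸ N) := fun g => by
  obtain ⟨x, rfl⟩ := QuotientGroup.mk'_surjective N g
  exact (Nat.le_of_dvd (orderOf_pos x) (orderOf_map_dvd _ x)).trans (h x)

/-- A group with Borel data and small element orders has order sixty. -/
theorem card_of_bor (h : Le5 G) (hB : Bor G) : Nat.card G = 60 := by
  obtain ⟨n, T, hB⟩ := hB
  obtain ⟨k, -, hk⟩ := hB.gen
  have h5 := hk ▸ h k
  have hn := hB.two_le
  rcases lt_or_ge n 3 with hn3 | hn3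
  swap
  · have := Nat.pow_le_pow_right (show 0 < 2 by norm_num) hn3
    omega
  obtain rfl : n = 2 := by omega
  rcases hB.kind with ⟨hT, -, -⟩ | ⟨-, ho, -, -⟩
  · rw [hB.cardG, hT]
    norm_num
  · exact absurd ho (by decide)

/-- An element over one of order three has order three. -/
theorem order_three_of_quotient (h : Le5 G) {N : Subgroup G} [N.Normal] {x : G}
    (h3 : QuotientGroup.mk' N x ^ 3 = 1) (h1 : QuotientGroup.mk' N x ≠ 1) : x ^ 3 = 1 := by
  haveI : Fact (Nat.Prime 3) := ⟨Nat.prime_three⟩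
  have hd := orderOf_map_dvd (QuotientGroup.mk' N) x
  rw [orderOf_eq_prime h3 h1] at hd
  have := h x
  have := orderOf_pos x
  obtain ⟨c, hc⟩ := hd
  have : orderOf x = 3 := by omega
  rw [← this, pow_orderOf_eq_one]

/-- The elementary case: the core has exponent two. -/
theorem core_sq (h : Le5 G) (Q : Subgroup G) [Q.Normal] (hQ : IsPGroup 2 Q) (hQc : IsMulCommutative Q)
    (e : G ⧸ Q ≃* ↥(alternatingGroup (Fin 5))) : ∀ q ∈ Q, q * q = 1 := by
  obtain ⟨g₀, a₀, k1, k2, k3, k4, k5, k6, k7, k8, k9, k10, k11⟩ := alt_five_config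
  set π := QuotientGroup.mk' Q
  let ρ : G →* ↥(alternatingGroup (Fin 5)) := e.toMonoidHom.comp π
  have hρ : Function.Surjective ρ := e.surjective.comp (QuotientGroup.mk'_surjective Q)
  have hker : ∀ x, ρ x = 1 → x ∈ Q := fun x hx => (QuotientGroup.eq_one_iff x).1 ((MulEquiv.map_eq_one_iff e).1 hx)
  have hthree : ∀ x, ρ x ^ 3 = 1 → ρ x ≠ 1 → x ^ 3 = 1 := fun x h3 h1 => by
    refine order_three_of_quotient h (N := Q) (e.injective ?_) fun e1 => h1 ((MulEquiv.map_eq_one_iff e).2 e1)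
    rw [map_pow, map_one]
    exact h3
  have hc : ∀ p ∈ Q, ∀ q ∈ Q, p * q = q * p := fun p hp q hq =>
    congrArg Subtype.val (hQc.is_comm.comm ⟨p, hp⟩ ⟨q, hq⟩)
  have hcj : ∀ x, ∀ q ∈ Q, x * q * x⁻¹ ∈ Q := fun x q hq => Subgroup.Normal.conj_mem inferInstance q hq x
  -- the norm of an element of order three
  have hnorm : ∀ x, ρ x ^ 3 = 1 → ρ x ≠ 1 → ∀ w ∈ Q, w * (x * w * x⁻¹) * (x * (x * w * x⁻¹) * x⁻¹) = 1 := by
    intro x h3 h1 w hw
    have hx := hthree x h3 h1
    have hw1 : ρ w = 1 := (MulEquiv.map_eq_one_iff e).2 ((QuotientGroup.eq_one_iff w).2 hw)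
    have hwx := hthree (w * x) (by rw [map_mul, hw1, one_mul, h3]) (by rw [map_mul, hw1, one_mul]; exact h1)
    calc w * (x * w * x⁻¹) * (x * (x * w * x⁻¹) * x⁻¹)
        = w * x * (w * x) * (w * x) * (x * x * x)⁻¹ := by group
      _ = 1 := by rw [← pow_three', ← pow_three', hx, hwx, inv_one, one_mul]
  -- fixed points move along
  have key : ∀ g A, ρ g ^ 3 = 1 → ρ g ≠ 1 → ρ (g * A) ^ 3 = 1 → ρ (g * A) ≠ 1 →
      ∀ w ∈ Q, Commute A w → Commute (g⁻¹ * A * g) w := by
    intro g A g3 g1 gA3 gA1 w hw hAw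
    have e1 := hnorm (g * A) gA3 gA1 w hw
    have e2 := hnorm g g3 g1 w hw
    have hga : g * A * w * (g * A)⁻¹ = g * w * g⁻¹ := by
      rw [mul_assoc g A w, hAw.eq]; group
    rw [hga] at e1
    have e3 := mul_left_cancel (e1.trans e2.symm)
    have e4 : A * (g * w * g⁻¹) = g * w * g⁻¹ * A := by
      have := congrArg (fun z => g⁻¹ * z * g * A) e3
      simpa [mul_assoc] using this
    show g⁻¹ * A * g * w = w * (g⁻¹ * A * g)
    calc g⁻¹ * A * g * w = g⁻¹ * (A * (g * w * g⁻¹)) * g := by group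
      _ = g⁻¹ * (g * w * g⁻¹ * A) * g := by rw [e4]
      _ = w * (g⁻¹ * A * g) := by group
  obtain ⟨g, hg⟩ := hρ g₀
  obtain ⟨A, hA⟩ := hρ a₀
  set B := g⁻¹ * A * g with hB
  set C := g⁻¹ * B * g with hC
  have hρB : ρ B = g₀⁻¹ * a₀ * g₀ := by rw [hB, map_mul, map_mul, map_inv, hg, hA]
  have hρC : ρ C = a₀ * (g₀⁻¹ * a₀ * g₀) := by rw [hC, map_mul, map_mul, map_inv, hg, hρB, k9]
  have hg3 : g ^ 3 = 1 := hthree g (by rw [hg]; exact k1) (by rw [hg]; exact k2)
  have hCA : g⁻¹ * C * g = A := by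
    rw [hC, hB, show g⁻¹ * (g⁻¹ * (g⁻¹ * A * g) * g) * g = (g ^ 3)⁻¹ * A * g ^ 3 by
      simp only [pow_succ, pow_zero, one_mul]; group, hg3]
    group
  have r1 : ∀ w ∈ Q, Commute A w → Commute B w := fun w hw hh =>
    key g A (by rw [hg]; exact k1) (by rw [hg]; exact k2) (by rw [map_mul, hg, hA]; exact k5)
      (by rw [map_mul, hg, hA]; exact k6) w hw hh
  have r2 : ∀ w ∈ Q, Commute B w → Commute C w := fun w hw hh =>
    key g B (by rw [hg]; exact k1) (by rw [hg]; exact k2) (by rw [map_mul, hg, hρB]; exact k7)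
      (by rw [map_mul, hg, hρB]; exact k8) w hw hh
  have r3 : ∀ w ∈ Q, Commute C w → Commute A w := fun w hw hh => hCA ▸
    key g C (by rw [hg]; exact k1) (by rw [hg]; exact k2) (by rw [map_mul, hg, hρC]; exact k10)
      (by rw [map_mul, hg, hρC]; exact k11) w hw hh
  -- an involution image squares into the core
  have hsq : ∀ X, ρ X * ρ X = 1 → ∀ q ∈ Q, X * (X * q * X⁻¹) * X⁻¹ = q := by
    intro X hX q hq
    have h2 : X * X ∈ Q := hker _ (by rw [map_mul, hX])
    rw [show X * (X * q * X⁻¹) * X⁻¹ = (X * X) * q * (X * X)⁻¹ by group, hc _ h2 q hq, mul_inv_cancel_right]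
  have hu : ∀ X, ρ X * ρ X = 1 → ∀ q ∈ Q, Commute X (q * (X * q * X⁻¹)) := by
    intro X hX q hq
    have : X * (q * (X * q * X⁻¹)) * X⁻¹ = q * (X * q * X⁻¹) := by
      rw [show X * (q * (X * q * X⁻¹)) * X⁻¹ = (X * q * X⁻¹) * (X * (X * q * X⁻¹) * X⁻¹) by group, hsq X hX q hq,
        hc _ (hcj X q hq) q hq]
    exact mul_inv_eq_iff_eq_mul.1 this
  have hB2 : ρ B * ρ B = 1 := by
    rw [hρB, show g₀⁻¹ * a₀ * g₀ * (g₀⁻¹ * a₀ * g₀) = g₀⁻¹ * (a₀ * a₀) * g₀ by group, k3]; group
  have hC2 : ρ C * ρ C = 1 := by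
    rw [hC, map_mul, map_mul, map_inv, show (ρ g)⁻¹ * ρ B * ρ g * ((ρ g)⁻¹ * ρ B * ρ g) = (ρ g)⁻¹ * (ρ B * ρ B) * ρ g
      by group, hB2]; group
  have hA2 : ρ A * ρ A = 1 := by rw [hA, k3]
  -- squares are centralized
  have hfixA : ∀ q ∈ Q, Commute A (q * q) := by
    intro q hq
    set a := A * q * A⁻¹ with ha
    set b := B * q * B⁻¹ with hb
    set c := C * q * C⁻¹ with hc'
    have haQ : a ∈ Q := hcj A q hq
    have hbQ : b ∈ Q := hcj B q hq
    have hcQ : c ∈ Q := hcj C q hq
    have Au : Commute A (q * a) := hu A hA2 q hq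
    have Av : Commute A (q * b) := r3 _ (mul_mem hq hbQ) (r2 _ (mul_mem hq hbQ) (hu B hB2 q hq))
    have Aw : Commute A (q * c) := r3 _ (mul_mem hq hcQ) (hu C hC2 q hq)
    have Bu : B * (q * a) * B⁻¹ = q * a := mul_inv_eq_iff_eq_mul.2 (r1 _ (mul_mem hq haQ) Au).eq
    have hk : (B * A)⁻¹ * C ∈ Q := hker _ (by
      rw [map_mul, map_inv, map_mul, hA, hρB, hρC, inv_mul_eq_one]
      have hV : ∀ x y : ↥(alternatingGroup (Fin 5)), x * x = 1 → y * y = 1 → x * y * (x * y) = 1 → y * x = x * y := by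
        intro x y hx hy hxy
        calc y * x = x⁻¹ * (x * y * (x * y)) * y⁻¹ := by group
          _ = x * y := by rw [hxy, mul_one, inv_eq_of_mul_eq_one_right hx, inv_eq_of_mul_eq_one_right hy]
      exact hV _ _ k3 (hρB ▸ hB2) (hρC ▸ hC2))
    have hcab : c = (B * A) * q * (B * A)⁻¹ := by
      have h1 : (B * A)⁻¹ * C * q * ((B * A)⁻¹ * C)⁻¹ = q := by rw [hc _ hk q hq, mul_inv_cancel_right]
      calc c = (B * A) * ((B * A)⁻¹ * C * q * ((B * A)⁻¹ * C)⁻¹) * (B * A)⁻¹ := by rw [hc']; group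
        _ = _ := by rw [h1]
    have hbc : b * c = q * a := by
      rw [← Bu, hcab, hb, ha]; group
    have hceq : c = b⁻¹ * (q * a) := by rw [← hbc, inv_mul_cancel_left]
    -- the square is a word in fixed elements
    have hid' : q * q = (q * c) * (q * b) * (q * a)⁻¹ := by
      symm
      calc q * c * (q * b) * (q * a)⁻¹ = q * b⁻¹ * ((q * a) * (q * b)) * (q * a)⁻¹ := by rw [hceq]; group
        _ = q * b⁻¹ * ((q * b) * (q * a)) * (q * a)⁻¹ := by rw [hc _ (mul_mem hq haQ) _ (mul_mem hq hbQ)]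
        _ = q * (b⁻¹ * q) * b := by group
        _ = q * (q * b⁻¹) * b := by rw [hc _ (inv_mem hbQ) q hq]
        _ = q * q := by group
    rw [hid']
    exact (Aw.mul_right Av).mul_right Au.inv_right
  -- the centralizer of all squares is normal and meets the top
  let S : Set G := {w | ∃ q ∈ Q, q * q = w}
  haveI : IsSimpleGroup (alternatingGroup (Fin 5)) := alternatingGroup.isSimpleGroup (by simp)
  haveI hL : (Subgroup.centralizer S).Normal := ⟨fun n hn x => Subgroup.mem_centralizer_iff.2 (by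
    rintro _ ⟨q, hq, rfl⟩
    have h1 := Subgroup.mem_centralizer_iff.1 hn _ ⟨x⁻¹ * q * x, by simpa using hcj x⁻¹ q hq, rfl⟩
    calc q * q * (x * n * x⁻¹) = x * ((x⁻¹ * q * x) * (x⁻¹ * q * x) * n) * x⁻¹ := by group
      _ = x * (n * ((x⁻¹ * q * x) * (x⁻¹ * q * x))) * x⁻¹ := by rw [h1]
      _ = x * n * x⁻¹ * (q * q) := by group)⟩
  have hAL : A ∈ Subgroup.centralizer S := Subgroup.mem_centralizer_iff.2 (by
    rintro _ ⟨q, hq, rfl⟩
    exact (hfixA q hq).eq.symm)
  have htop : (Subgroup.centralizer S).map ρ = ⊤ := by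
    rcases IsSimpleGroup.eq_bot_or_eq_top_of_normal _ (Subgroup.Normal.map hL ρ hρ) with h0 | h0
    · exact absurd (hA ▸ Subgroup.mem_bot.1 (h0.le ⟨A, hAL, rfl⟩)) k4
    · exact h0
  obtain ⟨x, hxL, hx⟩ := htop.ge (Subgroup.mem_top g₀)
  intro q hq
  have hx3 := hthree x (by rw [hx]; exact k1) (by rw [hx]; exact k2)
  haveI : Fact (Nat.Prime 3) := ⟨Nat.prime_three⟩
  have hxo : orderOf x = 3 := orderOf_eq_prime hx3 fun e1 => k2 (by rw [← hx, e1, map_one])
  exact (cit h).fpf_mem (by rw [hxo]; decide) (fun e1 => k2 (by rw [← hx, e1, map_one])) hQ (mul_mem hq hq)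
    (Subgroup.mem_centralizer_iff.1 hxL _ ⟨q, hq, rfl⟩).symm

/-- The case of a normal subgroup isomorphic to the alternating group of degree six. -/
theorem eq_top_of_alt_six (h : Le5 G) (hcore : Cfsg.pCore 2 G = ⊥) (N : Subgroup G) [N.Normal]
    (e : N ≃* ↥(alternatingGroup (Fin 6))) : N = ⊤ := by
  classical
  haveI : Fact (Nat.Prime 2) := ⟨Nat.prime_two⟩
  haveI : Fact (Nat.Prime 3) := ⟨Nat.prime_three⟩
  haveI : Fact (Nat.Prime 5) := ⟨Nat.prime_five⟩
  have hC := cit h
  have hcN : Nat.card N = 360 := by rw [Nat.card_congr e.toEquiv, nat_card_alternatingGroup, Nat.card_eq_fintype_card, Fintype.card_fin]; rfl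
  have hreal : ∀ x ∈ N, x ^ 3 = 1 ∨ x ^ 5 = 1 → ∃ j ∈ N, j * j = 1 ∧ j * x * j = x⁻¹ := by
    intro x hx hp
    obtain ⟨j, h1, h2⟩ := alt_six_real (e ⟨x, hx⟩) (by
      rcases hp with hp | hp
      · left; rw [← map_pow, ← map_one e]; exact congrArg e (Subtype.ext hp)
      · right; rw [← map_pow, ← map_one e]; exact congrArg e (Subtype.ext hp))
    refine ⟨e.symm j, (e.symm j).2, ?_, ?_⟩
    · have := congrArg e.symm h1
      rw [map_mul, map_one] at this
      exact congrArg Subtype.val this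
    · have := congrArg e.symm h2
      rw [map_mul, map_mul, map_inv, MulEquiv.symm_apply_apply] at this
      exact congrArg Subtype.val this
  -- five does not divide the index
  haveI : Finite (Sylow 3 N) := inferInstance
  obtain ⟨P⟩ : Nonempty (Sylow 3 N) := inferInstance
  set P' := (P : Subgroup N).map N.subtype with hP'
  have hPc : Nat.card P' = 9 := by
    rw [hP', Solv.card_map_subtype, P.card_eq_multiplicity, hcN,
      Nat.factorization_def _ Nat.prime_three, show (360 : ℕ) = 3 ^ 2 * 40 by norm_num,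
      padicValNat.mul (by norm_num) (by norm_num), padicValNat.prime_pow,
      padicValNat.eq_zero_of_not_dvd (by norm_num)]
    norm_num
  have hP3 : IsPGroup 3 P' := IsPGroup.of_card (n := 2) hPc
  have hsupP : Subgroup.normalizer (P' : Set G) ⊔ N = ⊤ := by
    have := Sylow.normalizer_sup_eq_top (N := N) P
    exact this
  have hidx : ∀ X : Subgroup G, X ⊔ N = ⊤ → Nat.card X = N.index * Nat.card ↥(X ⊓ N) := by
    intro X hX
    have h1 := Subgroup.relIndex_sup_right X N
    rw [hX, Subgroup.relIndex_top_right] at h1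
    have h2 := Subgroup.card_mul_index (N.subgroupOf X)
    rw [show (N.subgroupOf X).index = N.index from h1.symm] at h2
    rw [← h2, mul_comm]
    congr 1
    rw [← Solv.card_map_subtype, Subgroup.subgroupOf_map_subtype, inf_comm]
  have h5P : ¬ 5 ∣ Nat.card (Subgroup.normalizer (P' : Set G)) := by
    intro hd
    obtain ⟨⟨y, hy⟩, hyo⟩ := exists_prime_orderOf_dvd_card' 5 hd
    rw [Subgroup.orderOf_mk] at hyo
    have hp5 : IsPGroup 5 (Subgroup.zpowers y) := IsPGroup.of_card (n := 1) (by rw [Nat.card_zpowers, hyo, pow_one])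
    let f : Subgroup.zpowers y →* MulAut P' :=
      (Subgroup.normalizerMonoidHom P').comp (Subgroup.inclusion (Subgroup.zpowers_le.2 hy))
    letI := MulAction.compHom P' f
    have hm := hp5.card_modEq_card_fixedPoints P'
    rw [hPc] at hm
    have hgt : 1 < Nat.card (MulAction.fixedPoints (Subgroup.zpowers y) P') := by
      rcases lt_or_ge 1 (Nat.card (MulAction.fixedPoints (Subgroup.zpowers y) P')) with h1 | h1
      · exact h1
      · exfalso
        unfold Nat.ModEq at hm
        omega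
    haveI : Nontrivial (MulAction.fixedPoints (Subgroup.zpowers y) P') := Finite.one_lt_card_iff_nontrivial.1 hgt
    obtain ⟨⟨⟨p, hp⟩, hpf⟩, hne⟩ := exists_ne (α := MulAction.fixedPoints (Subgroup.zpowers y) P')
      ⟨1, fun z => map_one (f z)⟩
    have hp1 : p ≠ 1 := fun e1 => hne (Subtype.ext (Subtype.ext e1))
    have hfix : y * p * y⁻¹ = p := congrArg Subtype.val (hpf ⟨y, Subgroup.mem_zpowers y⟩)
    have hcm : Commute y p := mul_inv_eq_iff_eq_mul.1 hfix
    obtain ⟨k, hk⟩ := IsPGroup.iff_orderOf.1 hP3 ⟨p, hp⟩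
    rw [Subgroup.orderOf_mk] at hk
    have := h (y * p)
    rw [hcm.orderOf_mul_eq_mul_orderOf_of_coprime (by rw [hyo, hk]; exact Nat.Coprime.pow_right k (by norm_num)),
      hyo, hk] at this
    rcases k with _ | k
    · exact hp1 (orderOf_eq_one_iff.1 (hk.trans (pow_zero 3)))
    · have h1k := Nat.one_le_pow k 3 (by norm_num)
      rw [pow_succ] at this
      omega
  have h5i : ¬ 5 ∣ N.index := fun hd => h5P (by rw [hidx _ hsupP]; exact dvd_mul_of_dvd_left hd _)
  -- the index is at most two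
  obtain ⟨R⟩ : Nonempty (Sylow 5 N) := inferInstance
  set R' := (R : Subgroup N).map N.subtype with hR'
  have hRc : Nat.card R' = 5 := by
    rw [hR', Solv.card_map_subtype, R.card_eq_multiplicity, hcN,
      Nat.factorization_def _ Nat.prime_five, show (360 : ℕ) = 5 ^ 1 * 72 by norm_num,
      padicValNat.mul (by norm_num) (by norm_num), padicValNat.prime_pow,
      padicValNat.eq_zero_of_not_dvd (by norm_num)]
    norm_num
  haveI : IsCyclic R' := isCyclic_of_prime_card hRc
  obtain ⟨⟨y, hyR⟩, hyo⟩ := exists_prime_orderOf_dvd_card' 5 (hRc ▸ dvd_rfl : 5 ∣ Nat.card R')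
  rw [Subgroup.orderOf_mk] at hyo
  have hzy : Subgroup.zpowers y = R' := Subgroup.eq_of_le_of_card_ge (Subgroup.zpowers_le.2 hyR)
    (by rw [Nat.card_zpowers, hyo, hRc])
  have hyN : y ∈ N := Subgroup.map_subtype_le _ hyR
  have hcG : Nat.card G = 360 * N.index := by rw [← hcN, Subgroup.card_mul_index]
  have hcR : ∀ z, Commute z y → z ^ 5 = 1 := by
    intro z hz
    rcases cases_order h z with e1 | e1 | e1 | e1 | e1
    · rw [orderOf_eq_one_iff.1 e1, one_pow]
    iterate 3
      exfalso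
      have := h (z * y)
      rw [hz.orderOf_mul_eq_mul_orderOf_of_coprime (by rw [e1, hyo]; norm_num), e1, hyo] at this
      omega
    · rw [← e1, pow_orderOf_eq_one]
  have hCR : Subgroup.centralizer (R' : Set G) = R' := by
    refine (Subgroup.eq_of_le_of_card_ge ?_ ?_).symm
    · haveI : IsMulCommutative R' := inferInstance
      exact Subgroup.le_centralizer R'
    have hp5 : IsPGroup 5 (Subgroup.centralizer (R' : Set G)) := fun z => ⟨1, Subtype.ext (by
      rw [pow_one]; exact hcR z (Subgroup.mem_centralizer_iff.1 z.2 y hyR).symm)⟩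
    obtain ⟨k, hk⟩ := IsPGroup.iff_card.1 hp5
    rw [hk, hRc]
    rcases lt_or_ge k 2 with h2 | h2
    · exact le_trans (Nat.pow_le_pow_right (by norm_num) (show k ≤ 1 by omega)) (by norm_num)
    · exfalso
      have hd : 5 ^ 2 ∣ 360 * N.index :=
        (pow_dvd_pow 5 h2).trans (hk ▸ hcG ▸ Subgroup.card_subgroup_dvd_card _)
      have : 5 * 5 ∣ 5 * (72 * N.index) := by rw [← mul_assoc]; exact hd
      rcases Nat.prime_five.dvd_mul.1 (Nat.dvd_of_mul_dvd_mul_left (by norm_num) this) with h7 | h7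
      · norm_num at h7
      · exact h5i h7
  set X := Subgroup.normalizer (R' : Set G) with hX
  have hsupR : X ⊔ N = ⊤ := Sylow.normalizer_sup_eq_top (N := N) R
  have hX20 : Nat.card X ∣ 20 := by
    have hk : (Subgroup.normalizerMonoidHom R').ker = (Subgroup.centralizer (R' : Set G)).subgroupOf X :=
      R'.normalizerMonoidHom_ker
    have h1 := Subgroup.card_mul_index (Subgroup.normalizerMonoidHom R').ker
    rw [Subgroup.index_ker] at h1
    have h2 : Nat.card (Subgroup.normalizerMonoidHom R').ker = 5 := by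
      rw [hk, hCR, Nat.card_congr (Subgroup.subgroupOfEquivOfLe Subgroup.le_normalizer).toEquiv, hRc]
    have h3 : Nat.card (Subgroup.normalizerMonoidHom R').range ∣ 4 := by
      have := Subgroup.card_subgroup_dvd_card (Subgroup.normalizerMonoidHom R').range
      rwa [IsCyclic.card_mulAut, hRc, Nat.totient_prime Nat.prime_five] at this
    rw [← h1, h2]
    exact Nat.mul_dvd_mul_left 5 h3
  have hX10 : 10 ∣ Nat.card ↥(X ⊓ N) := by
    obtain ⟨j, hjN, hj2, hjy⟩ := hreal y hyN (Or.inr (by rw [← hyo, pow_orderOf_eq_one]))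
    have hjy1 : j ≠ 1 := fun e1 => by
      rw [e1, one_mul, mul_one] at hjy
      have h2 : y ^ 2 = 1 := by rw [pow_two]; nth_rewrite 2 [hjy]; rw [mul_inv_cancel]
      have := orderOf_dvd_of_pow_eq_one h2
      rw [hyo] at this
      norm_num at this
    have hjX : j ∈ X := by
      rw [hX, ← hzy]
      refine mem_normalizer_zpowers ?_
      rw [inv_eq_of_mul_eq_one_right hj2, hjy]
      exact inv_mem (Subgroup.mem_zpowers y)
    have h2 : 2 ∣ Nat.card ↥(X ⊓ N) := by
      rw [← orderOf_eq_prime (p := 2) (by rw [pow_two]; exact hj2) hjy1]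
      exact Subgroup.orderOf_dvd_natCard _ ⟨hjX, hjN⟩
    have h5 : 5 ∣ Nat.card ↥(X ⊓ N) := hRc ▸ Subgroup.card_dvd_of_le
      (le_inf Subgroup.le_normalizer (Subgroup.map_subtype_le _))
    exact Nat.Coprime.mul_dvd_of_dvd_of_dvd (by norm_num : Nat.Coprime 2 5) h2 h5
  by_contra hne
  have hi2 : N.index = 2 := by
    have h1 := hidx X hsupR
    obtain ⟨c, hc⟩ := hX10
    rw [hc] at h1
    have h4 : N.index * (10 * c) ∣ 20 := h1 ▸ hX20
    have h5 : 10 * N.index ∣ 10 * 2 := dvd_trans ⟨c, by ring⟩ h4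
    rcases (Nat.dvd_prime Nat.prime_two).1 (Nat.dvd_of_mul_dvd_mul_left (by norm_num) h5) with h6 | h6
    · exact absurd (Subgroup.index_eq_one.1 h6) hne
    · exact h6
  have hmul2 : ∀ a b : G, a ∉ N → b ∉ N → a * b ∈ N := fun a b ha hb =>
    (Subgroup.mul_mem_iff_of_index_two hi2).2 (iff_of_false ha hb)
  have hodd : ∀ z : G, Odd (orderOf z) → z ∈ N := by
    rintro z ⟨m, hm⟩
    by_contra hz
    have h1 : z ^ (2 * m) ∈ N := by rw [pow_mul]; exact pow_mem (pow_two z ▸ hmul2 z z hz hz) m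
    have h3 : z ^ (2 * m) * z = 1 := by rw [← pow_succ, ← hm, pow_orderOf_eq_one]
    exact hz (by rw [eq_inv_of_mul_eq_one_right h3]; exact inv_mem h1)
  -- no involution outside
  have hno : ∀ t : G, orderOf t = 2 → t ∈ N := by
    intro t ht
    by_contra htN
    obtain ⟨x, hx1, hxo, hxt⟩ := Solv.exists_odd_inverted ht (by
      rw [hcore, Subgroup.mem_bot]; intro e1; rw [e1] at htN; exact htN (one_mem N))
    have hp : x ^ 3 = 1 ∧ orderOf x = 3 ∨ x ^ 5 = 1 ∧ orderOf x = 5 := by
      rcases cases_order h x with e1 | e1 | e1 | e1 | e1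
      · exact absurd (orderOf_eq_one_iff.1 e1) hx1
      · rw [e1] at hxo; exact absurd hxo (by decide)
      · exact Or.inl ⟨e1 ▸ pow_orderOf_eq_one x, e1⟩
      · rw [e1] at hxo; exact absurd hxo (by decide)
      · exact Or.inr ⟨e1 ▸ pow_orderOf_eq_one x, e1⟩
    obtain ⟨j, hjN, hj2, hjx⟩ := hreal x (hodd x hxo) (hp.imp And.left And.left)
    have htt : t⁻¹ = t := inv_eq_of_mul_eq_one_right (orderOf_two_iff.1 ht).1
    have htx : t * x * t = x⁻¹ := by rw [← hxt, htt]
    have hcm : Commute (t * j) x := by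
      have h1 : t * j * x = x * (t * j) := by
        calc t * j * x = t * (j * x * j) * j⁻¹ := by group
          _ = t * x⁻¹ * j := by rw [hjx, inv_eq_of_mul_eq_one_right hj2]
          _ = t * (t * x * t) * j := by rw [htx]
          _ = t * t * (x * (t * j)) := by group
          _ = x * (t * j) := by rw [(orderOf_two_iff.1 ht).1, one_mul]
      exact h1
    refine htN ?_
    have htjN : t * j ∈ N := hodd _ (by
      rcases cases_order h (t * j) with e1 | e1 | e1 | e1 | e1 <;> rw [e1]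
      · decide
      · exfalso
        rcases hp with ⟨-, e2⟩ | ⟨-, e2⟩ <;>
          (have := h ((t * j) * x)
           rw [hcm.orderOf_mul_eq_mul_orderOf_of_coprime (by rw [e1, e2]; norm_num), e1, e2] at this
           omega)
      · decide
      · exfalso
        rcases hp with ⟨-, e2⟩ | ⟨-, e2⟩ <;>
          (have := h ((t * j) * x)
           rw [hcm.orderOf_mul_eq_mul_orderOf_of_coprime (by rw [e1, e2]; norm_num), e1, e2] at this
           omega)
      · decide)
    simpa using N.mul_mem htjN (N.inv_mem hjN)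
  -- outer elements of order four
  obtain ⟨r₀, b₀, m1, m2, m3, m4, m5⟩ := alt_six_four
  set r := ((e.symm r₀ : N) : G) with hr
  set b := ((e.symm b₀ : N) : G) with hb
  have hrN : r ∈ N := (e.symm r₀).2
  have hbN : b ∈ N := (e.symm b₀).2
  let ψ : ↥(alternatingGroup (Fin 6)) →* G := N.subtype.comp e.symm.toMonoidHom
  have hψ : Function.Injective ψ := N.subtype_injective.comp e.symm.injective
  have hr4 : r ^ 4 = 1 := by show ψ r₀ ^ 4 = 1; rw [← map_pow, m1, map_one]
  have hr2 : r * r ≠ 1 := fun e1 => m2 (hψ (by rw [map_mul, map_one]; exact e1))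
  have hbr : b * r * b = r⁻¹ := by
    show ψ b₀ * ψ r₀ * ψ b₀ = (ψ r₀)⁻¹
    rw [← map_mul, ← map_mul, m4, map_inv]
  have hb2 : b * b = 1 := by show ψ b₀ * ψ b₀ = 1; rw [← map_mul, m3, map_one]
  have hb1 : b ≠ 1 := fun e1 => by
    rw [e1, one_mul, mul_one] at hbr
    exact hr2 (by nth_rewrite 2 [hbr]; rw [mul_inv_cancel])
  have hcent : ∀ z ∈ N, Commute z r → z = 1 ∨ z = r ∨ z = r * r ∨ z = r * r * r := by
    intro z hz hc
    have := m5 (e ⟨z, hz⟩) (hψ (by
      rw [map_mul, map_mul]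
      show ((e.symm (e ⟨z, hz⟩) : N) : G) * r = r * ((e.symm (e ⟨z, hz⟩) : N) : G)
      rw [MulEquiv.symm_apply_apply]
      exact hc))
    have hz' : ψ (e ⟨z, hz⟩) = z := congrArg Subtype.val (e.symm_apply_apply ⟨z, hz⟩)
    rcases this with e1 | e1 | e1 | e1 <;> rw [e1] at hz'
    · exact Or.inl (by rw [← hz', map_one])
    · exact Or.inr (Or.inl hz'.symm)
    · exact Or.inr (Or.inr (Or.inl (by rw [← hz', map_mul]; rfl)))
    · exact Or.inr (Or.inr (Or.inr (by rw [← hz', map_mul, map_mul]; rfl)))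
  -- the two-subgroup containing the configuration
  set D := Subgroup.closure ({r, b} : Set G) with hD
  have hDN : D ≤ N := (Subgroup.closure_le N).2 (by rintro z (hz | hz) <;> rw [hz] <;> assumption)
  have hro : orderOf r = 4 := orderOf_eq_prime_pow (p := 2) (n := 1) (by rw [pow_one, pow_two]; exact hr2) hr4
  have hbo : orderOf b = 2 := orderOf_two_iff.2 ⟨hb2, hb1⟩
  have hbn : b ∈ Subgroup.normalizer ((Subgroup.zpowers r : Subgroup G) : Set G) := mem_normalizer_zpowers (by
    rw [inv_eq_of_mul_eq_one_right hb2, hbr]; exact inv_mem (Subgroup.mem_zpowers r))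
  have hD' : D = Subgroup.zpowers r ⊔ Subgroup.zpowers b := by
    rw [hD, Subgroup.zpowers_eq_closure, Subgroup.zpowers_eq_closure, ← Subgroup.closure_union, Set.singleton_union]
  have hD2 : IsPGroup 2 D := hD' ▸ IsPGroup.to_sup_of_normal_left'
    (IsPGroup.of_card (n := 2) (by rw [Nat.card_zpowers, hro]; norm_num))
    (IsPGroup.of_card (n := 1) (by rw [Nat.card_zpowers, hbo]; norm_num))
    (Subgroup.zpowers_le.2 hbn)
  obtain ⟨S, hS⟩ := hD2.exists_le_sylow
  have hSc : Nat.card (S : Subgroup G) = 16 := by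
    rw [S.card_eq_multiplicity, hcG, hi2, Nat.factorization_def _ Nat.prime_two,
      show (360 : ℕ) * 2 = 2 ^ 4 * 45 by norm_num, padicValNat.mul (by norm_num) (by norm_num),
      padicValNat.prime_pow, padicValNat.eq_zero_of_not_dvd (by norm_num)]
    norm_num
  have hSN : Nat.card ↥((S : Subgroup G) ⊓ N) ∣ 8 := by
    obtain ⟨k, hk⟩ := IsPGroup.iff_card.1 (S.isPGroup'.to_le (inf_le_left : (S : Subgroup G) ⊓ N ≤ S))
    have hd : 2 ^ k ∣ 360 := hk ▸ hcN ▸ Subgroup.card_dvd_of_le inf_le_right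
    rcases lt_or_ge k 4 with h4 | h4
    · exact hk ▸ pow_dvd_pow 2 (show k ≤ 3 by omega)
    · exact absurd ((pow_dvd_pow 2 h4).trans hd) (by norm_num)
  obtain ⟨x, hxS, hxN⟩ : ∃ x ∈ (S : Subgroup G), x ∉ N := by
    by_contra hh
    push Not at hh
    have : (S : Subgroup G) ⊓ N = S := inf_eq_left.2 hh
    rw [this, hSc] at hSN
    norm_num at hSN
  have hrS : r ∈ (S : Subgroup G) := hS (Subgroup.subset_closure (Or.inl rfl))
  have hbS : b ∈ (S : Subgroup G) := hS (Subgroup.subset_closure (Or.inr rfl))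
  -- the cyclic subgroup of order four is unique
  have hbnot : b ∉ Subgroup.zpowers r := fun hb' => by
    obtain ⟨i, hi⟩ := Subgroup.mem_zpowers_iff.1 hb'
    have : Commute b r := hi ▸ (Commute.refl r).zpow_left i
    have h1 : r = r⁻¹ := by rw [← hbr, this.eq, mul_assoc, hb2, mul_one]
    exact hr2 (by nth_rewrite 2 [h1]; rw [mul_inv_cancel])
  have hDle : D ≤ (S : Subgroup G) ⊓ N := le_inf hS hDN
  have hDc : 4 < Nat.card D := by
    have hlt : Subgroup.zpowers r < D := lt_of_le_of_ne (Subgroup.zpowers_le.2 (Subgroup.subset_closure (Or.inl rfl)))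
      fun e1 => hbnot (e1 ▸ Subgroup.subset_closure (Or.inr rfl))
    have := Solv.card_lt_of_lt hlt
    rwa [Nat.card_zpowers, hro] at this
  have hDeq : D = (S : Subgroup G) ⊓ N := by
    refine Subgroup.eq_of_le_of_card_ge hDle ?_
    obtain ⟨k, hk⟩ := IsPGroup.iff_card.1 hD2
    have := Nat.le_of_dvd (by norm_num) hSN
    rcases lt_or_ge k 3 with h3 | h3
    · have := Nat.pow_le_pow_right (show 0 < 2 by norm_num) (show k ≤ 2 by omega)
      omega
    · have := Nat.pow_le_pow_right (show 0 < 2 by norm_num) h3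
      omega
  have hxr : x * r * x⁻¹ ∈ Subgroup.zpowers r := by
    have hmem : x * r * x⁻¹ ∈ Subgroup.zpowers r ⊔ Subgroup.zpowers b := by
      rw [← hD', hDeq]
      exact ⟨(S : Subgroup G).mul_mem ((S : Subgroup G).mul_mem hxS hrS) ((S : Subgroup G).inv_mem hxS), Subgroup.Normal.conj_mem inferInstance r hrN x⟩
    rw [← SetLike.mem_coe, Subgroup.coe_mul_of_right_le_normalizer_left _ _ (Subgroup.zpowers_le.2 hbn)] at hmem
    obtain ⟨p, hp, q, hq, hpq⟩ := hmem
    obtain ⟨i, rfl⟩ := Subgroup.mem_zpowers_iff.1 hp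
    obtain ⟨l, rfl⟩ := Subgroup.mem_zpowers_iff.1 hq
    simp only at hpq
    rcases Int.even_or_odd' l with ⟨m, rfl | rfl⟩
    · rw [zpow_mul, show b ^ (2 : ℤ) = 1 by rw [zpow_two, hb2], one_zpow, mul_one] at hpq
      exact hpq ▸ Subgroup.zpow_mem _ (Subgroup.mem_zpowers r) i
    · exfalso
      rw [zpow_add_one, zpow_mul, show b ^ (2 : ℤ) = 1 by rw [zpow_two, hb2], one_zpow, one_mul] at hpq
      have hinv : b * r ^ i * b = (r ^ i)⁻¹ := by
        calc b * r ^ i * b = b * r ^ i * b⁻¹ := by rw [inv_eq_of_mul_eq_one_right hb2]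
          _ = (b * r * b⁻¹) ^ i := conj_zpow.symm
          _ = (r ^ i)⁻¹ := by rw [inv_eq_of_mul_eq_one_right hb2, hbr, inv_zpow]
      have h1 : (x * r * x⁻¹) ^ 2 = 1 := by
        rw [← hpq, pow_two, show r ^ i * b * (r ^ i * b) = r ^ i * (b * r ^ i * b) by group, hinv, mul_inv_cancel]
      rw [conj_pow, ← mul_inv_cancel x] at h1
      have : r ^ 2 = 1 := by
        have := congrArg (fun z => x⁻¹ * z * x) h1
        simpa [mul_assoc] using this
      exact hr2 (by rwa [← pow_two])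
  have hnor : ∀ y : G, y ∉ N → ¬ Commute y r := by
    intro y hy hc
    have hyy : y * y ∈ N := hmul2 y y hy hy
    have hrr4 : r * r * (r * r) = 1 := by rw [← hr4]; simp [pow_succ, mul_assoc]
    have hy4 : ∀ z, z ∉ N → z * z * (z * z) = 1 := by
      intro z hz
      have : orderOf z ∣ 4 := by
        rcases cases_order h z with e1 | e1 | e1 | e1 | e1 <;> rw [e1] <;> norm_num
        · exact hz (hodd z (by rw [e1]; decide))
        · exact hz (hodd z (by rw [e1]; decide))
      obtain ⟨c, hc⟩ := this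
      rw [show z * z * (z * z) = z ^ 4 by simp [pow_succ, mul_assoc], hc, pow_mul, pow_orderOf_eq_one, one_pow]
    have hyno : ∀ z, z ∉ N → z * z ≠ 1 := fun z hz e1 =>
      hz (hno z (orderOf_two_iff.2 ⟨e1, fun e2 => hz (e2 ▸ one_mem N)⟩))
    rcases hcent _ hyy (hc.mul_left hc) with e1 | e1 | e1 | e1
    · exact hyno y hy e1
    · exact hr2 (by rw [← e1]; exact hy4 y hy)
    · have hy' : y * r ∉ N := fun hh => hy ((N.mul_mem_cancel_right hrN).1 hh)
      refine hyno _ hy' ?_
      rw [show y * r * (y * r) = y * (r * y) * r by group, ← hc.eq,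
        show y * (y * r) * r = (y * y) * (r * r) by group, e1, hrr4]
    · refine hr2 ?_
      have := hy4 y hy
      rw [e1, show r * r * r * (r * r * r) = r * r * (r * r) * (r * r) by group, hrr4, one_mul] at this
      exact this
  obtain ⟨i, hi⟩ := Subgroup.mem_zpowers_iff.1 hxr
  have hi' : r ^ i = r ^ (i % 4) := by rw [← zpow_mod_orderOf r i, hro]; norm_num
  have hm4 : i % 4 = 0 ∨ i % 4 = 1 ∨ i % 4 = 2 ∨ i % 4 = 3 := by omega
  have hxo : orderOf (x * r * x⁻¹) = 4 := by
    rw [← MulAut.conj_apply, MulEquiv.orderOf_eq, hro]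
  rcases hm4 with e1 | e1 | e1 | e1 <;> rw [hi', e1] at hi
  · rw [← hi, zpow_zero, orderOf_one] at hxo; omega
  · rw [zpow_one] at hi
    exact hnor x hxN (mul_inv_eq_iff_eq_mul.1 hi.symm)
  · have : orderOf (x * r * x⁻¹) ∣ 2 := orderOf_dvd_of_pow_eq_one (by
      rw [← hi, pow_two, ← zpow_add]; exact_mod_cast hr4)
    rw [hxo] at this
    norm_num at this
  · have hi3 : x * r * x⁻¹ = r⁻¹ := by
      rw [← hi]
      exact eq_inv_of_mul_eq_one_left (by rw [← zpow_add_one]; exact_mod_cast hr4)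
    refine hnor (b * x) (fun hh => hxN ((N.mul_mem_cancel_left hbN).1 hh)) ?_
    show b * x * r = r * (b * x)
    calc b * x * r = b * (x * r * x⁻¹) * x := by group
      _ = b * (b * r * b) * x := by rw [hi3, hbr]
      _ = (b * b) * (r * (b * x)) := by group
      _ = r * (b * x) := by rw [hb2, one_mul]

/-- The structure theorem. -/
theorem structure_theorem (h : Le5 G) (h2 : ∃ g : G, orderOf g = 2) (h3 : ∃ g : G, orderOf g = 3)
    (h5 : ∃ g : G, orderOf g = 5) :
    Nonempty (G ≃* ↥(alternatingGroup (Fin 6))) ∨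
      ∃ (N : Subgroup G) (_ : N.Normal), Cfsg.IsElementaryAbelian 2 N ∧
        Nonempty (G ⧸ N ≃* ↥(alternatingGroup (Fin 5))) := by
  classical
  haveI : Fact (Nat.Prime 2) := ⟨Nat.prime_two⟩
  have hC := cit h
  have hd : ∀ p, (∃ g : G, orderOf g = p) → p ∣ Nat.card G := fun p ⟨g, hg⟩ => hg ▸ orderOf_dvd_natCard g
  have hns : ¬ Group.IsSolvable G := by
    intro hs
    have hle := Solv.EPPO.solvable_primes_le_two (ipp h) (⊤ : Subgroup G) inferInstance
    rw [Subgroup.card_top] at hle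
    have hsub : ({2, 3, 5} : Finset ℕ) ⊆ (Nat.card G).primeFactors := by
      intro p hp
      simp only [Finset.mem_insert, Finset.mem_singleton] at hp
      rcases hp with rfl | rfl | rfl
      · exact Nat.mem_primeFactors.2 ⟨Nat.prime_two, hd 2 h2, Nat.card_pos.ne'⟩
      · exact Nat.mem_primeFactors.2 ⟨Nat.prime_three, hd 3 h3, Nat.card_pos.ne'⟩
      · exact Nat.mem_primeFactors.2 ⟨Nat.prime_five, hd 5 h5, Nat.card_pos.ne'⟩
    have := Finset.card_le_card hsub
    have h3c : ({2, 3, 5} : Finset ℕ).card = 3 := rfl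
    omega
  set Q := Cfsg.pCore 2 G with hQ
  haveI := Solv.pCore_normal (G := G) 2
  by_cases hcore : Q = ⊥
  swap
  · obtain ⟨hs, hna, hB⟩ := hC.top hns hcore (below_all _)
    haveI := hs
    have h60 := card_of_bor (h.quotient Q) hB
    obtain ⟨e⟩ := Lie.simple_sixty h60
    have hcom := CIT.normal_two_abelian _ G rfl hC Q (Solv.pCore_isPGroup 2) hs hna (by rw [h60]; norm_num)
    exact Or.inr ⟨Q, inferInstance, ⟨hcom, fun a ha => by
      rw [pow_two]
      first
        | exact core_sq h Q (Solv.pCore_isPGroup 2) hcom e a ha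
        | exact Subtype.ext (core_sq h Q (Solv.pCore_isPGroup 2) hcom e a a.2)⟩, ⟨e⟩⟩
  haveI : Nontrivial G := by
    obtain ⟨g, hg⟩ := h2
    exact ⟨⟨g, 1, fun e => by rw [e, orderOf_one] at hg; omega⟩⟩
  obtain ⟨N, hNn, hN1, hmin'⟩ := Solv.exists_minimal_normal (G := G)
  haveI := hNn
  obtain ⟨hs, hna, hN2, -⟩ := hC.minimal_simple hns (hd 2 h2) hcore hN1
    (fun M hM hM1 hle => (hmin' M hM hle).resolve_left hM1)
  haveI := hs
  have hLN : Le5 N := fun g => by rw [← Subgroup.orderOf_coe]; exact h g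
  rcases classify hna (hC.subgroup N) hN2 (below_all _) with hB | ⟨F, _, _, hF, ⟨e⟩⟩ |
      ⟨hDih, F, _, _, hF, ⟨e⟩⟩
  · have htop := hC.eq_top_of_bor hB
    have h60 := card_of_bor hLN hB
    subst htop
    obtain ⟨eA⟩ := Lie.simple_sixty h60
    refine Or.inr ⟨⊥, inferInstance, ?_, ⟨QuotientGroup.quotientBot.trans (Subgroup.topEquiv.symm.trans eA)⟩⟩
    exact ⟨inferInstance, fun a ha => by
      first
        | (rw [Subgroup.mem_bot.1 ha, one_pow])
        | exact Subsingleton.elim _ _⟩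
  · exfalso
    have h7 : 7 ∣ Nat.card N := by
      rw [Nat.card_congr e.toEquiv, Spor.PlaneAut.card_psl34 hF]; norm_num
    haveI : Fact (Nat.Prime 7) := ⟨by norm_num⟩
    obtain ⟨g, hg⟩ := exists_prime_orderOf_dvd_card' 7 h7
    have := hLN g
    omega
  · have hcard := Classical.Dickson.card_psl F
    rw [← Nat.card_congr e.toEquiv] at hcard
    obtain ⟨u₀, b₀, -, -, hu, hb, hbu, -⟩ := hDih
    rcases hF with h9 | ⟨hp, k, hk⟩
    · rw [h9] at hcard
      norm_num at hcard
      obtain ⟨eA⟩ := S0497.result (G := N) (by omega)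
      have htop := eq_top_of_alt_six h hcore N eA
      subst htop
      exact Or.inl ⟨Subgroup.topEquiv.symm.trans eA⟩
    · exfalso
      have hp5 : Fintype.card F ≤ 5 := by
        haveI := Fact.mk hp
        have hdp : Fintype.card F ∣ Nat.card N := by
          rcases Nat.lt_or_ge (Fintype.card F) 3 with h' | h'
          · have h2' : Fintype.card F = 2 := by have := hp.two_le; omega
            exact h2'.symm ▸ hN2
          · have := hcard ▸ dvd_mul_right (Fintype.card F) (Fintype.card F ^ 2 - 1)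
            refine ((Nat.Prime.dvd_mul hp).1 this).resolve_right fun hh => ?_
            have := Nat.le_of_dvd (by norm_num) (hh.trans (Nat.gcd_dvd_left _ _))
            omega
        obtain ⟨g, hg⟩ := exists_prime_orderOf_dvd_card' (Fintype.card F) hdp
        exact hg ▸ hLN g
      have h4 : 8 ∣ Nat.card N := by
        have hbn : b₀ ∈ Subgroup.normalizer ((Subgroup.zpowers u₀ : Subgroup N) : Set N) :=
          mem_normalizer_zpowers (by rw [hbu]; exact inv_mem (Subgroup.mem_zpowers u₀))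
        have hP : IsPGroup 2 ↥(Subgroup.zpowers u₀ ⊔ Subgroup.zpowers b₀) := IsPGroup.to_sup_of_normal_left'
          (IsPGroup.of_card (n := 2) (by rw [Nat.card_zpowers, hu]; norm_num))
          (IsPGroup.of_card (n := 1) (by rw [Nat.card_zpowers, hb]; norm_num))
          (Subgroup.zpowers_le.2 hbn)
        have hb' : b₀ ∉ Subgroup.zpowers u₀ := fun hh => by
          obtain ⟨i, hi⟩ := Subgroup.mem_zpowers_iff.1 hh
          have hc : Commute b₀ u₀ := hi ▸ (Commute.refl u₀).zpow_left i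
          rw [hc.eq, mul_inv_cancel_right] at hbu
          have := orderOf_dvd_of_pow_eq_one (show u₀ ^ 2 = 1 by rw [pow_two]; nth_rewrite 2 [hbu]; rw [mul_inv_cancel])
          rw [hu] at this
          norm_num at this
        have hlt := Solv.card_lt_of_lt (lt_of_le_of_ne (le_sup_left (b := Subgroup.zpowers b₀)) fun e1 =>
          hb' (e1.ge ((le_sup_right (a := Subgroup.zpowers u₀)) (Subgroup.mem_zpowers b₀))))
        rw [Nat.card_zpowers, hu] at hlt
        obtain ⟨j, hj⟩ := IsPGroup.iff_card.1 hP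
        have hj3 : 3 ≤ j := by
          by_contra hh
          have := Nat.pow_le_pow_right (show 0 < 2 by norm_num) (show j ≤ 2 by omega)
          omega
        exact (pow_dvd_pow 2 hj3).trans (hj ▸ Subgroup.card_subgroup_dvd_card _)
      obtain ⟨c, hc⟩ := h4
      have := hp.two_le
      interval_cases hq : Fintype.card F <;> norm_num at hcard <;> first | omega | (norm_num at hp)

end Cfsg.Agent.Solv.CITGroups.OrdFive
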