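import Cfsg.Agent.Lib.Solv.CIT.OrdersFive
import Cfsg.Agent.Lib.Solv.CIT.Semiregular
import Cfsg.Agent.Lib.Small.PSL2
import Cfsg.Agent.Lib.Classical.Dickson.Tools
import Cfsg.Agent.Lib.Solv.Hall
import Cfsg.Agent.S2904

/-!
Groups with the prime graph of `PSL(2, 2 ^ m)`.
-/

set_option autoImplicit false
set_option linter.style.haveILetI false
set_option linter.unusedSectionVars false

namespace Cfsg.Agent.Solv.CITGroups.GraphLTwo

open Cfsg Cfsg.Agent Cfsg.Agent.Small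

universe u

section Arith

/-- A primitive prime divisor of `2 ^ n - 1`. -/
def Prim (r n : ℕ) : Prop := r.Prime ∧ r ≠ 2 ∧ r ∣ 2 ^ n - 1 ∧ ∀ e : ℕ, r ∣ 2 ^ e - 1 → n ∣ e

theorem two_pow_pred_odd {r e : ℕ} (he : 0 < e) (h : r ∣ 2 ^ e - 1) : r ≠ 2 := by
  rintro rfl
  have h2 : 2 ∣ 2 ^ e := dvd_pow_self 2 he.ne'
  have := Nat.one_le_two_pow (n := e)
  omega

theorem exists_prim {n : ℕ} (hn : 1 < n) (h6 : n ≠ 6) (h2 : n ≠ 2) : ∃ r, Prim r n := by
  obtain ⟨r, hr, hd, hmin⟩ := S2904.result 2 n (by norm_num) hn (fun h => h6 h.2) (fun h => h2 h.1)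
  refine ⟨r, hr, two_pow_pred_odd (by omega) hd, hd, fun e he => ?_⟩
  have hg := Nat.dvd_gcd hd he
  rw [Nat.pow_sub_one_gcd_pow_sub_one] at hg
  have hle : Nat.gcd n e ≤ n := Nat.gcd_le_left e (by omega)
  have hpos : 0 < Nat.gcd n e := Nat.gcd_pos_of_pos_left _ (by omega)
  rcases lt_or_eq_of_le hle with hlt | heq
  · exact absurd hg (hmin _ hpos hlt)
  · exact heq ▸ Nat.gcd_dvd_right n e

theorem Prim.succ_le {r n : ℕ} (h : Prim r n) : n + 1 ≤ r := by
  haveI := Fact.mk h.1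
  have hd : r ∣ 2 ^ (r - 1) - 1 := by
    rw [← ZMod.natCast_eq_zero_iff, Nat.cast_sub Nat.one_le_two_pow]
    push_cast
    rw [sub_eq_zero]
    refine ZMod.pow_card_sub_one_eq_one ?_
    intro h0
    have h1 : ((2 : ℕ) : ZMod r) = 0 := by push_cast; exact h0
    rw [ZMod.natCast_eq_zero_iff] at h1
    exact h.2.1 ((Nat.prime_dvd_prime_iff_eq h.1 Nat.prime_two).1 h1)
  have := Nat.le_of_dvd (by have := h.1.two_le; omega) (h.2.2.2 _ hd)
  have := h.1.two_le
  omega

theorem sq_pred (a : ℕ) : (2 ^ a) ^ 2 - 1 = (2 ^ a + 1) * (2 ^ a - 1) := by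
  have := Nat.sq_sub_sq (2 ^ a) 1
  rwa [one_pow] at this

theorem dvd_double {l a : ℕ} (h : l ∣ 2 ^ a + 1) : l ∣ 2 ^ (2 * a) - 1 := by
  rw [mul_comm, pow_mul, sq_pred]
  exact h.mul_right _

theorem Prim.dvd_succ {r m : ℕ} (h : Prim r (2 * m)) (hm : 0 < m) : r ∣ 2 ^ m + 1 := by
  have h1 := h.2.2.1
  rw [mul_comm, pow_mul, sq_pred] at h1
  refine (h.1.dvd_mul.1 h1).resolve_right fun h2 => ?_
  have := Nat.le_of_dvd hm (h.2.2.2 _ h2)
  omega

theorem fermat_ord {k p e : ℕ} (hp : p = 2 ^ k + 1) (h : p ∣ 2 ^ e - 1) (hk : 0 < k) : 2 * k ∣ e :=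
  two_mul_dvd_of_succ hk.ne' (hp ▸ h)

theorem mersenne_ord {k p e : ℕ} (hp : p = 2 ^ k - 1) (h : p ∣ 2 ^ e - 1) : k ∣ e :=
  dvd_of_two_pow_pred (hp ▸ h)

/-- No Fermat or Mersenne prime accounts for both kinds of divisors. -/
theorem no_fermat {m p k : ℕ} (hm : 4 ≤ m) (hk : 2 ≤ k) (hp : p.Prime) (hpk : p = 2 ^ k + 1 ∨ p + 1 = 2 ^ k)
    (hpd : p ∣ 2 ^ (2 * m) - 1)
    (hsub : ∀ l : ℕ, l.Prime → l ≠ 2 → l ∣ 2 ^ (2 * m) - 1 → l = p ∨ l ∣ p - 1 ∨ l ∣ p + 1) : False := by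
  obtain ⟨r, hr⟩ := exists_prim (n := 2 * m) (by omega) (by omega) (by omega)
  have hodd : ∀ l : ℕ, l.Prime → l ≠ 2 → ∀ a, l ∣ 2 * a → l ∣ a := fun l hl hl2 a h =>
    (hl.dvd_mul.1 h).resolve_left fun h2 => hl2 ((Nat.prime_dvd_prime_iff_eq hl Nat.prime_two).1 h2)
  have hpow : ∀ l : ℕ, l.Prime → l ≠ 2 → ¬ l ∣ 2 ^ k := fun l hl hl2 h =>
    hl2 ((Nat.prime_dvd_prime_iff_eq hl Nat.prime_two).1 (hl.dvd_of_dvd_pow h))
  have h2k : 2 ^ k = 2 * 2 ^ (k - 1) := by rw [← pow_succ', Nat.sub_add_cancel (by omega)]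
  have h1le := Nat.one_le_two_pow (n := k - 1)
  rcases hpk with hpk | hpk
  · have hk2 : 2 * k ∣ 2 * m := fermat_ord hpk hpd (by omega)
    have hkm : k ∣ m := Nat.dvd_of_mul_dvd_mul_left two_pos hk2
    have hord : ∀ l : ℕ, l.Prime → l ≠ 2 → l ∣ 2 ^ (2 * m) - 1 → l = p ∨ l ∣ 2 ^ (2 * (k - 1)) - 1 := by
      intro l hl hl2 hd
      rcases hsub l hl hl2 hd with h | h | h
      · exact Or.inl h
      · rw [hpk, Nat.add_sub_cancel] at h
        exact absurd h (hpow l hl hl2)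
      · refine Or.inr (dvd_double (hodd l hl hl2 _ ?_))
        rwa [show 2 * (2 ^ (k - 1) + 1) = p + 1 by omega]
    rcases hord r hr.1 hr.2.1 hr.2.2.1 with rfl | h
    · have h1 : 2 * m ∣ 2 * k := hr.2.2.2 _ (hpk ▸ dvd_double dvd_rfl)
      have hmk : m = k := Nat.dvd_antisymm (Nat.dvd_of_mul_dvd_mul_left two_pos h1) hkm
      subst hmk
      have h6 : m ≠ 6 := by
        rintro rfl
        rw [hpk] at hp
        norm_num at hp
      obtain ⟨s, hs⟩ := exists_prim (n := m) (by omega) h6 (by omega)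
      have hsd : s ∣ 2 ^ (2 * m) - 1 := by
        rw [mul_comm, pow_mul, sq_pred]
        exact hs.2.2.1.mul_left _
      rcases hord s hs.1 hs.2.1 hsd with rfl | h
      · have := Nat.le_of_dvd (by omega) (fermat_ord hpk hs.2.2.1 (by omega))
        omega
      · have h3 := hs.2.2.2 _ h
        have h4 : m ∣ 2 * m := dvd_mul_left m 2
        have h5 := Nat.dvd_sub h4 h3
        rw [show 2 * m - 2 * (m - 1) = 2 by omega] at h5
        have := Nat.le_of_dvd two_pos h5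
        omega
    · have h1 := hr.2.2.2 _ h
      have h2 : m ∣ k - 1 := Nat.dvd_of_mul_dvd_mul_left two_pos h1
      have := Nat.le_of_dvd (by omega) (hkm.trans h2)
      omega
  · have hpk' : p = 2 ^ k - 1 := by omega
    have hk2 : k ∣ 2 * m := mersenne_ord hpk' hpd
    have hord : ∀ l : ℕ, l.Prime → l ≠ 2 → l ∣ 2 ^ (2 * m) - 1 → l = p ∨ l ∣ 2 ^ (k - 1) - 1 := by
      intro l hl hl2 hd
      rcases hsub l hl hl2 hd with h | h | h
      · exact Or.inl h
      · refine Or.inr (hodd l hl hl2 _ ?_)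
        rwa [show 2 * (2 ^ (k - 1) - 1) = p - 1 by omega]
      · rw [hpk] at h
        exact absurd h (hpow l hl hl2)
    rcases hord r hr.1 hr.2.1 hr.2.2.1 with rfl | h
    · have h1 : 2 * m ∣ k := hr.2.2.2 _ (hpk' ▸ dvd_rfl)
      have hmk : k = 2 * m := Nat.dvd_antisymm hk2 h1
      have h2 : r = (2 ^ m + 1) * (2 ^ m - 1) := by rw [hpk', hmk, mul_comm, pow_mul, sq_pred]
      have h16 : 2 ^ 4 ≤ 2 ^ m := Nat.pow_le_pow_right two_pos hm
      have := hr.1
      rw [h2] at this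
      exact Nat.not_prime_mul (by omega) (by omega) this
    · have h1 := Nat.le_of_dvd (by omega) (hk2.trans (hr.2.2.2 _ h))
      omega

end Arith

section Model

variable {F : Type*} [Field F] [Fintype F]

local notation "P2" => Matrix.ProjectiveSpecialLinearGroup (Fin 2) F

theorem char_two {m : ℕ} (hm : 0 < m) (hF : Fintype.card F = 2 ^ m) : (2 : F) = 0 := by
  have h := Nat.cast_card_eq_zero F
  rw [hF, Nat.cast_pow, Nat.cast_ofNat] at h
  exact (pow_eq_zero_iff hm.ne').1 h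

theorem card_model {m : ℕ} (hm : 0 < m) (hF : Fintype.card F = 2 ^ m) :
    Nat.card P2 = 2 ^ m * ((2 ^ m + 1) * (2 ^ m - 1)) := by
  have h := Classical.Dickson.card_psl F
  rw [Classical.Dickson.gcd_eq_one_of_even (char_two hm hF), mul_one, hF, sq_pred] at h
  exact h

/-- The centralizers of involutions are two-groups. -/
theorem cit_model {m : ℕ} (hF : Fintype.card F = 2 ^ m) : CIT P2 := by
  classical
  haveI : Fact (Nat.Prime 2) := ⟨Nat.prime_two⟩
  haveI : Finite P2 := Finite.of_surjective _ PSL2.pr_surjective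
  intro t ht
  obtain ⟨S, hS⟩ := (IsPGroup.of_card (p := 2) (n := 1) (G := Subgroup.zpowers t)
    (by rw [Nat.card_zpowers, ht, pow_one])).exists_le_sylow
  let S₀ : Sylow 2 P2 :=
    { toSubgroup := PSL2.U
      isPGroup' := PSL2.isPGroup_U hF
      is_maximal' := fun hQ hle => PSL2.U_maximal hQ hle }
  obtain ⟨g, hg⟩ := MulAction.exists_smul_eq P2 S S₀
  have h1 : g * t * g⁻¹ ∈ (S₀ : Subgroup P2) := by
    rw [← hg, Sylow.coe_subgroup_smul]
    exact Subgroup.smul_mem_pointwise_smul _ (MulAut.conj g) _ (hS (Subgroup.mem_zpowers t))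
  obtain ⟨x, hx⟩ := (PSL2.mem_U _).1 h1
  have ht1 : t ≠ 1 := fun e => by rw [e, orderOf_one] at ht; omega
  have hx0 : x ≠ 0 := by
    rintro rfl
    refine ht1 (conj_eq_one_iff.1 (hx.symm.trans ?_))
    exact map_one PSL2.uP
  rintro ⟨y, hy⟩
  have hc : Commute y t := Subgroup.mem_centralizer_singleton_iff.1 hy
  have h2 : g * y * g⁻¹ ∈ PSL2.U := by
    refine PSL2.mem_U_of_commute hx0 ?_
    rw [hx]
    exact (Commute.conj_iff g).2 hc
  obtain ⟨j, hj⟩ := PSL2.isPGroup_U hF ⟨_, h2⟩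
  refine ⟨j, Subtype.ext ?_⟩
  have h3 := congrArg Subtype.val hj
  simp only [SubgroupClass.coe_pow, OneMemClass.coe_one, conj_pow, conj_eq_one_iff] at h3
  simpa using h3

/-- Two odd prime element orders with a common cyclic subgroup divide the same torus. -/
theorem edge_model {m : ℕ} (hm : 2 ≤ m) (hF : Fintype.card F = 2 ^ m) {r s : ℕ} (hr : r.Prime) (hs : s.Prime)
    (hr2 : r ≠ 2) (hs2 : s ≠ 2) {y : P2} (hy : orderOf y = r * s) :
    r * s ∣ 2 ^ m - 1 ∨ r * s ∣ 2 ^ m + 1 := by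
  classical
  have h2 := char_two (by omega) hF
  haveI : Finite P2 := Finite.of_surjective _ PSL2.pr_surjective
  have hodd : Odd (r * s) := (hr.odd_of_ne_two hr2).mul (hs.odd_of_ne_two hs2)
  have hcardH : Nat.card (Subgroup.zpowers y) = r * s := by rw [Nat.card_zpowers, hy]
  rcases Classical.Dickson.cases_on (Subgroup.zpowers y) with ⟨k, hk, hkk⟩ | ⟨g, -, hu⟩ | ⟨h, -⟩ | ⟨h, -⟩ | ⟨h, -⟩ |
      ⟨K, j, -, -, ⟨-, hc⟩ | ⟨h, -⟩⟩
  · rw [Classical.Dickson.gcd_eq_one_of_even h2, Nat.div_one, Nat.div_one, hF] at hk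
    rcases hkk with ⟨-, hc⟩ | ⟨-, ⟨e⟩⟩
    · rwa [← hc, hcardH] at hk
    · exfalso
      have := Nat.card_congr e.toEquiv
      rw [hcardH, DihedralGroup.nat_card] at this
      exact Nat.not_even_iff_odd.2 hodd ⟨k, by omega⟩
  · exfalso
    obtain ⟨z, hz, hzu⟩ := hu
    have hzo : orderOf z ∣ r * s := hcardH ▸ Subgroup.orderOf_dvd_natCard _ hz
    have h1 : PSL2.pr (PSL2.uS (1 : F)) * PSL2.pr (PSL2.uS (1 : F)) = 1 := by
      rw [← map_mul, ← PSL2.uS_add, show (1 : F) + 1 = 0 by rw [← h2]; norm_num]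
      exact map_one PSL2.uP
    have hz2 : z * z = 1 := by
      apply (PSL2.conjP g).injective
      rw [map_mul, map_one]
      exact hzu ▸ h1
    have hz1 : z = 1 := by
      have h3 : orderOf z ∣ 2 := orderOf_dvd_of_pow_eq_one (by rw [pow_two, hz2])
      refine orderOf_eq_one_iff.1 (((Nat.dvd_prime Nat.prime_two).1 h3).resolve_right fun e => ?_)
      rw [e] at hzo
      exact Nat.not_even_iff_odd.2 hodd (even_iff_two_dvd.2 hzo)
    rw [hz1, map_one] at hzu
    have := PSL2.pr_uS_inj (x := (1 : F)) (y := 0) (hzu.symm.trans (map_one PSL2.uP).symm)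
    exact one_ne_zero this
  · exact absurd h2 h
  · exact absurd h2 h
  · exact absurd h2 h
  · exfalso
    rw [hcardH] at hc
    refine Nat.not_even_iff_odd.2 hodd ?_
    rw [hc]
    rcases Nat.even_or_odd (Nat.card K) with he | ho
    · exact he.mul_right _
    · refine Even.mul_left ?_ _
      exact Nat.Odd.sub_odd ho.pow odd_one
  · exact absurd h2 h

end Model

section Group

variable {G : Type u} [Group G] [Finite G]

/-- Three primes no two of which are joined force nonsolvability. -/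
theorem not_solvable {a b c : ℕ} (ha : a.Prime) (hb : b.Prime) (hc : c.Prime) (hab : a ≠ b) (hac : a ≠ c) (hbc : b ≠ c)
    (hda : a ∣ Nat.card G) (hdb : b ∣ Nat.card G) (hdc : c ∣ Nat.card G)
    (hno : ∀ p ∈ ({a, b, c} : Finset ℕ), ∀ q ∈ ({a, b, c} : Finset ℕ), p ≠ q → ¬ ∃ g : G, orderOf g = p * q) :
    ¬ Group.IsSolvable G := by
  intro hG
  obtain ⟨m, n, hmn, hco, hm, hn⟩ := exists_pi_split (({a, b, c} : Finset ℕ) : Set ℕ) (Nat.card G) Nat.card_pos.ne'
  obtain ⟨K, hK⟩ := hall_exists hG hmn hco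
  have hpp : ∀ g : K, g ≠ 1 → IsPrimePow (orderOf g) := by
    intro g hg
    have ho : orderOf g ≠ 1 := fun e => hg (orderOf_eq_one_iff.1 e)
    obtain ⟨p, hp, hpd⟩ := Nat.exists_prime_and_dvd ho
    rw [isPrimePow_iff_unique_prime_dvd]
    refine ⟨p, ⟨hp, hpd⟩, fun q ⟨hq, hqd⟩ => ?_⟩
    by_contra hne
    have hdK : orderOf g ∣ m := hK ▸ orderOf_dvd_natCard g
    refine hno p (hm p hp (hpd.trans hdK)) q (hm q hq (hqd.trans hdK)) (Ne.symm hne) ?_
    have hpq : p * q ∣ orderOf g :=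
      ((Nat.coprime_primes hp hq).2 (Ne.symm hne)).mul_dvd_of_dvd_of_dvd hpd hqd
    exact ⟨((g ^ (orderOf g / (p * q)) : K) : G), by
      rw [Subgroup.orderOf_coe, orderOf_pow_orderOf_div (orderOf_pos g).ne' hpq]⟩
  haveI : Group.IsSolvable G := hG
  have hle := EPPO.solvable_primes_le_two hpp (⊤ : Subgroup K) inferInstance
  rw [Subgroup.card_top, hK] at hle
  have hmem : ∀ p ∈ ({a, b, c} : Finset ℕ), p.Prime → p ∣ Nat.card G → p ∈ m.primeFactors := by
    intro p hp hpp' hpd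
    have hm0 : m ≠ 0 := by rw [← hK]; exact Nat.card_pos.ne'
    rw [hmn] at hpd
    exact Nat.mem_primeFactors.2 ⟨hpp', (hpp'.dvd_mul.1 hpd).resolve_right (fun h => hn p hpp' h hp), hm0⟩
  have hsub : ({a, b, c} : Finset ℕ) ⊆ m.primeFactors := by
    intro p hp
    have hp' := hp
    simp only [Finset.mem_insert, Finset.mem_singleton] at hp'
    rcases hp' with rfl | rfl | rfl
    · exact hmem _ hp ha hda
    · exact hmem _ hp hb hdb
    · exact hmem _ hp hc hdc
  have := Finset.card_le_card hsub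
  rw [Finset.card_eq_three.2 ⟨a, b, c, hab, hac, hbc, rfl⟩] at this
  omega

/-- A prime divisor of the order missing a normal subgroup acts without fixed points on one of its Sylow subgroups. -/
theorem outer_prime (hC : CIT G) (N : Subgroup G) [N.Normal] {r : ℕ} (hr : r.Prime) (hr2 : r ≠ 2)
    (hd : r ∣ Nat.card G) (hN2 : 2 ∣ Nat.card N) :
    r ∣ Nat.card N ∨ ∃ j : ℕ, 0 < j ∧ 2 ^ j ∣ Nat.card N ∧ r ∣ 2 ^ j - 1 := by
  haveI : Fact (Nat.Prime 2) := ⟨Nat.prime_two⟩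
  by_cases hN : r ∣ Nat.card N
  · exact Or.inl hN
  right
  obtain ⟨P⟩ : Nonempty (Sylow 2 N) := inferInstance
  set W := (P : Subgroup N).map N.subtype
  set M := Subgroup.normalizer (W : Set G)
  have htop : M ⊔ N = ⊤ := Sylow.normalizer_sup_eq_top P
  have h1 : r ∣ Nat.card M := by
    have h2 := Solv.card_sup_mul_card_inf N M
    rw [sup_comm, htop, Subgroup.card_top] at h2
    exact (hr.dvd_mul.1 (h2 ▸ hd.mul_right _)).resolve_left hN
  obtain ⟨j, hj⟩ := IsPGroup.iff_card.1 P.isPGroup'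
  refine ⟨j, Nat.pos_of_ne_zero fun e => ?_, hj ▸ Subgroup.card_subgroup_dvd_card _, ?_⟩
  · rw [e, pow_zero] at hj
    exact P.ne_bot_of_dvd_card hN2 (Subgroup.card_eq_one.1 hj)
  rw [← hj, ← Solv.card_map_subtype (P : Subgroup N)]
  exact hC.odd_dvd_pred (P.isPGroup'.map _) (hr.odd_of_ne_two hr2) h1

/-- The automorphisms of `PSL(2, p)` add no prime. -/
theorem dvd_of_psl {p : ℕ} {K : Type} [Field K] [Fintype K] (hK : Fintype.card K = p) (hp : p.Prime)
    (N : Subgroup G) [N.Normal] (hcen : Subgroup.centralizer (N : Set G) = ⊥)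
    (e : N ≃* Matrix.ProjectiveSpecialLinearGroup (Fin 2) K) {l : ℕ} (hl : l.Prime) (hd : l ∣ Nat.card G) :
    l = p ∨ l ∣ p - 1 ∨ l ∣ p + 1 := by
  classical
  haveI := Fact.mk hp
  let Φ : G →* MulAut (Matrix.ProjectiveSpecialLinearGroup (Fin 2) K) :=
    (MulAut.congr e).toMonoidHom.comp (MulAut.conjNormal (H := N))
  have hinj : Function.Injective Φ := by
    rw [injective_iff_map_eq_one]
    intro g hg
    have h1 : (MulAut.conjNormal g : MulAut N) = 1 :=
      (MulAut.congr e).injective (hg.trans (map_one _).symm)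
    have h2 : g ∈ Subgroup.centralizer (N : Set G) := Subgroup.mem_centralizer_iff.2 fun n hn => by
      have h3 : ((MulAut.conjNormal g ⟨n, hn⟩ : N) : G) = n := by rw [h1]; rfl
      rw [MulAut.conjNormal_apply] at h3
      exact (mul_inv_eq_iff_eq_mul.1 h3).symm
    rw [hcen] at h2
    exact Subgroup.mem_bot.1 h2
  have hsub : Φ.range ≤ (PSL2.conjP (F := K)).range := by
    rintro _ ⟨g, rfl⟩
    obtain ⟨a, σ, ha⟩ := PSL2.aut_eq (p := p) (f := 1) (by rw [hK, pow_one]) (Φ g)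
    have hσ : σ = RingEquiv.refl K := RingEquiv.ext fun x => by
      haveI : CharP K p := charP_of_card_eq_prime hK
      obtain ⟨i, rfl⟩ := (ZMod.ringEquivOfPrime K hp hK).surjective x
      obtain ⟨n, rfl⟩ := ZMod.natCast_zmod_surjective (n := p) i
      simp
    have hone : PSL2.fieldP σ = 1 := by
      rw [hσ]
      refine MulEquiv.ext fun x => ?_
      obtain ⟨A, rfl⟩ := PSL2.pr_surjective x
      rw [PSL2.fieldP_apply]
      refine congrArg PSL2.pr (Subtype.ext (Matrix.ext fun i j => ?_))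
      rw [PSL2.fieldSL_apply]
      rfl
    exact ⟨a, by rw [ha, hone, mul_one]⟩
  have h1 : Nat.card G ∣ Nat.card (GL (Fin 2) K) := by
    rw [Nat.card_congr (MonoidHom.ofInjective hinj).toEquiv]
    exact (Subgroup.card_dvd_of_le hsub).trans (Subgroup.card_range_dvd _)
  have h2 := hd.trans h1
  rw [Matrix.card_GL_field, hK, Fin.prod_univ_two] at h2
  simp only [Fin.val_zero, Fin.val_one, pow_zero, pow_one] at h2
  rw [show p ^ 2 - 1 = (p + 1) * (p - 1) by rw [← Nat.sq_sub_sq, one_pow],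
    show p ^ 2 - p = p * (p - 1) by rw [pow_two, Nat.mul_sub, mul_one]] at h2
  rcases hl.dvd_mul.1 h2 with h | h <;> rcases hl.dvd_mul.1 h with h | h
  · exact Or.inr (Or.inr h)
  · exact Or.inr (Or.inl h)
  · exact Or.inl ((Nat.prime_dvd_prime_iff_eq hl hp).1 h)
  · exact Or.inr (Or.inl h)

theorem three_not_suzuki {X : Type u} [Group X] (h : Cfsg.IsSuzuki X) : ¬ 3 ∣ Nat.card X := by
  obtain ⟨-, n, -, hcard⟩ := h
  rw [hcard]
  intro hd
  have hq : 2 ^ (2 * n + 1) % 3 = 2 := by rw [pow_succ, pow_mul, Nat.mul_mod, Nat.pow_mod]; norm_num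
  have hge := Nat.one_le_two_pow (n := 2 * n + 1)
  have h3 := Nat.prime_three
  generalize 2 ^ (2 * n + 1) = q at hd hq hge
  rcases h3.dvd_mul.1 hd with h | h
  · rcases h3.dvd_mul.1 h with h | h
    · have := h3.dvd_of_dvd_pow h
      omega
    · have h2 : q ^ 2 % 3 = 1 := by rw [Nat.pow_mod, hq]
      omega
  · omega

/-- The recognition theorem. -/
theorem recognition {F : Type*} [Field F] [Fintype F] {m : ℕ} (hm : 4 ≤ m) (hF : Fintype.card F = 2 ^ m)
    (hdvd : ∀ r : ℕ, r.Prime →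
      (r ∣ Nat.card (Matrix.ProjectiveSpecialLinearGroup (Fin 2) F) ↔ r ∣ Nat.card G))
    (hedge : ∀ r s : ℕ, r.Prime → s.Prime → r ≠ s →
      ((∃ x : Matrix.ProjectiveSpecialLinearGroup (Fin 2) F, orderOf x = r * s) ↔ (∃ y : G, orderOf y = r * s))) :
    Nonempty (G ⧸ Cfsg.pCore 2 G ≃* Matrix.ProjectiveSpecialLinearGroup (Fin 2) F) := by
  classical
  haveI : Fact (Nat.Prime 2) := ⟨Nat.prime_two⟩
  haveI : Finite (Matrix.ProjectiveSpecialLinearGroup (Fin 2) F) := Finite.of_surjective _ PSL2.pr_surjective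
  have hMC := cit_model (F := F) hF
  have hcard := card_model (F := F) (by omega) hF
  have hG2 : 2 ∣ Nat.card G :=
    (hdvd 2 Nat.prime_two).1 (hcard ▸ (dvd_pow_self 2 (by omega)).mul_right _)
  have hodd : ∀ l : ℕ, l.Prime → l ≠ 2 → (l ∣ 2 ^ (2 * m) - 1 ↔ l ∣ Nat.card G) := fun l hl hl2 => by
    rw [← hdvd l hl, hcard, mul_comm 2 m, pow_mul, sq_pred]
    exact ⟨fun h => h.mul_left _, fun h => (hl.dvd_mul.1 h).resolve_left fun h' =>
      hl2 ((Nat.prime_dvd_prime_iff_eq hl Nat.prime_two).1 (hl.dvd_of_dvd_pow h'))⟩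
  have hno2 : ∀ l : ℕ, l.Prime → l ≠ 2 → ¬ ∃ g : G, orderOf g = 2 * l := by
    intro l hl hl2 hg
    obtain ⟨x, hx⟩ := (hedge 2 l Nat.prime_two hl (Ne.symm hl2)).2 hg
    have h1 : orderOf (x ^ l) = 2 := by
      rw [orderOf_pow' x hl.ne_zero, hx, Nat.gcd_eq_right (dvd_mul_left l 2), Nat.mul_div_cancel _ hl.pos]
    have h2 : orderOf (x ^ 2) = l := by
      rw [orderOf_pow' x two_ne_zero, hx, Nat.gcd_eq_right (dvd_mul_right 2 l), Nat.mul_div_cancel_left _ two_pos]
    have := hMC.eq_one_of_commute h1 (y := x ^ 2) (h2 ▸ hl.odd_of_ne_two hl2) ((Commute.refl x).pow_pow _ _)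
    rw [this, orderOf_one] at h2
    exact hl.ne_one h2.symm
  have hC : CIT G := by
    intro t ht
    rintro ⟨y, hy⟩
    have hc : Commute y t := Subgroup.mem_centralizer_singleton_iff.1 hy
    suffices h : ∃ j : ℕ, orderOf y = 2 ^ j by
      obtain ⟨j, hj⟩ := h
      exact ⟨j, Subtype.ext (by simp [← hj, pow_orderOf_eq_one])⟩
    refine ⟨_, Nat.eq_prime_pow_of_unique_prime_dvd (orderOf_pos y).ne' fun {l} hl hld => ?_⟩
    by_contra hl2
    refine hno2 l hl hl2 ⟨t * y ^ (orderOf y / l), ?_⟩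
    have hz := orderOf_pow_orderOf_div (orderOf_pos y).ne' hld
    rw [(hc.symm.pow_right _).orderOf_mul_eq_mul_orderOf_of_coprime
      (by rw [ht, hz]; exact (Nat.coprime_primes Nat.prime_two hl).2 (Ne.symm hl2)), ht, hz]
  obtain ⟨r, hr⟩ := exists_prim (n := 2 * m) (by omega) (by omega) (by omega)
  have hr9 := hr.succ_le
  obtain ⟨s, hs, hsd⟩ := Nat.exists_prime_and_dvd (n := 2 ^ m - 1) (by
    have : 2 ^ 4 ≤ 2 ^ m := Nat.pow_le_pow_right two_pos hm
    omega)
  have hs2 := two_pow_pred_odd (by omega) hsd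
  have hrs : r ≠ s := by
    rintro rfl
    have := Nat.le_of_dvd (by omega) (hr.2.2.2 _ hsd)
    omega
  have hsd2 : s ∣ 2 ^ (2 * m) - 1 := by rw [mul_comm, pow_mul, sq_pred]; exact hsd.mul_left _
  have hsr : ¬ ∃ g : G, orderOf g = r * s := by
    intro hg
    obtain ⟨x, hx⟩ := (hedge r s hr.1 hs hrs).2 hg
    rcases edge_model (by omega) hF hr.1 hs hr.2.1 hs2 hx with h | h
    · have := Nat.le_of_dvd (by omega) (hr.2.2.2 _ ((dvd_mul_right r s).trans h))
      omega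
    · have h1 := Nat.dvd_sub ((dvd_mul_left s r).trans h) hsd
      have := Nat.one_le_two_pow (n := m)
      rw [show 2 ^ m + 1 - (2 ^ m - 1) = 2 by omega] at h1
      exact hs2 ((Nat.prime_dvd_prime_iff_eq hs Nat.prime_two).1 h1)
  have hns : ¬ Group.IsSolvable G := by
    refine not_solvable Nat.prime_two hr.1 hs (Ne.symm hr.2.1) (Ne.symm hs2) hrs hG2
      ((hodd r hr.1 hr.2.1).1 hr.2.2.1) ((hodd s hs hs2).1 hsd2) ?_
    intro p hp q hq hpq
    simp only [Finset.mem_insert, Finset.mem_singleton] at hp hq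
    rcases hp with rfl | rfl | rfl <;> rcases hq with rfl | rfl | rfl
    all_goals first
      | exact absurd rfl hpq
      | exact hno2 _ hr.1 hr.2.1
      | exact hno2 _ hs hs2
      | exact hsr
      | (rw [mul_comm]
         first
           | exact hno2 _ hr.1 hr.2.1
           | exact hno2 _ hs hs2
           | exact hsr)
  haveI := Solv.pCore_normal (G := G) 2
  set D := Cfsg.pCore 2 G with hD
  have hQodd : ∀ l : ℕ, l.Prime → l ≠ 2 → (l ∣ 2 ^ (2 * m) - 1 ↔ l ∣ Nat.card (G ⧸ D)) := fun l hl hl2 => by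
    rw [hodd l hl hl2, Subgroup.card_eq_card_quotient_mul_card_subgroup D]
    refine ⟨fun h => (hl.dvd_mul.1 h).resolve_right fun h' => ?_, fun h => h.mul_right _⟩
    obtain ⟨j, hj⟩ := IsPGroup.iff_card.1 (Solv.pCore_isPGroup (G := G) 2)
    rw [hj] at h'
    exact hl2 ((Nat.prime_dvd_prime_iff_eq hl Nat.prime_two).1 (hl.dvd_of_dvd_pow h'))
  obtain ⟨hQs, hB⟩ : IsSimpleGroup (G ⧸ D) ∧ Bor (G ⧸ D) := by
    by_cases hcore : D = ⊥
    swap
    · obtain ⟨hs', -, hB⟩ := hC.top hns hcore (below_all _)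
      exact ⟨hs', hB⟩
    haveI : Nontrivial G := by
      rw [← Finite.one_lt_card_iff_nontrivial]
      exact lt_of_lt_of_le one_lt_two (Nat.le_of_dvd Nat.card_pos hG2)
    obtain ⟨N, hNn, hN1, hmin'⟩ := Solv.exists_minimal_normal (G := G)
    haveI := hNn
    obtain ⟨hNs, hna, hN2, hcen⟩ := hC.minimal_simple hns hG2 hcore hN1
      (fun M hM hM1 hle => (hmin' M hM hle).resolve_left hM1)
    haveI := hNs
    have hsmall : ∀ b : ℕ, Nat.card N = b → (∀ j, 2 ^ j ∣ b → j < 8) → (∀ l : ℕ, l.Prime → l ∣ b → l ≤ 7) →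
        False := by
      intro b hb hJ hl7
      rcases outer_prime hC N hr.1 hr.2.1 ((hodd r hr.1 hr.2.1).1 hr.2.2.1) hN2 with h | ⟨j, hj0, hj, hjr⟩
      · have := hl7 r hr.1 (hb ▸ h)
        omega
      · have h8 := hJ j (hb ▸ hj)
        have := Nat.le_of_dvd hj0 (hr.2.2.2 j hjr)
        omega
    have hj8 : ∀ b : ℕ, ¬ 2 ^ 8 ∣ b → ∀ j, 2 ^ j ∣ b → j < 8 := fun b hb j hj => by
      by_contra hge
      exact hb ((pow_dvd_pow 2 (not_lt.1 hge)).trans hj)
    have hle7 : ∀ l q : ℕ, l.Prime → q.Prime → q ≤ 7 → ∀ i, l ∣ q ^ i → l ≤ 7 := fun l q hl hq hq7 i hd =>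
      (Nat.prime_dvd_prime_iff_eq hl hq).1 (hl.dvd_of_dvd_pow hd) ▸ hq7
    rcases classify hna (hC.subgroup N) hN2 (below_all _) with hB | ⟨K, i1, i2, hK, ⟨e⟩⟩ | ⟨-, K, i1, i2, hK, ⟨e⟩⟩
    · have htop := hC.eq_top_of_bor hB
      subst htop
      let ε : (⊤ : Subgroup G) ≃* G ⧸ D :=
        Subgroup.topEquiv.trans (QuotientGroup.quotientBot.symm.trans (QuotientGroup.quotientMulEquivOfEq hcore.symm))
      obtain ⟨n, T, hT⟩ := hB
      exact ⟨ε.symm.isSimpleGroup, n, _, hT.map ε⟩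
    · exfalso
      refine hsmall 20160 ((Nat.card_congr e.toEquiv).trans (Spor.PlaneAut.card_psl34 hK))
        (hj8 _ (by norm_num)) fun l hl h => ?_
      rw [show (20160 : ℕ) = 2 ^ 6 * (3 ^ 2 * (5 ^ 1 * 7 ^ 1)) by norm_num] at h
      rcases hl.dvd_mul.1 h with h | h
      · exact hle7 l 2 hl Nat.prime_two (by norm_num) _ h
      rcases hl.dvd_mul.1 h with h | h
      · exact hle7 l 3 hl Nat.prime_three (by norm_num) _ h
      rcases hl.dvd_mul.1 h with h | h
      · exact hle7 l 5 hl Nat.prime_five (by norm_num) _ h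
      · exact hle7 l 7 hl (by norm_num) (by norm_num) _ h
    · exfalso
      have hcN := Classical.Dickson.card_psl K
      rw [← Nat.card_congr e.toEquiv] at hcN
      rcases hK with h9 | ⟨hp, k, hk⟩
      · rw [h9] at hcN
        norm_num at hcN
        refine hsmall 360 (by omega) (hj8 _ (by norm_num)) fun l hl h => ?_
        rw [show (360 : ℕ) = 2 ^ 3 * (3 ^ 2 * 5 ^ 1) by norm_num] at h
        rcases hl.dvd_mul.1 h with h | h
        · exact hle7 l 2 hl Nat.prime_two (by norm_num) _ h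
        rcases hl.dvd_mul.1 h with h | h
        · exact hle7 l 3 hl Nat.prime_three (by norm_num) _ h
        · exact hle7 l 5 hl Nat.prime_five (by norm_num) _ h
      obtain ⟨p, hpK⟩ : ∃ p, p = Fintype.card K := ⟨_, rfl⟩
      rw [← hpK] at hp hk hcN
      rcases eq_or_ne p 2 with h2 | h2
      · rw [h2] at hcN
        norm_num at hcN
        refine hsmall 6 (by omega) (hj8 _ (by norm_num)) fun l _ h => ?_
        have := Nat.le_of_dvd (by norm_num) h
        omega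
      obtain ⟨k', hk2, hk'⟩ : ∃ k', 2 ≤ k' ∧ (p = 2 ^ k' + 1 ∨ p + 1 = 2 ^ k') := by
        have := hp.two_le
        match k, hk with
        | 0, hk => simp at hk; omega
        | 1, hk => exact ⟨2, le_rfl, by simp at hk; omega⟩
        | k + 2, hk => exact ⟨k + 2, by omega, hk⟩
      have hpN : p ∣ Nat.card N := by
        have h := hcN.symm ▸ (dvd_mul_right p (p ^ 2 - 1))
        refine (hp.dvd_mul.1 h).resolve_right fun hh => h2 ?_
        exact (Nat.prime_dvd_prime_iff_eq hp Nat.prime_two).1 (hh.trans (Nat.gcd_dvd_left _ _))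
      exact no_fermat hm hk2 hp hk' ((hodd p hp h2).2 (hpN.trans (Subgroup.card_subgroup_dvd_card N)))
        fun l hl hl2 hd => dvd_of_psl hpK.symm hp N hcen e hl ((hodd l hl hl2).1 hd)
  haveI := hQs
  obtain ⟨n, T, hT⟩ := hB
  rcases hT.ident with ⟨K, i1, i2, hK, ⟨e⟩⟩ | hSz
  swap
  · refine absurd ((hQodd 3 Nat.prime_three (by norm_num)).1 ?_) (three_not_suzuki hSz)
    rw [pow_mul]
    have := Nat.sub_dvd_pow_sub_pow (2 ^ 2) 1 m
    rw [one_pow] at this
    exact this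
  have hn2 := hT.two_le
  have hcardK := card_model (F := K) (by omega) hK
  rw [← Nat.card_congr e.toEquiv] at hcardK
  have hQn : ∀ l : ℕ, l.Prime → l ≠ 2 → (l ∣ 2 ^ (2 * m) - 1 ↔ l ∣ 2 ^ (2 * n) - 1) := fun l hl hl2 => by
    rw [hQodd l hl hl2, hcardK, mul_comm 2 n, pow_mul, sq_pred]
    exact ⟨fun h => (hl.dvd_mul.1 h).resolve_left fun h' =>
      hl2 ((Nat.prime_dvd_prime_iff_eq hl Nat.prime_two).1 (hl.dvd_of_dvd_pow h')), fun h => h.mul_left _⟩
  have h1 : 2 * m ∣ 2 * n := hr.2.2.2 _ ((hQn r hr.1 hr.2.1).1 hr.2.2.1)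
  have hle := Nat.le_of_dvd (by omega) h1
  obtain ⟨r', hr'⟩ := exists_prim (n := 2 * n) (by omega) (by omega) (by omega)
  have h2 : 2 * n ∣ 2 * m := hr'.2.2.2 _ ((hQn r' hr'.1 hr'.2.1).2 hr'.2.2.1)
  have hmn : m = n := by have := Nat.dvd_antisymm h1 h2; omega
  exact ⟨e.trans (Classical.Dickson.pslCongr (FiniteField.ringEquivOfCardEq (by rw [hK, hF, hmn])))⟩

end Group

end Cfsg.Agent.Solv.CITGroups.GraphLTwo
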