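import Cfsg.Agent.Lib.Solv.CIT.PrimeGraph
import Cfsg.Agent.Lib.Solv.CIT.BorSuzuki
import Cfsg.Agent.Lib.Solv.CIT.SzModel

/-!
Groups with the prime graph of a Suzuki group.
-/

set_option autoImplicit false
set_option linter.style.haveILetI false
set_option linter.unusedSectionVars false

namespace Cfsg.Agent.Solv.CITGroups.GraphSz

open Cfsg Cfsg.Agent
open Cfsg.Agent.Solv.CITGroups.GraphLTwo (Prim exists_prim not_solvable two_pow_pred_odd)

universe u

/-- The order polynomial. -/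
def szOrd (N : ℕ) : ℕ := (2 ^ N) ^ 2 * ((2 ^ N) ^ 2 + 1) * (2 ^ N - 1)

theorem dvd_quad (N : ℕ) : (2 ^ N) ^ 2 + 1 ∣ 2 ^ (4 * N) - 1 :=
  ⟨(2 ^ N) ^ 2 - 1, by rw [← Nat.sq_sub_sq, one_pow, ← pow_mul, ← pow_mul, show N * (2 * 2) = 4 * N by ring]⟩

theorem sub_dvd_quad (N : ℕ) : 2 ^ N - 1 ∣ 2 ^ (4 * N) - 1 := by
  have := Nat.sub_dvd_pow_sub_pow (2 ^ N) 1 4
  rwa [one_pow, ← pow_mul, mul_comm N 4] at this

theorem dvd_ord {r N : ℕ} (hr : r.Prime) (hr2 : r ≠ 2) (h : r ∣ szOrd N) : r ∣ 2 ^ (4 * N) - 1 := by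
  rcases hr.dvd_mul.1 h with h | h
  · rcases hr.dvd_mul.1 h with h | h
    · exact absurd ((Nat.prime_dvd_prime_iff_eq hr Nat.prime_two).1 (hr.dvd_of_dvd_pow (hr.dvd_of_dvd_pow h))) hr2
    · exact h.trans (dvd_quad N)
  · exact h.trans (sub_dvd_quad N)

theorem prim_quad {r N : ℕ} (hN : 0 < N) (hr : Prim r (4 * N)) : r ∣ (2 ^ N) ^ 2 + 1 := by
  rw [← pow_mul, mul_comm N 2]
  exact Prim.dvd_succ (show Prim r (2 * (2 * N)) by rwa [← mul_assoc]) (by omega)

theorem not_three {N : ℕ} (hN : Odd N) : ¬ 3 ∣ szOrd N := by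
  obtain ⟨k, rfl⟩ := hN
  intro h
  have hq : 2 ^ (2 * k + 1) % 3 = 2 := by rw [pow_succ, pow_mul, Nat.mul_mod, Nat.pow_mod]; norm_num
  have h2 : (2 ^ (2 * k + 1)) ^ 2 % 3 = 1 := by rw [Nat.pow_mod, hq]
  have := Nat.one_le_two_pow (n := 2 * k + 1)
  rw [szOrd] at h
  generalize 2 ^ (2 * k + 1) = q at h hq h2 this
  rcases Nat.prime_three.dvd_mul.1 h with h | h
  · rcases Nat.prime_three.dvd_mul.1 h with h | h
    · have := Nat.prime_three.dvd_of_dvd_pow h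
      omega
    · omega
  · omega

theorem eq_of_primes {N N' : ℕ} (hN : 3 ≤ N) (hN' : 3 ≤ N')
    (h : ∀ l : ℕ, l.Prime → l ≠ 2 → (l ∣ szOrd N ↔ l ∣ szOrd N')) : N = N' := by
  have key : ∀ a b : ℕ, 3 ≤ a → (∀ l : ℕ, l.Prime → l ≠ 2 → l ∣ szOrd a → l ∣ szOrd b) → 4 * a ∣ 4 * b := by
    intro a b ha hab
    obtain ⟨r, hr⟩ := exists_prim (n := 4 * a) (by omega) (by omega) (by omega)
    exact hr.2.2.2 _ (dvd_ord hr.1 hr.2.1
      (hab r hr.1 hr.2.1 (((prim_quad (by omega) hr).mul_left _).mul_right _)))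
  have := Nat.dvd_antisymm (key N N' hN fun l hl hl2 => (h l hl hl2).1) (key N' N hN' fun l hl hl2 => (h l hl hl2).2)
  omega

variable {G : Type u} [Group G] [Finite G]

/-- The recognition theorem. -/
theorem recognition {F : Type*} [Field F] [Fintype F] {m : ℕ} (hm : 1 ≤ m) (hF : Fintype.card F = 2 ^ (2 * m + 1))
    (hdvd : ∀ r : ℕ, r.Prime → (r ∣ Nat.card ↥(Cfsg.Lie.Sz F (2 ^ (m + 1))) ↔ r ∣ Nat.card G))
    (hedge : ∀ r s : ℕ, r.Prime → s.Prime → r ≠ s →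
      ((∃ x : ↥(Cfsg.Lie.Sz F (2 ^ (m + 1))), orderOf x = r * s) ↔ (∃ y : G, orderOf y = r * s))) :
    Nonempty (G ⧸ Cfsg.pCore 2 G ≃* ↥(Cfsg.Lie.Sz F (2 ^ (m + 1)))) := by
  classical
  haveI : Fact (Nat.Prime 2) := ⟨Nat.prime_two⟩
  have hcard : Nat.card ↥(Cfsg.Lie.Sz F (2 ^ (m + 1))) = szOrd (2 * m + 1) := SzModel.card_model hF hm
  obtain ⟨N, hN⟩ : ∃ N, N = 2 * m + 1 := ⟨_, rfl⟩
  rw [← hN] at hcard
  have hord : ∀ l : ℕ, l.Prime → (l ∣ szOrd N ↔ l ∣ Nat.card G) := fun l hl => hcard ▸ hdvd l hl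
  have hG2 : 2 ∣ Nat.card G :=
    (hord 2 Nat.prime_two).1
      ((((dvd_pow_self 2 (show N ≠ 0 by omega)).trans (dvd_pow_self _ two_ne_zero)).mul_right _).mul_right _)
  have h3G : ¬ 3 ∣ Nat.card G := fun h => not_three (hN ▸ odd_two_mul_add_one m) ((hord 3 Nat.prime_three).2 h)
  have hno2 : ∀ l : ℕ, l.Prime → l ≠ 2 → ¬ ∃ g : G, orderOf g = 2 * l := fun l hl hl2 hg =>
    SzModel.not_two_mul hF hm hl hl2 ((hedge 2 l Nat.prime_two hl (Ne.symm hl2)).2 hg)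
  have hC : CIT G := by
    intro t ht
    rintro ⟨y, hy⟩
    have hc : Commute y t := Subgroup.mem_centralizer_singleton_iff.1 hy
    suffices h : ∃ j : ℕ, orderOf y = 2 ^ j by
      obtain ⟨j, hj⟩ := h
      exact ⟨j, Subtype.ext (by simp [← hj, pow_orderOf_eq_one])⟩
    refine ⟨_, Nat.eq_prime_pow_of_unique_prime_dvd (orderOf_pos y).ne' fun {l} hl hld => ?_⟩
    by_contra hl2
    refine hno2 l hl hl2 ⟨t * y ^ (orderOf y / l), ?_⟩
    have hz := orderOf_pow_orderOf_div (orderOf_pos y).ne' hld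
    rw [(hc.symm.pow_right _).orderOf_mul_eq_mul_orderOf_of_coprime
      (by rw [ht, hz]; exact (Nat.coprime_primes Nat.prime_two hl).2 (Ne.symm hl2)), ht, hz]
  obtain ⟨r, hr⟩ := exists_prim (n := 4 * N) (by omega) (by omega) (by omega)
  have hrd := prim_quad (by omega) hr
  obtain ⟨s, hs, hsd⟩ := Nat.exists_prime_and_dvd (n := 2 ^ N - 1) (by
    have : 2 ^ 3 ≤ 2 ^ N := Nat.pow_le_pow_right two_pos (by omega)
    omega)
  have hs2 := two_pow_pred_odd (by omega) hsd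
  have hrs : r ≠ s := by
    rintro rfl
    have := Nat.le_of_dvd (by omega) (hr.2.2.2 _ hsd)
    omega
  have hsr : ¬ ∃ g : G, orderOf g = r * s := fun hg =>
    SzModel.not_mixed hF hm hr.1 hs hs2 (by rw [hF, ← hN]; exact hrd) (by rw [hF, ← hN]; exact hsd)
      ((hedge r s hr.1 hs hrs).2 hg)
  have hns : ¬ Group.IsSolvable G := by
    refine not_solvable Nat.prime_two hr.1 hs (Ne.symm hr.2.1) (Ne.symm hs2) hrs hG2
      ((hord r hr.1).1 ((hrd.mul_left _).mul_right _)) ((hord s hs).1 (hsd.mul_left _)) ?_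
    intro p hp q hq hpq
    simp only [Finset.mem_insert, Finset.mem_singleton] at hp hq
    rcases hp with rfl | rfl | rfl <;> rcases hq with rfl | rfl | rfl
    all_goals first
      | exact absurd rfl hpq
      | exact hno2 _ hr.1 hr.2.1
      | exact hno2 _ hs hs2
      | exact hsr
      | (rw [mul_comm]
         first
           | exact hno2 _ hr.1 hr.2.1
           | exact hno2 _ hs hs2
           | exact hsr)
  haveI := Solv.pCore_normal (G := G) 2
  set D := Cfsg.pCore 2 G with hD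
  obtain ⟨hQs, hB⟩ : IsSimpleGroup (G ⧸ D) ∧ Bor (G ⧸ D) := by
    by_cases hcore : D = ⊥
    swap
    · obtain ⟨hs', -, hB⟩ := hC.top hns hcore (below_all _)
      exact ⟨hs', hB⟩
    haveI : Nontrivial G := by
      rw [← Finite.one_lt_card_iff_nontrivial]
      exact lt_of_lt_of_le one_lt_two (Nat.le_of_dvd Nat.card_pos hG2)
    obtain ⟨N₀, hNn, hN1, hmin'⟩ := Solv.exists_minimal_normal (G := G)
    haveI := hNn
    obtain ⟨hNs, hna, hN2, -⟩ := hC.minimal_simple hns hG2 hcore hN1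
      (fun M hM hM1 hle => (hmin' M hM hle).resolve_left hM1)
    haveI := hNs
    rcases classify hna (hC.subgroup N₀) hN2 (below_all _) with hB | ⟨K, i1, i2, hK, ⟨e⟩⟩ | ⟨hDih, -⟩
    · have htop := hC.eq_top_of_bor hB
      subst htop
      let ε : (⊤ : Subgroup G) ≃* G ⧸ D :=
        Subgroup.topEquiv.trans (QuotientGroup.quotientBot.symm.trans (QuotientGroup.quotientMulEquivOfEq hcore.symm))
      obtain ⟨n, T, hT⟩ := hB
      exact ⟨ε.symm.isSimpleGroup, n, _, hT.map ε⟩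
    · refine absurd ?_ h3G
      have h20 := (Nat.card_congr e.toEquiv).trans (Spor.PlaneAut.card_psl34 hK)
      exact (show 3 ∣ Nat.card N₀ by rw [h20]; norm_num).trans (Subgroup.card_subgroup_dvd_card N₀)
    · refine absurd ?_ h3G
      obtain ⟨-, -, g, -, -, -, -, hg, -⟩ := hDih
      exact (hg ▸ orderOf_dvd_natCard g).trans (Subgroup.card_subgroup_dvd_card N₀)
  haveI := hQs
  obtain ⟨n, T, hT⟩ := hB
  have h3Q : ¬ 3 ∣ Nat.card (G ⧸ D) := fun h => h3G (h.trans (Subgroup.card_quotient_dvd_card D))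
  have hkind : ∃ a b : T, a * b ≠ b * a := by
    rcases hT.kind with ⟨hT', -, -⟩ | ⟨-, -, -, h⟩
    · exfalso
      rw [hT.cardG, hT'] at h3Q
      obtain ⟨a, ha⟩ : ∃ a, a = 2 ^ n := ⟨_, rfl⟩
      have := Nat.one_le_two_pow (n := n)
      rw [← ha] at h3Q this
      apply h3Q
      rcases (show a % 3 = 0 ∨ a % 3 = 1 ∨ a % 3 = 2 by omega) with h | h | h
      · exact ((Nat.dvd_of_mod_eq_zero h).mul_right _).mul_left _
      · exact ((Nat.dvd_of_mod_eq_zero (show (a - 1) % 3 = 0 by omega)).mul_left _).mul_left _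
      · exact (Nat.dvd_of_mod_eq_zero (show (a + 1) % 3 = 0 by omega)).mul_right _
    · exact h
  obtain ⟨K, i1, i2, m', hm', hK, ⟨e⟩⟩ := hT.isoSuzuki (hC.quotient D (Solv.pCore_isPGroup 2)) hkind
  have hcK : Nat.card (G ⧸ D) = szOrd (2 * m' + 1) :=
    (Nat.card_congr e.toEquiv).trans (SzModel.card_model hK hm')
  have hNN : N = 2 * m' + 1 := by
    refine eq_of_primes (by omega) (by omega) fun l hl hl2 => ?_
    rw [hord l hl, ← hcK, Subgroup.card_eq_card_quotient_mul_card_subgroup D]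
    refine ⟨fun h => (hl.dvd_mul.1 h).resolve_right fun h' => ?_, fun h => h.mul_right _⟩
    obtain ⟨j, hj⟩ := IsPGroup.iff_card.1 (Solv.pCore_isPGroup (G := G) 2)
    rw [hj] at h'
    exact hl2 ((Nat.prime_dvd_prime_iff_eq hl Nat.prime_two).1 (hl.dvd_of_dvd_pow h'))
  obtain rfl : m' = m := by omega
  obtain ⟨c⟩ := SzModel.congr (FiniteField.ringEquivOfCardEq (hK.trans hF.symm)) (2 ^ (m' + 1))
  exact ⟨e.trans c⟩

end Cfsg.Agent.Solv.CITGroups.GraphSz
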