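import Cfsg.Agent.Lib.Solv.CIT.Half
import Cfsg.Agent.Lib.Solv.EPPOSeven.Climb

/-!
Local subgroups: a characteristic subgroup of the Sylow 2-subgroup, and solvable local subgroups.
-/

set_option autoImplicit false
set_option linter.style.haveILetI false
set_option linter.unusedSectionVars false

namespace Cfsg.Agent.Solv.CITGroups

open Cfsg
open Cfsg.Agent.Solv.EPPOSeven (omegaCen omegaCen_comm omegaCen_normal omegaCen_le omegaCen_ne_bot cS zjOf Big
  exists_pair exists_maxAbelian center_ne_bot center_le_zjOf psl_two_iso mul_self_of_orderOf_two normal_le_sylow)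
open scoped commutatorElement

universe u

variable {L : Type u} [Group L] [Finite L]

theorem CIT.centralizer_le_core (hC : CIT L) {X : Subgroup L} [X.Normal] (hX : IsPGroup 2 X) (hne : X ≠ ⊥) :
    Subgroup.centralizer (X : Set L) ≤ Cfsg.pCore 2 L := by
  haveI : Fact (Nat.Prime 2) := ⟨Nat.prime_two⟩
  exact normal_le_pCore (hC.centralizer_two hX hne)

theorem core_le_sylow (P : Sylow 2 L) : Cfsg.pCore 2 L ≤ (P : Subgroup L) := by
  haveI : Fact (Nat.Prime 2) := ⟨Nat.prime_two⟩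
  haveI := pCore_normal (G := L) 2
  exact normal_le_sylow (pCore_isPGroup 2) P

section

variable {S : Type u} [Group S] [Finite S] (τ : S →* L) (hτ : Function.Injective τ) (P : Sylow 2 L)
  (hP : (P : Subgroup L) = τ.range)

include hτ hP

theorem range_two : IsPGroup 2 S := by
  have := P.isPGroup'
  rw [hP] at this
  exact this.of_equiv (MonoidHom.ofInjective hτ).symm

/-- Without an offender the chosen subgroup is normal. -/
theorem cS_normal_of_no_offender (hC : CIT L) (hcore : Cfsg.pCore 2 L ≠ ⊥)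
    (hJ : ∀ A ∈ Cfsg.maxAbelianSubgroups S, A.map τ ≤ Cfsg.pCore 2 L) : ((cS S).map τ).Normal := by
  classical
  haveI : Fact (Nat.Prime 2) := ⟨Nat.prime_two⟩
  haveI := pCore_normal (G := L) 2
  have hS : IsPGroup 2 S := range_two τ hτ P hP
  set D := Cfsg.pCore 2 L with hD
  have hDr : D ≤ τ.range := hP ▸ core_le_sylow P
  haveI : Nontrivial S := by
    rcases subsingleton_or_nontrivial S with hsub | hnt
    · exfalso
      refine hcore (eq_bot_iff.2 fun d hd => ?_)
      obtain ⟨a, rfl⟩ := hDr hd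
      rw [Subgroup.mem_bot, Subsingleton.elim a 1, map_one]
    · exact hnt
  have hcen : ∀ X : Subgroup L, X.Normal → X ≠ ⊥ → IsPGroup 2 X →
      Subgroup.centralizer (X : Set L) ≤ D := fun X hX hne hXp => by
    haveI := hX
    exact hC.centralizer_le_core hXp hne
  have hJn : ((Cfsg.thompsonSubgroupA S).map τ).Normal := by
    refine ⟨fun n hn g => ?_⟩
    suffices hle : (Cfsg.thompsonSubgroupA S).map τ ≤
        ((Cfsg.thompsonSubgroupA S).map τ).comap (MulAut.conj g).toMonoidHom from hle hn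
    rw [Subgroup.map_le_iff_le_comap, Cfsg.thompsonSubgroupA, sSup_le_iff]
    intro A hA a ha
    set B := ((A.map τ).map (MulAut.conj g).toMonoidHom).comap τ with hB
    have hBmap : B.map τ = (A.map τ).map (MulAut.conj g).toMonoidHom := by
      refine Subgroup.map_comap_eq_self ?_
      rintro _ ⟨w, hw, rfl⟩
      exact hDr (Subgroup.Normal.conj_mem inferInstance _ (hJ A hA hw) g)
    have hcard : Nat.card B = Nat.card A :=
      calc Nat.card B = Nat.card (B.map τ) := (Subgroup.card_map_of_injective hτ).symm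
        _ = Nat.card ((A.map τ).map (MulAut.conj g).toMonoidHom) := by rw [hBmap]
        _ = Nat.card (A.map τ) := Subgroup.card_map_of_injective (MulAut.conj g).injective
        _ = Nat.card A := Subgroup.card_map_of_injective hτ
    have hBm : B ∈ Cfsg.maxAbelianSubgroups S := by
      refine ⟨⟨⟨fun u v => Subtype.ext (hτ ?_)⟩⟩, fun C hC => (hA.2 C hC).trans hcard.ge⟩
      obtain ⟨_, ⟨u', hu', rfl⟩, hu⟩ := u.2
      obtain ⟨_, ⟨v', hv', rfl⟩, hv⟩ := v.2
      have e : u' * v' = v' * u' := congrArg Subtype.val (hA.1.is_comm.comm ⟨u', hu'⟩ ⟨v', hv'⟩)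
      show τ ((u : S) * v) = τ ((v : S) * u)
      rw [map_mul, map_mul, ← hu, ← hv]
      simp only [← map_mul, e]
    obtain ⟨b, hb, hbe⟩ := hBmap.ge ⟨τ a, ⟨a, ha, rfl⟩, rfl⟩
    exact ⟨b, (le_sSup hBm : B ≤ _) hb, hbe⟩
  unfold cS
  by_cases hbig : IsPGroup 2 S ∧ Big S
  swap
  · rw [dif_neg hbig]
    exact hJn
  rw [dif_pos hbig]
  set S₂ := (exists_pair S hbig.1 hbig.2).choose_spec.choose with hS₂
  obtain ⟨-, -, -, -, -, hle, hchar, -⟩ := (exists_pair S hbig.1 hbig.2).choose_spec.choose_spec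
  rw [← hS₂] at hle hchar
  set C := Subgroup.centralizer (zjOf S : Set S) with hC
  set X := (zjOf S).map τ with hX
  have hXn : X.Normal := by
    rw [hX, zjOf, Subgroup.map_inf _ _ _ hτ]
    haveI := hJn
    refine ⟨fun n hn g => ⟨hJn.conj_mem n hn.1 g, ?_⟩⟩
    obtain ⟨c, hc, rfl⟩ := hn.2
    obtain ⟨c', hc', e⟩ := hJn.conj_mem (τ c) hn.1 g
    refine ⟨c', Subgroup.mem_centralizer_iff.2 fun w hw => hτ ?_, e⟩
    rw [map_mul, map_mul, e]
    obtain ⟨w', hw', e'⟩ := hJn.conj_mem (τ w) ⟨w, hw, rfl⟩ g⁻¹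
    have h1 : τ w' * τ c = τ c * τ w' := by
      rw [← map_mul, ← map_mul, Subgroup.mem_centralizer_iff.1 hc w' hw']
    rw [e', inv_inv] at h1
    calc τ w * (g * τ c * g⁻¹) = g * (g⁻¹ * τ w * g * τ c) * g⁻¹ := by group
      _ = g * (τ c * (g⁻¹ * τ w * g)) * g⁻¹ := by rw [h1]
      _ = g * τ c * g⁻¹ * τ w := by group
  have hXne : X ≠ ⊥ := fun e => center_ne_bot hS (le_bot_iff.1 (center_le_zjOf.trans
    ((Subgroup.map_eq_bot_iff_of_injective _ hτ).1 e).le))
  have hXp : IsPGroup 2 X := (hS.to_subgroup _).map τ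
  have hCmap : C.map τ = Subgroup.centralizer (X : Set L) := by
    refine le_antisymm ?_ fun w hw => ?_
    · rintro _ ⟨c, hc, rfl⟩
      refine Subgroup.mem_centralizer_iff.2 ?_
      rintro _ ⟨z, hz, rfl⟩
      rw [← map_mul, ← map_mul, Subgroup.mem_centralizer_iff.1 hc z hz]
    · obtain ⟨c, rfl⟩ := hDr (hcen X hXn hXne hXp hw)
      refine ⟨c, Subgroup.mem_centralizer_iff.2 fun z hz => hτ ?_, rfl⟩
      rw [map_mul, map_mul]
      exact Subgroup.mem_centralizer_iff.1 hw _ ⟨z, hz, rfl⟩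
  haveI : (C.map τ).Normal := by
    rw [hCmap]
    haveI := hXn
    infer_instance
  haveI := hchar
  have hmap : S₂.map τ = ((S₂.subgroupOf C).map ((C.equivMapOfInjective τ hτ).toMonoidHom)).map
      (C.map τ).subtype := by
    rw [Subgroup.map_map]
    conv_lhs => rw [← Subgroup.map_subgroupOf_eq_of_le hle, Subgroup.map_map]
    rfl
  rw [hmap]
  haveI := Subgroup.characteristic_iff_map_eq.1 hchar
  haveI : ((S₂.subgroupOf C).map (C.equivMapOfInjective τ hτ).toMonoidHom).Characteristic := by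
    refine Subgroup.characteristic_iff_map_eq.2 fun σ => ?_
    set e := C.equivMapOfInjective τ hτ
    have := Subgroup.characteristic_iff_map_eq.1 hchar ((e.trans σ).trans e.symm)
    conv_rhs => rw [← this, Subgroup.map_map]
    rw [Subgroup.map_map]
    congr 1
    ext w
    simp
  infer_instance

/-- Otherwise an abelian subgroup of largest order leaves the core. -/
theorem exists_offender (hJ : ¬ ∀ A ∈ Cfsg.maxAbelianSubgroups S, A.map τ ≤ Cfsg.pCore 2 L) :
    ∃ A : Subgroup L, A ≤ (P : Subgroup L) ∧ IsMulCommutative A ∧ ¬ A ≤ Cfsg.pCore 2 L ∧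
      ∀ B : Subgroup L, B ≤ (P : Subgroup L) → IsMulCommutative B → Nat.card B ≤ Nat.card A := by
  push Not at hJ
  obtain ⟨A, hA, hAD⟩ := hJ
  refine ⟨A.map τ, hP ▸ Subgroup.map_le_range _ _, ⟨⟨fun u v => Subtype.ext (by
    obtain ⟨u', hu', hu⟩ := u.2
    obtain ⟨v', hv', hv⟩ := v.2
    show (u : L) * v = v * u
    rw [← hu, ← hv, ← map_mul, ← map_mul]
    exact congrArg τ (congrArg Subtype.val (hA.1.is_comm.comm ⟨u', hu'⟩ ⟨v', hv'⟩)))⟩⟩, hAD, fun B hB hBc => ?_⟩
  haveI := hBc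
  have hc : IsMulCommutative (B.comap τ) := ⟨⟨fun u v => Subtype.ext (hτ (by
    show τ ((u : S) * v) = τ ((v : S) * u)
    rw [map_mul, map_mul]
    exact congrArg Subtype.val (mul_comm' (⟨_, u.2⟩ : B) ⟨_, v.2⟩)))⟩⟩
  calc Nat.card B = Nat.card ((B.comap τ).map τ) := by rw [Subgroup.map_comap_eq_self (hP ▸ hB)]
    _ = Nat.card (B.comap τ) := Subgroup.card_map_of_injective hτ
    _ ≤ Nat.card A := hA.2 _ hc
    _ = Nat.card (A.map τ) := (Subgroup.card_map_of_injective hτ).symm

end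

/-- The bound of an offender on a normal abelian subgroup of the core centralizing it. -/
theorem offender_le {P : Sylow 2 L} {A W : Subgroup L} [W.Normal] [IsMulCommutative A] [IsMulCommutative W]
    (hWD : W ≤ Cfsg.pCore 2 L) (hAP : A ≤ (P : Subgroup L))
    (hmax : ∀ B : Subgroup L, B ≤ (P : Subgroup L) → IsMulCommutative B → Nat.card B ≤ Nat.card A)
    (hcen : ∀ a ∈ A, a ∈ Cfsg.pCore 2 L → ∀ w ∈ W, a * w = w * a) [(Cfsg.pCore 2 L).Normal] :
    Nat.card W ≤ Nat.card (A.map (QuotientGroup.mk' (Cfsg.pCore 2 L))) * Nat.card ↥(A ⊓ W) := by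
  refine offender_bound hWD (hmax _ (sup_le (inf_le_left.trans hAP) (hWD.trans (core_le_sylow P))) ?_)
  have hW : W ≤ Subgroup.centralizer ((A ⊓ Cfsg.pCore 2 L : Subgroup L) : Set L) := fun v hv =>
    Subgroup.mem_centralizer_iff.2 fun a ha => hcen a ha.1 ha.2 v hv
  have hle : (A ⊓ Cfsg.pCore 2 L) ⊔ W ≤
      Subgroup.centralizer (((A ⊓ Cfsg.pCore 2 L) ⊔ W : Subgroup L) : Set L) := by
    refine sup_le ?_ ?_ <;> rw [Subgroup.le_centralizer_iff] <;> refine sup_le ?_ ?_
    · exact fun w hw => Subgroup.mem_centralizer_iff.2 fun w' hw' =>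
        congrArg Subtype.val (mul_comm' (⟨w', hw'.1⟩ : A) ⟨w, hw.1⟩)
    · exact hW
    · exact Subgroup.le_centralizer_iff.1 hW
    · exact Subgroup.le_centralizer_iff_isMulCommutative.2 inferInstance
  exact ⟨⟨fun a b => Subtype.ext (Subgroup.mem_centralizer_iff.1 (hle b.2) a a.2)⟩⟩

section Solvable

variable (hC : CIT L) [(Cfsg.pCore 2 L).Normal]
include hC

theorem CIT.core_odd_card_le (hcore : Cfsg.pCore 2 L ≠ ⊥) {r : ℕ} [Fact r.Prime] (hr : r ≠ 2) {E : Subgroup L}
    (hE : ∀ x ∈ E, x ^ r = 1) : Nat.card E ≤ r := by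
  haveI : Fact (Nat.Prime 2) := ⟨Nat.prime_two⟩
  haveI := omegaCen_normal (Cfsg.pCore 2 L)
  haveI := omegaCen_comm (Cfsg.pCore 2 L)
  exact hC.elementary_card_le hr ((pCore_isPGroup 2).to_le (omegaCen_le (Cfsg.pCore 2 L)))
    (omegaCen_ne_bot (pCore_isPGroup 2) hcore) hE (by rw [Subgroup.normalizer_eq_top]; exact le_top)

/-- The normal subgroup of prime order at the top. -/
theorem CIT.exists_data (hsolv : Group.IsSolvable L) (hcore : Cfsg.pCore 2 L ≠ ⊥)
    (hnn : ∀ P : Sylow 2 L, ¬ (P : Subgroup L).Normal) :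
    ∃ (r : ℕ) (x : L), r.Prime ∧ r ≠ 2 ∧ orderOf x = r ∧
      orderOf (QuotientGroup.mk' (Cfsg.pCore 2 L) x) = r ∧
      (Subgroup.zpowers (QuotientGroup.mk' (Cfsg.pCore 2 L) x)).Normal ∧
      Odd (Nat.card (Subgroup.centralizer ({QuotientGroup.mk' (Cfsg.pCore 2 L) x} : Set (L ⧸ Cfsg.pCore 2 L)))) := by
  haveI : Fact (Nat.Prime 2) := ⟨Nat.prime_two⟩
  set D := Cfsg.pCore 2 L with hD
  have hD2 : IsPGroup 2 D := pCore_isPGroup 2
  set π := QuotientGroup.mk' D with hπ
  haveI : Nontrivial (L ⧸ D) := by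
    rw [QuotientGroup.nontrivial_iff]
    intro e
    obtain ⟨P⟩ : Nonempty (Sylow 2 L) := inferInstance
    refine hnn P ?_
    have htop : IsPGroup 2 (⊤ : Subgroup L) := e ▸ hD2
    rw [(P.is_maximal' htop le_top).symm]
    infer_instance
  obtain ⟨M, hMn, hM1, -, hMmin⟩ := exists_minimal_normal_le (⊤ : Subgroup (L ⧸ D)) top_ne_bot
  haveI := hMn
  haveI := hsolv
  haveI : Group.IsSolvable (L ⧸ D) := Group.isSolvable_of_surjective (f := π) (QuotientGroup.mk'_surjective D)
  obtain ⟨hMc, r, hr, hMel, hMp⟩ := minimal_normal_elementaryAbelian M inferInstance hM1 hMmin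
  haveI := Fact.mk hr
  obtain ⟨i, hi⟩ := IsPGroup.iff_card.1 hMp
  obtain ⟨j, hj⟩ := IsPGroup.iff_card.1 hD2
  have hi0 : i ≠ 0 := by
    rintro rfl
    exact hM1 (Subgroup.card_eq_one.1 (by rw [hi, pow_zero]))
  have hr2 : r ≠ 2 := by
    rintro rfl
    haveI : (M.comap π).Normal := inferInstance
    have hle : M.comap π ≤ D := normal_le_pCore (IsPGroup.of_card (n := i + j) (by
      rw [hπ, card_comap_mk', hi, hj, pow_add]))
    refine hM1 ?_
    rw [← Subgroup.map_comap_eq_self_of_surjective (QuotientGroup.mk'_surjective D) M, Subgroup.map_eq_bot_iff,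
      QuotientGroup.ker_mk']
    exact hle
  have hMr : Nat.card M = r := by
    refine le_antisymm ?_ (by rw [hi]; exact Nat.le_self_pow hi0 r)
    obtain ⟨R⟩ : Nonempty (Sylow r (M.comap π)) := inferInstance
    have hRc : Nat.card (R : Subgroup (M.comap π)) = r ^ i := by
      rw [R.card_eq_multiplicity, hπ, card_comap_mk', hi, hj,
        Nat.factorization_mul (pow_ne_zero _ hr.ne_zero) (pow_ne_zero _ two_ne_zero),
        Finsupp.add_apply, Nat.factorization_pow, Nat.factorization_pow]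
      simp [hr.factorization_self, Nat.factorization_eq_zero_of_not_dvd
        (fun hd => hr2 ((Nat.prime_dvd_prime_iff_eq hr Nat.prime_two).1 hd))]
    have := hC.core_odd_card_le hcore hr2 (E := (R : Subgroup (M.comap π)).map (M.comap π).subtype) (by
      rintro _ ⟨e, he, rfl⟩
      have h1 : (π (e : L)) ^ r = 1 := hMel _ e.2
      rw [← map_pow] at h1
      obtain ⟨k, hk⟩ := IsPGroup.iff_orderOf.1 R.isPGroup' ⟨e, he⟩
      rw [Subgroup.orderOf_mk, ← Subgroup.orderOf_coe] at hk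
      have h2 : (e : L) ^ r ∈ D := (QuotientGroup.eq_one_iff _).1 h1
      exact Subgroup.mem_bot.1 ((IsPGroup.disjoint_of_ne r 2 hr2 (Subgroup.zpowers (e : L)) D
        (IsPGroup.of_card (n := k) (by rw [Nat.card_zpowers, hk])) hD2).le_bot
          ⟨pow_mem (Subgroup.mem_zpowers _) r, h2⟩))
    rwa [card_map_subtype, hRc, ← hi] at this
  have hdvd : r ∣ Nat.card (M.comap π) := by rw [hπ, card_comap_mk', hMr]; exact dvd_mul_right _ _
  obtain ⟨x₀, hx₀⟩ := exists_prime_orderOf_dvd_card' r hdvd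
  set x : L := (x₀ : L) with hxdef
  have hx : orderOf x = r := by rw [hxdef, Subgroup.orderOf_coe, hx₀]
  have hπx : orderOf (π x) = r := by
    rcases hr.eq_one_or_self_of_dvd _ (hx ▸ orderOf_map_dvd π x) with e | e
    · exfalso
      rw [orderOf_eq_one_iff] at e
      have hd := hx ▸ Subgroup.orderOf_dvd_natCard D ((QuotientGroup.eq_one_iff x).1 e)
      rw [hj] at hd
      exact hr2 ((Nat.prime_dvd_prime_iff_eq hr Nat.prime_two).1 (hr.dvd_of_dvd_pow hd))
    · exact e
  have hzM : Subgroup.zpowers (π x) = M := Subgroup.eq_of_le_of_card_ge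
    (Subgroup.zpowers_le.2 x₀.2) (by rw [Nat.card_zpowers, hπx, hMr])
  refine ⟨r, x, hr, hr2, hx, hπx, hzM ▸ hMn, ?_⟩
  rw [← Nat.not_even_iff_odd, even_iff_two_dvd]
  intro hd
  obtain ⟨⟨s, hs⟩, hso⟩ := exists_prime_orderOf_dvd_card' 2 hd
  rw [Subgroup.orderOf_mk] at hso
  have := (hC.quotient D hD2).eq_one_of_commute hso (y := π x) (by rw [hπx]; exact hr.odd_of_ne_two hr2)
    (Subgroup.mem_centralizer_singleton_iff.1 hs).symm
  rw [this, orderOf_one] at hπx
  exact hr.ne_one hπx.symm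

/-- An involution outside the core. -/
theorem CIT.exists_invol {r : ℕ} [Fact r.Prime] {x : L} (hr2 : r ≠ 2) (hxo : orderOf x = r)
    (hn : (Subgroup.zpowers (QuotientGroup.mk' (Cfsg.pCore 2 L) x)).Normal)
    (h2 : 2 ∣ Nat.card (L ⧸ Cfsg.pCore 2 L)) : ∃ i : L, orderOf i = 2 ∧ i ∉ Cfsg.pCore 2 L := by
  haveI : Fact (Nat.Prime 2) := ⟨Nat.prime_two⟩
  obtain ⟨q, hq⟩ := exists_prime_orderOf_dvd_card' 2 h2
  obtain ⟨i₀, rfl⟩ := QuotientGroup.mk'_surjective _ q
  obtain ⟨t, ht, hπt, -⟩ := hC.exists_invol_lift (pCore_isPGroup 2) hr2 hxo hq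
    (by rw [@Subgroup.normalizer_eq_top _ _ _ hn]; trivial)
  refine ⟨t, ht, fun hD => ?_⟩
  have : QuotientGroup.mk' (Cfsg.pCore 2 L) t = 1 := (QuotientGroup.eq_one_iff t).2 hD
  rw [← hπt, this, orderOf_one] at hq
  omega

/-- An offender on the centre of the core of a solvable local group. -/
theorem CIT.solvable_offender {r : ℕ} [Fact r.Prime] {x : L} (hr2 : r ≠ 2) (hxo : orderOf x = r)
    (hx : orderOf (QuotientGroup.mk' (Cfsg.pCore 2 L) x) = r)
    (hn : (Subgroup.zpowers (QuotientGroup.mk' (Cfsg.pCore 2 L) x)).Normal)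
    (hcodd : Odd (Nat.card (Subgroup.centralizer ({QuotientGroup.mk' (Cfsg.pCore 2 L) x} : Set (L ⧸ Cfsg.pCore 2 L)))))
    (hcore : Cfsg.pCore 2 L ≠ ⊥) {A : Subgroup L} [IsMulCommutative A] (hA : IsPGroup 2 A)
    (hAD : ¬ A ≤ Cfsg.pCore 2 L)
    (hV : Nat.card (omegaCen (Cfsg.pCore 2 L)) ≤
      Nat.card (A.map (QuotientGroup.mk' (Cfsg.pCore 2 L))) * Nat.card ↥(A ⊓ omegaCen (Cfsg.pCore 2 L))) :
    Nat.card (omegaCen (Cfsg.pCore 2 L)) = 4 ∧ Nat.card (L ⧸ Cfsg.pCore 2 L) = 6 ∧
      ∃ p q : L ⧸ Cfsg.pCore 2 L, p * q ≠ q * p := by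
  classical
  haveI : Fact (Nat.Prime 2) := ⟨Nat.prime_two⟩
  haveI := hn
  have hr : r.Prime := Fact.out
  set D := Cfsg.pCore 2 L with hD
  have hD2 : IsPGroup 2 D := pCore_isPGroup 2
  set π := QuotientGroup.mk' D with hπ
  set Z := Subgroup.zpowers (π x) with hZ
  haveI : Fact (Nat.card Z).Prime := ⟨by rw [Nat.card_zpowers, hx]; exact hr⟩
  let χ : L ⧸ D →* MulAut Z := MulAut.conjNormal
  have hker : χ.ker = Subgroup.centralizer ({π x} : Set (L ⧸ D)) := by
    ext g
    rw [MonoidHom.mem_ker, Subgroup.mem_centralizer_singleton_iff]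
    refine ⟨fun e => ?_, fun e => MulEquiv.ext fun w => Subtype.ext ?_⟩
    · have := congrArg Subtype.val (DFunLike.congr_fun e ⟨π x, Subgroup.mem_zpowers _⟩)
      simp only [χ, MulAut.conjNormal_apply, MulAut.one_apply] at this
      exact mul_inv_eq_iff_eq_mul.1 this
    · simp only [χ, MulAut.conjNormal_apply, MulAut.one_apply]
      obtain ⟨k, hk⟩ := Subgroup.mem_zpowers_iff.1 w.2
      rw [← hk]
      exact mul_inv_eq_iff_eq_mul.2 ((show Commute g (π x) from e).zpow_right k).eq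
  haveI : IsCyclic Z := Subgroup.isCyclic_zpowers _
  haveI : IsCyclic (MulAut Z) :=
    isCyclic_of_surjective (IsCyclic.mulAutMulEquiv Z).symm (MulEquiv.surjective _)
  have hautc : Nat.card (MulAut Z) = r - 1 := by
    rw [Nat.card_congr (IsCyclic.mulAutMulEquiv Z).toEquiv, Nat.card_eq_fintype_card, ZMod.card_units,
      Nat.card_zpowers, hx]
  -- the image of `A`
  set Ab := A.map π with hAb
  have hAb2 : IsPGroup 2 Ab := hA.map π
  have hinj : Function.Injective (χ.comp Ab.subtype) := by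
    rw [injective_iff_map_eq_one]
    rintro ⟨q, hq⟩ he
    have h1 : q ∈ Subgroup.centralizer ({π x} : Set (L ⧸ D)) := hker ▸ he
    obtain ⟨k, hk⟩ := IsPGroup.iff_orderOf.1 hAb2 ⟨q, hq⟩
    rw [Subgroup.orderOf_mk] at hk
    have h2 := hcodd.of_dvd_nat (Subgroup.orderOf_dvd_natCard _ h1)
    rw [hk] at h2
    rcases k with _ | k
    · exact Subtype.ext (orderOf_eq_one_iff.1 (hk.trans (pow_zero 2)))
    · exact absurd h2 (Nat.not_odd_iff_even.2 ((Nat.even_pow' k.succ_ne_zero).2 even_two))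
  haveI : IsCyclic Ab := isCyclic_of_injective _ hinj
  obtain ⟨j, hj⟩ := IsPGroup.iff_card.1 hAb2
  have hjr : 2 ^ j ≤ r - 1 := hautc ▸ hj ▸ Nat.card_le_card_of_injective _ hinj
  obtain ⟨⟨c, hc⟩, hcgen⟩ := IsCyclic.exists_ofOrder_eq_natCard (α := Ab)
  obtain ⟨a, haA, rfl⟩ := hc
  rw [← Subgroup.orderOf_coe, hj] at hcgen
  change orderOf (π a) = 2 ^ j at hcgen
  have hj0 : j ≠ 0 := by
    rintro rfl
    refine hAD fun b hb => ?_
    have hb1 : π b ∈ Ab := ⟨b, hb, rfl⟩
    rw [Subgroup.card_eq_one.1 (hj.trans (pow_zero 2)), Subgroup.mem_bot] at hb1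
    exact (QuotientGroup.eq_one_iff b).1 hb1
  set y₀ := a ^ 2 ^ (j - 1) with hy₀
  have hyo : orderOf (π y₀) = 2 := by
    rw [hy₀, map_pow, orderOf_pow_of_dvd (pow_ne_zero _ two_ne_zero) (hcgen ▸ Nat.pow_dvd_pow 2 (by omega)),
      hcgen, Nat.pow_div (by omega) two_pos, show j - (j - 1) = 1 by omega, pow_one]
  obtain ⟨y, hy, hπy, hyx⟩ := hC.exists_invol_lift hD2 hr2 hxo hyo
    (by rw [Subgroup.normalizer_eq_top]; trivial)
  set V := omegaCen D with hVdef
  haveI hVn : V.Normal := omegaCen_normal _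
  haveI hVc : IsMulCommutative V := omegaCen_comm _
  have hVD : V ≤ D := omegaCen_le _
  set C : L → Subgroup L := fun g => V ⊓ Subgroup.centralizer ({g} : Set L) with hCdef
  have hCmem : ∀ g v, v ∈ C g ↔ v ∈ V ∧ g * v * g⁻¹ = v := fun g v => by
    simp only [C, Subgroup.mem_inf, Subgroup.mem_centralizer_singleton_iff, mul_inv_eq_iff_eq_mul]
    exact and_congr_right fun _ => eq_comm
  have hxxodd : Odd (orderOf (x * x)) :=
    (hxo ▸ hr.odd_of_ne_two hr2 : Odd (orderOf x)).of_dvd_nat (by rw [← pow_two]; exact orderOf_pow_dvd 2)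
  have hxx1 : x * x ≠ 1 := fun e => hr2 ((Nat.prime_dvd_prime_iff_eq hr Nat.prime_two).1
    (hxo ▸ orderOf_dvd_of_pow_eq_one (by rw [pow_two]; exact e)))
  have hhalf := half_fixed (W := V) hy hyx (fun v hv => hVn.conj_mem v hv x) (fun v hv => hVn.conj_mem v hv y)
    fun v hv hcv => hC.fpf_mem hxxodd hxx1 hD2 (hVD hv) hcv
  have hDfix : ∀ d ∈ D, ∀ v ∈ V, d * v * d⁻¹ = v := fun d hd v hv => by
    rw [Subgroup.mem_centralizer_iff.1 hv.2.1 d hd, mul_inv_cancel_right]
  have hmodC : ∀ g g' : L, π g = π g' → C g = C g' := by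
    intro g g' e
    have hd : g⁻¹ * g' ∈ D := QuotientGroup.eq.1 e
    have e' : ∀ v ∈ V, g' * v * g'⁻¹ = g * v * g⁻¹ := fun v hv => by
      calc g' * v * g'⁻¹ = g * ((g⁻¹ * g') * v * (g⁻¹ * g')⁻¹) * g⁻¹ := by group
        _ = _ := by rw [hDfix _ hd v hv]
    ext v
    rw [hCmem, hCmem]
    exact and_congr_right fun hv => by rw [e' v hv]
  have hCy : C y = C y₀ := hmodC _ _ hπy
  have hCa : C a ≤ C y₀ := fun v hv => by
    obtain ⟨hvV, e⟩ := (hCmem a v).1 hv
    exact ⟨hvV, Subgroup.mem_centralizer_singleton_iff.2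
      (((show Commute a v from mul_inv_eq_iff_eq_mul.1 e).pow_left _)).eq.symm⟩
  have hAa : A ⊓ V ≤ C a := fun v hv => (hCmem a v).2 ⟨hv.2, by
    have e : a * v = v * a := congrArg Subtype.val (mul_comm' (⟨a, haA⟩ : A) ⟨v, hv.1⟩)
    rw [e, mul_inv_cancel_right]⟩
  obtain ⟨k, hk⟩ := IsPGroup.iff_card.1 ((hD2.to_le hVD).to_le (inf_le_left : C y₀ ≤ V))
  have hVk : Nat.card V = 2 ^ k * 2 ^ k := by
    rw [← hk, show Nat.card ↥(C y₀) = Nat.card ↥(V ⊓ Subgroup.centralizer ({y} : Set L)) from by rw [← hCy]]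
    exact hhalf
  have hle1 : Nat.card V ≤ 2 ^ j * Nat.card (C a) := by
    refine hV.trans ?_
    rw [← hj]
    exact Nat.mul_le_mul_left _ (Nat.card_le_card_of_injective _ (Subgroup.inclusion_injective hAa))
  have hle2 : Nat.card (C a) ≤ 2 ^ k := hk ▸ Nat.card_le_card_of_injective _ (Subgroup.inclusion_injective hCa)
  have hkj : 2 ^ k ≤ 2 ^ j := Nat.le_of_mul_le_mul_right
    (hVk ▸ hle1.trans (Nat.mul_le_mul_left _ hle2)) (pow_pos two_pos k)
  have hV1 : 1 < Nat.card V := (Subgroup.one_lt_card_iff_ne_bot _).2 (omegaCen_ne_bot hD2 hcore)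
  have hk1 : 2 ≤ 2 ^ k := by
    by_contra hlt
    have : 2 ^ k = 1 := by have := Nat.one_le_two_pow (n := k); omega
    rw [hVk, this] at hV1
    omega
  -- `x` has no fixed points on `V`
  have hmod : r ∣ 2 ^ k * 2 ^ k - 1 := by
    letI : MulAction (Subgroup.zpowers x) V :=
      MulAction.compHom V ((MulAut.conjNormal (H := V)).comp (Subgroup.zpowers x).subtype)
    have hp : IsPGroup r (Subgroup.zpowers x) :=
      IsPGroup.of_card (n := 1) (by rw [Nat.card_zpowers, hxo, pow_one])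
    have hm := hp.card_modEq_card_fixedPoints V
    have hone : Nat.card (MulAction.fixedPoints (Subgroup.zpowers x) V) = 1 := by
      rw [Nat.card_eq_one_iff_unique]
      refine ⟨⟨fun v w => Subtype.ext ?_⟩, ⟨⟨1, fun g => map_one (MulAut.conjNormal (H := V) (g : L))⟩⟩⟩
      have key : ∀ v : MulAction.fixedPoints (Subgroup.zpowers x) V, (v : V) = 1 := fun v => by
        have h1 : x * ((v : V) : L) * x⁻¹ = ((v : V) : L) :=
          congrArg Subtype.val (v.2 ⟨x, Subgroup.mem_zpowers x⟩)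
        exact Subtype.ext (hC.fpf_mem (hxo ▸ hr.odd_of_ne_two hr2)
          (fun e => hr.ne_one (by rw [← hxo, e, orderOf_one])) hD2 (hVD (v : V).2)
          (mul_inv_eq_iff_eq_mul.1 h1))
      rw [key v, key w]
    rw [hone, hVk] at hm
    exact (Nat.modEq_iff_dvd' (Nat.one_le_iff_ne_zero.2 (by positivity))).1 hm.symm
  have hr' : r ≤ 2 ^ k + 1 := by
    obtain ⟨K, hK⟩ : ∃ K, 2 ^ k = K + 1 := ⟨2 ^ k - 1, by omega⟩
    rw [hK, show (K + 1) * (K + 1) - 1 = K * (K + 2) by
      rw [show (K + 1) * (K + 1) = K * (K + 2) + 1 by ring, Nat.add_sub_cancel]] at hmod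
    rcases hr.dvd_mul.1 hmod with h' | h'
    · have := Nat.le_of_dvd (by omega) h'; omega
    · have := Nat.le_of_dvd (by omega) h'; omega
  have hkeq : k = j := le_antisymm ((Nat.pow_le_pow_iff_right (by norm_num)).1 hkj)
    ((Nat.pow_le_pow_iff_right (by norm_num : 1 < 2)).1 (by omega))
  subst hkeq
  have hCeq : C a = C y₀ := Subgroup.eq_of_le_of_card_ge hCa (by
    rw [hk]
    exact Nat.le_of_mul_le_mul_left (hVk ▸ hle1) (pow_pos two_pos k))
  have hk_one : k = 1 := by
    by_contra hne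
    have hcomm : ∀ u v : L, u ∈ V → v ∈ V → u * v = v * u := fun u v hu hv =>
      congrArg Subtype.val (hVc.is_comm.comm ⟨u, hu⟩ ⟨v, hv⟩)
    have hsq : ∀ v ∈ V, v * v = 1 := fun v hv => hv.2.2
    let f : L → L → L := fun g v => g * v * g⁻¹ * v
    have hfmem : ∀ g v, v ∈ V → f g v ∈ V := fun g v hv => mul_mem (hVn.conj_mem v hv g) hv
    have hf1 : ∀ g v, v ∈ V → (f g v = 1 ↔ v ∈ C g) := fun g v hv => by
      rw [hCmem]
      refine ⟨fun e => ⟨hv, (eq_inv_of_mul_eq_one_left e).trans (inv_eq_of_mul_eq_one_right (hsq v hv))⟩,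
        fun e => ?_⟩
      show g * v * g⁻¹ * v = 1
      rw [e.2, hsq v hv]
    have hff : ∀ g v, v ∈ V → f g (f g v) = f (g * g) v := fun g v hv => by
      show g * (g * v * g⁻¹ * v) * g⁻¹ * (g * v * g⁻¹ * v) = g * g * v * (g * g)⁻¹ * v
      rw [show g * (g * v * g⁻¹ * v) * g⁻¹ * (g * v * g⁻¹ * v) =
        g * g * v * (g * g)⁻¹ * ((g * v * g⁻¹) * (g * v * g⁻¹)) * v by group, hsq _ (hVn.conj_mem v hv g), mul_one]
    have hfix : ∀ g, C g = C (g * g) → C (g * g) = C (g * g * (g * g)) := by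
      intro g hg
      refine le_antisymm (fun v hv => ?_) (fun v hv => ?_)
      · rw [hCmem] at hv ⊢
        refine ⟨hv.1, ?_⟩
        rw [show g * g * (g * g) * v * (g * g * (g * g))⁻¹ = g * g * (g * g * v * (g * g)⁻¹) * (g * g)⁻¹ by group,
          hv.2, hv.2]
      · have hvV := ((hCmem _ v).1 hv).1
        have hw : f (g * g) v ∈ C g := by
          rw [hg, ← hf1 _ _ (hfmem _ _ hvV), hff _ _ hvV, hf1 _ _ hvV]
          exact hv
        have hu : f g v ∈ C g := by
          rw [hg, ← hf1 _ _ (hfmem _ _ hvV), ← hff g _ (hfmem g v hvV), hff g v hvV,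
            hf1 g _ (hfmem _ _ hvV)]
          exact hw
        rw [← hf1 _ _ hvV, ← hff g v hvV, hf1 g _ (hfmem g v hvV)]
        exact hu
    have hstep : ∀ m g, (∀ v ∈ V, v ∈ C (g ^ 2 ^ m)) → C g = C (g * g) → ∀ v ∈ V, v ∈ C g := by
      intro m
      induction m with
      | zero =>
        intro g hg _ v hv
        simpa using hg v hv
      | succ m ih =>
        intro g hg he v hv
        rw [he]
        refine ih (g * g) (fun w hw => ?_) (hfix g he) v hv
        have := hg w hw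
        rwa [pow_succ', pow_mul, pow_two] at this
    have hsq' : C a = C (a * a) := le_antisymm
      (fun v hv => ⟨hv.1, Subgroup.mem_centralizer_singleton_iff.2
        (((Subgroup.mem_centralizer_singleton_iff.1 hv.2 : v * a = a * v)
          |> fun e => (show Commute v a from e).mul_right e).eq)⟩)
      (fun v hv => by
        rw [hCeq]
        refine ⟨hv.1, Subgroup.mem_centralizer_singleton_iff.2 ?_⟩
        rw [hy₀, show 2 ^ (k - 1) = 2 * 2 ^ (k - 2) by rw [← pow_succ']; congr 1; omega, pow_mul, pow_two]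
        exact ((show Commute v (a * a) from Subgroup.mem_centralizer_singleton_iff.1 hv.2).pow_right _).eq)
    have hall : ∀ v ∈ V, v ∈ C a := hstep k a (fun v hv => (hCmem _ v).2 ⟨hv, by
      have hd : a ^ 2 ^ k ∈ D := by
        rw [← QuotientGroup.eq_one_iff]
        show π (a ^ 2 ^ k) = 1
        rw [map_pow, ← hcgen, pow_orderOf_eq_one]
      exact hDfix _ hd v hv⟩) hsq'
    have hVC : Nat.card V ≤ 2 ^ k := le_trans
      (Nat.card_le_card_of_injective _ (Subgroup.inclusion_injective (show V ≤ C a from hall))) hle2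
    rw [hVk] at hVC
    nlinarith
  subst hk_one
  have hr3 : r = 3 := by
    have := hr.two_le
    simp only [pow_one] at hr' hjr
    omega
  subst hr3
  have hV4 : Nat.card V = 4 := by rw [hVk]; norm_num
  have hyπ : orderOf (π y) = 2 := hπy ▸ hyo
  refine ⟨hV4, ?_, π x, π y, fun e => ?_⟩
  · -- the centralizer of the normal subgroup has order three
    set K := Subgroup.centralizer ({π x} : Set (L ⧸ D)) with hK
    have hK3 : Nat.card K ≤ 3 := by
      obtain ⟨v, hv, hvo⟩ := exists_invol_mem (hD2.to_le hVD) (omegaCen_ne_bot hD2 hcore)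
      let f : K → {w : V // w ≠ 1} := fun c => ⟨⟨Quotient.out (c : L ⧸ D) * v * (Quotient.out (c : L ⧸ D))⁻¹,
        hVn.conj_mem v hv _⟩, fun e => by
          have e' : Quotient.out (c : L ⧸ D) * v * (Quotient.out (c : L ⧸ D))⁻¹ = 1 := congrArg Subtype.val e
          rw [conj_eq_one_iff] at e'
          rw [e', orderOf_one] at hvo
          omega⟩
      have hf : Function.Injective f := by
        intro c d e
        have e' : Quotient.out (c : L ⧸ D) * v * (Quotient.out (c : L ⧸ D))⁻¹ =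
            Quotient.out (d : L ⧸ D) * v * (Quotient.out (d : L ⧸ D))⁻¹ :=
          congrArg (fun w => ((w.1 : V) : L)) e
        set g := (Quotient.out (d : L ⧸ D))⁻¹ * Quotient.out (c : L ⧸ D) with hg
        have hgv : Commute g v := mul_inv_eq_iff_eq_mul.1 (by
          rw [hg, show (Quotient.out (d : L ⧸ D))⁻¹ * Quotient.out (c : L ⧸ D) * v *
            ((Quotient.out (d : L ⧸ D))⁻¹ * Quotient.out (c : L ⧸ D))⁻¹ = (Quotient.out (d : L ⧸ D))⁻¹ *
            (Quotient.out (c : L ⧸ D) * v * (Quotient.out (c : L ⧸ D))⁻¹) * Quotient.out (d : L ⧸ D) by group, e']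
          group)
        obtain ⟨m, hm⟩ := hC.two_of_commute hvo hgv
        have hgK : π g = (d : L ⧸ D)⁻¹ * c := by
          rw [hg, map_mul, map_inv]
          simp only [π, QuotientGroup.mk'_apply, QuotientGroup.out_eq']
        have h1 : orderOf ((d : L ⧸ D)⁻¹ * c) ∣ 2 ^ m := hgK ▸ hm ▸ orderOf_map_dvd π g
        have h2 : orderOf ((d : L ⧸ D)⁻¹ * c) ∣ Nat.card K :=
          Subgroup.orderOf_dvd_natCard K (mul_mem (inv_mem d.2) c.2)
        have h3 := Nat.dvd_gcd h1 h2
        rw [(Nat.Coprime.pow_left m (Nat.coprime_two_left.2 hcodd)).gcd_eq_one, Nat.dvd_one,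
          orderOf_eq_one_iff, inv_mul_eq_one] at h3
        exact Subtype.ext h3.symm
      refine (Nat.card_le_card_of_injective f hf).trans ?_
      rw [EPPO.card_ne_one_eq, hV4]
    have hKx : Nat.card K = 3 := le_antisymm hK3 (Nat.le_of_dvd Nat.card_pos
      (hx ▸ Subgroup.orderOf_dvd_natCard K (Subgroup.mem_centralizer_singleton_iff.2 rfl)))
    have h1 := χ.ker.card_mul_index
    rw [Subgroup.index_ker, hker, hKx] at h1
    have h2 : Nat.card χ.range ∣ 2 := by
      have := Subgroup.card_subgroup_dvd_card χ.range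
      rwa [hautc] at this
    have h3 : 2 ∣ Nat.card (L ⧸ D) := hyπ ▸ orderOf_dvd_natCard (π y)
    rcases (Nat.dvd_prime Nat.prime_two).1 h2 with e | e <;> rw [e] at h1
    · rw [← h1] at h3; norm_num at h3
    · rw [← h1]
  · have hyx' : π y * π x * (π y)⁻¹ = (π x)⁻¹ := by rw [← map_inv, ← map_inv, ← map_mul, ← map_mul, hyx]
    rw [← e, mul_inv_cancel_right] at hyx'
    have h2 : π x * π x = 1 := by nth_rewrite 2 [hyx']; exact mul_inv_cancel _
    have h3 : orderOf (π x) ∣ 2 := orderOf_dvd_of_pow_eq_one (by rw [pow_two]; exact h2)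
    rw [hx] at h3
    norm_num at h3

end Solvable

/-- In a solvable local group the chosen subgroup is normal, unless the core is a self-centralizing four-group. -/
theorem local_char_solvable {S : Type u} [Group S] [Finite S] (hC : CIT L) (hsolv : Group.IsSolvable L)
    (hcore : Cfsg.pCore 2 L ≠ ⊥) (τ : S →* L) (hτ : Function.Injective τ) (P : Sylow 2 L)
    (hP : (P : Subgroup L) = τ.range) (hPn : ¬ (P : Subgroup L).Normal) :
    ((cS S).map τ).Normal ∨
      (Nat.card (Cfsg.pCore 2 L) = 4 ∧ (∀ d ∈ Cfsg.pCore 2 L, d * d = 1) ∧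
        Subgroup.centralizer (Cfsg.pCore 2 L : Set L) = Cfsg.pCore 2 L) := by
  classical
  haveI : Fact (Nat.Prime 2) := ⟨Nat.prime_two⟩
  haveI := pCore_normal (G := L) 2
  have hPn' : ∀ Q : Sylow 2 L, ¬ (Q : Subgroup L).Normal := fun Q hQ => hPn (by
    haveI := Sylow.unique_of_normal Q hQ
    rw [Subsingleton.elim P Q]
    exact hQ)
  have hS : IsPGroup 2 S := range_two τ hτ P hP
  set D := Cfsg.pCore 2 L with hD
  have hD2 : IsPGroup 2 D := pCore_isPGroup 2
  have hDP : D ≤ (P : Subgroup L) := core_le_sylow P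
  have hDr : D ≤ τ.range := hP ▸ hDP
  have hcl : Subgroup.centralizer (D : Set L) ≤ D := hC.centralizer_le_core hD2 hcore
  by_cases hJ : ∀ A ∈ Cfsg.maxAbelianSubgroups S, A.map τ ≤ D
  · exact Or.inl (cS_normal_of_no_offender τ hτ P hP hC hcore hJ)
  obtain ⟨A, hAP, hAc, hAD, hmax⟩ := exists_offender τ hτ P hP hJ
  haveI := hAc
  haveI := omegaCen_comm D
  haveI := omegaCen_normal D
  obtain ⟨r, x, hr, hr2, hxo, hx, hn, hcodd⟩ := hC.exists_data hsolv hcore hPn'
  haveI := Fact.mk hr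
  obtain ⟨hV4, h6, hna⟩ := hC.solvable_offender hr2 hxo hx hn hcodd hcore (P.isPGroup'.to_le hAP) hAD
    (offender_le (omegaCen_le D) hAP hmax fun a _ ha w hw => Subgroup.mem_centralizer_iff.1 hw.2.1 a ha)
  clear hn hxo hx hcodd
  haveI : Nontrivial S := by
    rcases subsingleton_or_nontrivial S with hsub | hnt
    · exfalso
      refine hcore (eq_bot_iff.2 fun d hd => ?_)
      obtain ⟨a, rfl⟩ := hDr hd
      rw [Subgroup.mem_bot, Subsingleton.elim a 1, map_one]
    · exact hnt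
  have hcen : ∀ X : Subgroup L, X.Normal → X ≠ ⊥ → IsPGroup 2 X →
      Subgroup.centralizer (X : Set L) ≤ D := fun X hX hne hXp => by
    haveI := hX
    exact hC.centralizer_le_core hXp hne
  by_cases hbig : IsPGroup 2 S ∧ Big S
  · left
    unfold cS
    rw [dif_pos hbig]
    obtain ⟨h1, -, -, -, h1c, -, -, hpair⟩ := (exists_pair S hbig.1 hbig.2).choose_spec.choose_spec
    have hidx : (P : Subgroup L).index = 3 := by
      obtain ⟨m, hm⟩ := IsPGroup.iff_card.1 hD2
      have hc : Nat.card L = 2 ^ (m + 1) * 3 := by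
        rw [D.card_eq_card_quotient_mul_card_subgroup, h6, hm]
        ring
      have hPc : Nat.card (P : Subgroup L) = 2 ^ (m + 1) := by
        rw [P.card_eq_multiplicity, hc, Nat.factorization_mul (pow_ne_zero _ two_ne_zero) (by norm_num),
          Finsupp.add_apply, Nat.factorization_pow]
        simp [Nat.prime_two.factorization_self, Nat.factorization_eq_zero_of_not_dvd (show ¬ 2 ∣ 3 by norm_num)]
      have := (P : Subgroup L).card_mul_index
      rw [hPc, hc] at this
      exact Nat.eq_of_mul_eq_mul_left (pow_pos two_pos _) this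
    have hco : IsCoatom (P : Subgroup L) := by
      refine ⟨fun e => by rw [e, Subgroup.index_top] at hidx; omega, fun M hM => ?_⟩
      have hd := Subgroup.index_dvd_of_le hM.le
      rw [hidx] at hd
      rcases (Nat.dvd_prime Nat.prime_three).1 hd with e | e
      · exact Subgroup.index_eq_one.1 e
      · exfalso
        have h1 := (P : Subgroup L).card_mul_index
        have h2 := M.card_mul_index
        rw [hidx] at h1
        rw [e, ← h1] at h2
        exact hM.ne (Subgroup.eq_of_le_of_card_ge hM.le (Nat.eq_of_mul_eq_mul_right (by norm_num) h2).le)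
    rcases hpair L τ hτ ⟨P, hP⟩ hcl
      ⟨P, ⟨hco, hP.ge⟩, fun M hM => by
        by_contra hne
        exact hM.1.1 (hco.2 M (lt_of_le_of_ne (hP ▸ hM.2) (Ne.symm hne)))⟩
      ⟨D, inferInstance, ZMod 2, inferInstance, inferInstance, 1, le_rfl, by simp,
        psl_two_iso (L ⧸ D) h6 hna⟩ with hn1 | hn2
    · exfalso
      refine hPn ?_
      have hle : (P : Subgroup L) ≤ D := by
        refine le_trans ?_ (hcen _ hn1 (fun e => h1 ((Subgroup.map_eq_bot_iff_of_injective _ hτ).1 e))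
          ((hS.to_subgroup _).map τ))
        rw [hP]
        rintro _ ⟨a, rfl⟩
        refine Subgroup.mem_centralizer_iff.2 ?_
        rintro _ ⟨z, hz, rfl⟩
        rw [← map_mul, ← map_mul, Subgroup.mem_center_iff.1 (h1c hz) a]
      rw [le_antisymm hle hDP]
      infer_instance
    · exact hn2
  · right
    have hnb : ⁅frattini S, (⊤ : Subgroup S)⁆ = ⊥ := by
      by_contra hne
      exact hbig ⟨hS, Or.inr fun e => hne (le_bot_iff.1 (le_sup_left.trans e.le))⟩
    -- commutators of the core with an outside involution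
    obtain ⟨r, x, hr, hr2, hxo, hx, hn, -⟩ := hC.exists_data hsolv hcore hPn'
    haveI := Fact.mk hr
    haveI := hn
    obtain ⟨i, hio, hiD⟩ := hC.exists_invol hr2 hxo hn (h6 ▸ ⟨3, rfl⟩)
    set π := QuotientGroup.mk' D with hπ
    have hr3 : r = 3 := by
      have hd := orderOf_dvd_natCard (π x)
      rw [hx, h6] at hd
      rcases hr.dvd_mul.1 (show r ∣ 2 * 3 from hd) with e | e
      · exact absurd ((Nat.prime_dvd_prime_iff_eq hr Nat.prime_two).1 e) hr2
      · exact (Nat.prime_dvd_prime_iff_eq hr Nat.prime_three).1 e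
    subst hr3
    have hcomm : ∀ y : L, orderOf y = 2 → ∀ d ∈ D, ⁅d, y⁆ ∈ omegaCen D := by
      intro y hy d hd
      obtain ⟨Q, hQ⟩ := (IsPGroup.of_card (n := 1) (by rw [Nat.card_zpowers, hy, pow_one]) :
        IsPGroup 2 (Subgroup.zpowers y)).exists_le_sylow
      obtain ⟨g, hg⟩ := MulAction.exists_smul_eq L Q P
      have hyP : g * y * g⁻¹ ∈ τ.range := by
        rw [← hP, ← hg]
        exact ⟨y, hQ (Subgroup.mem_zpowers y), rfl⟩
      have hdD : g * d * g⁻¹ ∈ D := Subgroup.Normal.conj_mem inferInstance d hd g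
      obtain ⟨a, ha⟩ := hDr hdD
      obtain ⟨b, hb⟩ := hyP
      have hab : ∀ s : S, ⁅a, b⁆ * s = s * ⁅a, b⁆ := fun s => by
        have hmem : ⁅a, b⁆ ∈ frattini S := commutator_le_frattini_pgroup hS
          (Subgroup.commutator_mem_commutator (Subgroup.mem_top a) (Subgroup.mem_top b))
        exact commutatorElement_eq_one_iff_mul_comm.1 (by
          rw [← Subgroup.mem_bot, ← hnb]
          exact Subgroup.commutator_mem_commutator hmem (Subgroup.mem_top s))
      have he : g * ⁅d, y⁆ * g⁻¹ = τ ⁅a, b⁆ := by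
        simp only [commutatorElement_def, map_mul, map_inv, ha, hb]
        group
      have heD : ⁅d, y⁆ ∈ D := by
        rw [commutatorElement_def, show d * y * d⁻¹ * y⁻¹ = d * (y * d⁻¹ * y⁻¹) by group]
        exact mul_mem hd (Subgroup.Normal.conj_mem inferInstance _ (inv_mem hd) y)
      have hcy : ∀ s : S, Commute (g * ⁅d, y⁆ * g⁻¹) (τ s) := fun s => by
        rw [he, Commute, SemiconjBy, ← map_mul, ← map_mul, hab s]
      refine ⟨heD, Subgroup.mem_centralizer_iff.2 fun w hw => ?_, ?_⟩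
      · obtain ⟨s, hs⟩ := hDr (Subgroup.Normal.conj_mem inferInstance w hw g)
        have := (hcy s).eq
        rw [hs, show g * ⁅d, y⁆ * g⁻¹ * (g * w * g⁻¹) = g * (⁅d, y⁆ * w) * g⁻¹ by group,
          show g * w * g⁻¹ * (g * ⁅d, y⁆ * g⁻¹) = g * (w * ⁅d, y⁆) * g⁻¹ by group] at this
        exact (mul_left_cancel (mul_right_cancel this)).symm
      · have h2 : ⁅d, y⁆ * y = y * ⁅d, y⁆ := by
          have := (hcy b).eq
          rw [hb, show g * ⁅d, y⁆ * g⁻¹ * (g * y * g⁻¹) = g * (⁅d, y⁆ * y) * g⁻¹ by group,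
            show g * y * g⁻¹ * (g * ⁅d, y⁆ * g⁻¹) = g * (y * ⁅d, y⁆) * g⁻¹ by group] at this
          exact mul_left_cancel (mul_right_cancel this)
        have hyy : y * y = 1 := mul_self_of_orderOf_two hy
        have hyi : y⁻¹ = y := inv_eq_of_mul_eq_one_right hyy
        have h3 : y * ⁅d, y⁆ * y = ⁅d, y⁆⁻¹ := by
          simp only [commutatorElement_def, mul_inv_rev, inv_inv, hyi]
          calc y * (d * y * d⁻¹ * y) * y = y * d * y * d⁻¹ * (y * y) := by group
            _ = y * (d * (y * d⁻¹)) := by rw [hyy]; group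
        rw [← h2, mul_assoc, hyy, mul_one] at h3
        exact eq_inv_iff_mul_eq_one.1 h3
    -- an element of order three fixes the cosets of the involution part
    have hπi : orderOf (π i) = 2 := by
      rcases (Nat.dvd_prime Nat.prime_two).1 (hio ▸ orderOf_map_dvd π i) with e | e
      · exact absurd ((QuotientGroup.eq_one_iff i).1 (orderOf_eq_one_iff.1 e)) hiD
      · exact e
    have hix := (hC.quotient D hD2).inverts hπi (A := Subgroup.zpowers (π x)) (by rw [Nat.card_zpowers, hx]; decide) (fun a ha => hn.conj_mem a ha _) _ (Subgroup.mem_zpowers _)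
    set z := x * i * x⁻¹ * i with hz
    have hzπ : π z = π x * π x := by
      have hii : (π i)⁻¹ = π i := inv_eq_of_mul_eq_one_right (mul_self_of_orderOf_two hπi)
      have hp : π i * (π x)⁻¹ * π i = π x := by
        have h' := congrArg (·⁻¹) hix
        simp only [mul_inv_rev, inv_inv] at h'
        rw [← mul_assoc] at h'
        calc π i * (π x)⁻¹ * π i = π i * (π x)⁻¹ * (π i)⁻¹ := by rw [hii]
          _ = π x := h'
      rw [hz, map_mul, map_mul, map_mul, map_inv]
      calc π x * π i * (π x)⁻¹ * π i = π x * (π i * (π x)⁻¹ * π i) := by group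
        _ = π x * π x := by rw [hp]
    have hzπo : orderOf (π z) = 3 := by
      rw [hzπ, ← pow_two, (show (orderOf (π x)).Coprime 2 by rw [hx]; norm_num).orderOf_pow, hx]
    have hfix : ∀ d ∈ D, z * d * z⁻¹ = d → d = 1 := fun d hd e => by
      have hd' : 3 ∣ orderOf z := hzπo ▸ orderOf_map_dvd π z
      have hw : orderOf (z ^ (orderOf z / 3)) = 3 := orderOf_pow_orderOf_div (orderOf_pos z).ne' hd'
      exact hC.fpf_mem (by rw [hw]; decide) (fun e' => by rw [e', orderOf_one] at hw; omega) hD2 hd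
        ((show Commute z d from mul_inv_eq_iff_eq_mul.1 e).pow_left _)
    set V := omegaCen D with hV
    haveI hVn : V.Normal := omegaCen_normal D
    have hzd : ∀ d ∈ D, z * d * z⁻¹ * d⁻¹ ∈ V := by
      intro d hd
      have hj : orderOf (x * i * x⁻¹) = 2 := by
        rw [show x * i * x⁻¹ = (MulAut.conj x).toMonoidHom i by simp,
          orderOf_injective _ (MulAut.conj x).injective, hio]
      set d' := i * d * i⁻¹
      have hd' : d' ∈ D := Subgroup.Normal.conj_mem inferInstance d hd i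
      rw [show z * d * z⁻¹ * d⁻¹ = ⁅d', x * i * x⁻¹⁆⁻¹ * ⁅d, i⁆⁻¹ by
        simp only [hz, d', commutatorElement_def]; group]
      exact mul_mem (inv_mem (hcomm _ hj d' hd')) (inv_mem (hcomm _ hio d hd))
    let ψ : V → V := fun w => ⟨z * w * z⁻¹ * (w : L)⁻¹, mul_mem (hVn.conj_mem _ w.2 z) (inv_mem w.2)⟩
    have hψ : Function.Injective ψ := fun u v e => by
      have e' : z * (u : L) * z⁻¹ * (u : L)⁻¹ = z * v * z⁻¹ * (v : L)⁻¹ := congrArg Subtype.val e
      have hmem : (v : L)⁻¹ * u ∈ D := omegaCen_le D (mul_mem (inv_mem v.2) u.2)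
      refine Subtype.ext (inv_mul_eq_one.1 (hfix _ hmem ?_)).symm
      haveI := omegaCen_comm D
      have hc : (v : L)⁻¹ * u = u * (v : L)⁻¹ :=
        congrArg Subtype.val (mul_comm' (⟨(v : L)⁻¹, inv_mem v.2⟩ : V) u)
      rw [mul_inv_eq_iff_eq_mul] at e'
      calc z * ((v : L)⁻¹ * u) * z⁻¹ = (z * v * z⁻¹)⁻¹ * (z * u * z⁻¹) := by group
        _ = (z * v * z⁻¹)⁻¹ * (z * v * z⁻¹ * (v : L)⁻¹ * u) := by rw [← e']
        _ = (v : L)⁻¹ * u := by group
    have hDV : ∀ d ∈ D, d ∈ V := by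
      intro d hd
      obtain ⟨w, hw⟩ := (Finite.injective_iff_surjective.1 hψ) ⟨_, hzd d hd⟩
      have e : z * (w : L) * z⁻¹ * (w : L)⁻¹ = z * d * z⁻¹ * d⁻¹ := congrArg Subtype.val hw
      have hfix' : z * ((w : L)⁻¹ * d) * z⁻¹ = (w : L)⁻¹ * d := by
        calc z * ((w : L)⁻¹ * d) * z⁻¹ = (z * w * z⁻¹ * (w : L)⁻¹ * w)⁻¹ * (z * d * z⁻¹ * d⁻¹) * d := by group
          _ = (z * d * z⁻¹ * d⁻¹ * w)⁻¹ * (z * d * z⁻¹ * d⁻¹) * d := by rw [e]
          _ = (w : L)⁻¹ * d := by group
      have := hfix _ (mul_mem (inv_mem (omegaCen_le D w.2)) hd) hfix'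
      rw [← inv_mul_eq_one.1 this]
      exact w.2
    have hDeq : D = V := le_antisymm hDV (omegaCen_le D)
    refine ⟨(congrArg (fun H : Subgroup L => Nat.card H) hDeq).trans hV4, fun d hd => (hDV d hd).2.2,
      le_antisymm hcl fun d hd => (hDV d hd).2.1⟩

end Cfsg.Agent.Solv.CITGroups
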